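import Cfsg.Agent.Lib.Small.Orders6232.Tools
import Cfsg.Agent.Lib.Small.OrdersExcluded
import Cfsg.Agent.S1010

/-!
Orders of no simple group, excluded by fixed points of centralizers.
-/

set_option autoImplicit false
set_option linter.unusedSectionVars false
set_option linter.style.haveILetI false

open Cfsg.Agent.CommFix

namespace Cfsg.Agent.Ord6232

variable {G : Type*} [Group G] [Finite G] [IsSimpleGroup G]

theorem card_ne_4725 : Nat.card G ≠ 4725 := by
  intro hn
  haveI : Fact (Nat.Prime 5) := ⟨by norm_num⟩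
  have hG := Small.not_comm_of_card (G := G) (by rw [hn]; norm_num)
  have hm := Small.sylow_number_mem (G := G) (p := 5) (k := 2) (m := 189) (by rw [hn]; norm_num) (by norm_num)
  rw [show (Nat.divisors 189).filter (fun d => d % 5 = 1) = {1, 21} by decide +kernel,
    Finset.mem_insert, Finset.mem_singleton] at hm
  exact S1010.result (hm.resolve_left (Small.sylow_number_ne_one hG (by rw [hn]; norm_num)))

/-- No Sylow subgroup of order `121` when there are twelve of them. -/
theorem card_ne_of_twelve {m : ℕ} (hm : ¬ 11 ∣ m)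
    (hd : (m.divisors.filter (fun d => d % 11 = 1)) = {1, 12}) : Nat.card G ≠ 11 ^ 2 * m := by
  intro hn
  haveI : Fact (Nat.Prime 11) := ⟨by norm_num⟩
  have hnp : ¬ (Nat.card G).Prime := by
    rw [hn, pow_two, mul_assoc]
    refine Nat.not_prime_mul (by norm_num) fun h => ?_
    exact absurd (Nat.eq_one_of_mul_eq_one_right h) (by norm_num)
  have hG := Small.not_comm_of_card hnp
  have hmem := Small.sylow_number_mem hn hm
  have h11 : 11 ∣ Nat.card G := hn ▸ dvd_mul_of_dvd_left (dvd_pow_self 11 two_ne_zero) m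
  rw [hd, Finset.mem_insert, Finset.mem_singleton] at hmem
  have h := Small.factorial_bound (p := 11) hG h11
  rw [hmem.resolve_left (Small.sylow_number_ne_one hG h11), hn] at h
  have h2 : 11 ^ 2 ∣ Nat.factorial 12 := (dvd_mul_of_dvd_right (dvd_mul_right _ m) 2).trans h
  norm_num [Nat.factorial] at h2

theorem card_ne_4356 : Nat.card G ≠ 4356 := fun h =>
  card_ne_of_twelve (m := 36) (by norm_num) (by decide +kernel) (h.trans (by norm_num))

theorem card_ne_5808 : Nat.card G ≠ 5808 := fun h =>
  card_ne_of_twelve (m := 48) (by norm_num) (by decide +kernel) (h.trans (by norm_num))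

theorem card_ne_6160 : Nat.card G ≠ 6160 := by
  intro hn
  haveI : Fact (Nat.Prime 7) := ⟨by norm_num⟩
  have hnp : ¬ (Nat.card G).Prime := by rw [hn]; norm_num
  have hG := Small.not_comm_of_card hnp
  obtain ⟨P, hP, hmem, -, hN, hne⟩ := OrdersExcl.setup hG (p := 7) 880 hn (by norm_num) (by norm_num)
  rw [show ((Nat.divisors 880).filter (fun d => d % 7 = 1)).erase 1 = {8, 22, 176} by decide +kernel] at hmem
  simp only [Finset.mem_insert, Finset.mem_singleton] at hmem
  rcases hmem with h | h | h <;> rw [h] at hN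
  · have := Small.factorial_bound (p := 7) hG (by rw [hn]; norm_num)
    rw [h, hn] at this
    norm_num [Nat.factorial] at this
  · have hC := card_centralizer_cases hnp P hP (n := 280) (by norm_num) (by omega)
    rw [show (Nat.divisors 280).filter (fun c => 7 ∣ c ∧ c ≠ 280 ∧ 280 ∣ c * (7 - 1)) = {140} by
      decide +kernel, Finset.mem_singleton] at hC
    obtain ⟨y, -, -, h1, h2, h3, -⟩ := fix_facts hG P hP hne (r := 5) (by norm_num) (by rw [hC]; norm_num)
    rw [h] at h2 h3
    omega
  · have hC := card_centralizer_cases hnp P hP (n := 35) (by norm_num) (by omega)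
    rw [show (Nat.divisors 35).filter (fun c => 7 ∣ c ∧ c ≠ 35 ∧ 35 ∣ c * (7 - 1)) = ∅ by
      decide +kernel] at hC
    exact absurd hC (Finset.notMem_empty _)

theorem card_ne_3696 : Nat.card G ≠ 3696 := by
  intro hn
  haveI : Fact (Nat.Prime 3) := ⟨by norm_num⟩
  haveI : Fact (Nat.Prime 11) := ⟨by norm_num⟩
  have hnp : ¬ (Nat.card G).Prime := by rw [hn]; norm_num
  have hG := Small.not_comm_of_card hnp
  obtain ⟨P, hP, hmem, -, hN, hne⟩ := OrdersExcl.setup hG (p := 11) 336 hn (by norm_num) (by norm_num)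
  rw [show ((Nat.divisors 336).filter (fun d => d % 11 = 1)).erase 1 = {12, 56} by decide +kernel] at hmem
  simp only [Finset.mem_insert, Finset.mem_singleton] at hmem
  rcases hmem with h | h <;> rw [h] at hN
  · have h2 := OrderTools.two_mul_card_normalizer_dvd hG (by norm_num) P hP h
    rw [show Nat.card (Subgroup.normalizer ((P : Subgroup G) : Set G)) = 308 by omega] at h2
    norm_num at h2
  have hC := card_centralizer_cases hnp P hP (n := 66) (by norm_num) (by omega)
  rw [show (Nat.divisors 66).filter (fun c => 11 ∣ c ∧ c ≠ 66 ∧ 66 ∣ c * (11 - 1)) = {33} by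
    decide +kernel, Finset.mem_singleton] at hC
  obtain ⟨R, hR, hRmem, -, hRN, -⟩ := OrdersExcl.setup hG (p := 3) 1232 hn (by norm_num) (by norm_num)
  obtain ⟨y, hy⟩ := exists_prime_orderOf_dvd_card'
    (G := Subgroup.centralizer ((P : Subgroup G) : Set G)) 3 (by rw [hC]; norm_num)
  have h11 : 11 ∣ Nat.card (Subgroup.centralizer ((R : Subgroup G) : Set G)) :=
    centralizer_mutual (r := 11) R hR (P : Subgroup G) hP (by rw [hC]; norm_num)
  have hle := h11.trans (Subgroup.card_dvd_of_le (Small.centralizer_le_normalizer _))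
  rw [show ((Nat.divisors 1232).filter (fun d => d % 3 = 1)).erase 1 =
    {4, 7, 16, 22, 28, 88, 112, 154, 616} by decide +kernel] at hRmem
  have hRn : Nat.card (Subgroup.normalizer ((R : Subgroup G) : Set G)) = 132 ∧
      Nat.card (Sylow 3 G) = 28 := by
    simp only [Finset.mem_insert, Finset.mem_singleton] at hRmem
    have hfac := Small.factorial_bound (p := 3) hG (by rw [hn]; norm_num)
    rw [hn] at hfac
    rcases hRmem with e | e | e | e | e | e | e | e | e <;> rw [e] at hRN hfac
    · norm_num [Nat.factorial] at hfac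
    · norm_num [Nat.factorial] at hfac
    · exfalso
      obtain ⟨-, hRc⟩ := OrdersExcl.setup hG (p := 3) 1232 hn (by norm_num) (by norm_num)
      have := card_centralizer_cases hnp R hR (n := 231) (by norm_num) (by omega)
      rw [show (Nat.divisors 231).filter (fun c => 3 ∣ c ∧ c ≠ 231 ∧ 231 ∣ c * (3 - 1)) = ∅ by
        decide +kernel] at this
      exact absurd this (Finset.notMem_empty _)
    · omega
    · exact ⟨by omega, e⟩
    · omega
    · exfalso
      have := card_centralizer_cases hnp R hR (n := 33) (by norm_num) (by omega)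
      rw [show (Nat.divisors 33).filter (fun c => 3 ∣ c ∧ c ≠ 33 ∧ 33 ∣ c * (3 - 1)) = ∅ by
        decide +kernel] at this
      exact absurd this (Finset.notMem_empty _)
    · omega
    · omega
  have hRC := card_centralizer_cases hnp R hR (n := 132) (by norm_num) hRn.1
  rw [show (Nat.divisors 132).filter (fun c => 3 ∣ c ∧ c ≠ 132 ∧ 132 ∣ c * (3 - 1)) = {66} by
    decide +kernel, Finset.mem_singleton] at hRC
  obtain ⟨v, hv⟩ := exists_prime_orderOf_dvd_card' 11 h11
  have hvo : orderOf (v : G) = 11 := by rw [Subgroup.orderOf_coe, hv]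
  have hc : Nat.card (Subgroup.zpowers (v : G)) = 11 ^ (Nat.card G).factorization 11 := by
    rw [Nat.card_zpowers, hvo, ← P.card_eq_multiplicity, hP]
  set Q := Sylow.ofCard _ hc with hQ
  have hQC : (Q : Subgroup G) ≤ Subgroup.centralizer ((R : Subgroup G) : Set G) :=
    Subgroup.zpowers_le.2 v.2
  have hQN : Nat.card (Subgroup.normalizer ((Q : Subgroup G) : Set G)) = 66 := by
    have := Small.card_normalizer_mul Q
    rw [h, hn] at this
    omega
  have hCQ : Subgroup.centralizer ((R : Subgroup G) : Set G) ≤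
      Subgroup.normalizer ((Q : Subgroup G) : Set G) :=
    le_normalizer_of_divisors Q hQC (by rw [hRC]; decide +kernel)
  obtain ⟨d', hd', hd1', hd2'⟩ := overgroup Q
    (hQC.trans (Small.centralizer_le_normalizer _))
  rw [hRn.1, show (Nat.divisors 132).filter (fun d => d % 11 = 1) = {1, 12} by decide +kernel] at hd'
  rw [hRn.1, hQN] at hd1'
  have h3 := hd2' _ (Small.centralizer_le_normalizer _) hCQ
  rw [hRC, hRn.1] at h3
  simp only [Finset.mem_insert, Finset.mem_singleton] at hd'
  rcases hd' with rfl | rfl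
  · norm_num at hd1'
  · norm_num at h3

theorem card_ne_3780 : Nat.card G ≠ 3780 := by
  intro hn
  haveI : Fact (Nat.Prime 5) := ⟨by norm_num⟩
  haveI : Fact (Nat.Prime 7) := ⟨by norm_num⟩
  have hnp : ¬ (Nat.card G).Prime := by rw [hn]; norm_num
  have hG := Small.not_comm_of_card hnp
  obtain ⟨P, hP, hmem, -, hN, hne⟩ := OrdersExcl.setup hG (p := 7) 540 hn (by norm_num) (by norm_num)
  obtain ⟨R, hR, hRmem, -, hRN, -⟩ := OrdersExcl.setup hG (p := 5) 756 hn (by norm_num) (by norm_num)
  rw [show ((Nat.divisors 540).filter (fun d => d % 7 = 1)).erase 1 = {15, 36, 540} by decide +kernel] at hmem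
  rw [show ((Nat.divisors 756).filter (fun d => d % 5 = 1)).erase 1 = {6, 21, 36, 126, 756} by decide +kernel] at hRmem
  simp only [Finset.mem_insert, Finset.mem_singleton] at hmem hRmem
  rcases hmem with h | h | h <;> rw [h] at hN
  · have hC := card_centralizer_cases hnp P hP (n := 252) (by norm_num) (by omega)
    rw [show (Nat.divisors 252).filter (fun c => 7 ∣ c ∧ c ≠ 252 ∧ 252 ∣ c * (7 - 1)) = {42, 84, 126} by
      decide +kernel] at hC
    simp only [Finset.mem_insert, Finset.mem_singleton] at hC
    obtain ⟨y, -, -, h1, h2, -, h4⟩ := fix_facts hG P hP hne (r := 2) Nat.prime_two (by omega)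
    rw [h] at h2 h4
    have := h4 rfl
    omega
  · have hC := card_centralizer_cases hnp P hP (n := 105) (by norm_num) (by omega)
    rw [show (Nat.divisors 105).filter (fun c => 7 ∣ c ∧ c ≠ 105 ∧ 105 ∣ c * (7 - 1)) = {35} by
      decide +kernel, Finset.mem_singleton] at hC
    have h7 : 7 ∣ Nat.card (Subgroup.normalizer ((R : Subgroup G) : Set G)) :=
      (centralizer_mutual (r := 7) R hR (P : Subgroup G) hP (by rw [hC]; norm_num)).trans
        (Subgroup.card_dvd_of_le (Small.centralizer_le_normalizer _))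
    rcases hRmem with e | e | e | e | e <;> rw [e] at hRN
    · have h2 := OrderTools.two_mul_card_normalizer_dvd hG (by norm_num) R hR e
      rw [show Nat.card (Subgroup.normalizer ((R : Subgroup G) : Set G)) = 630 by omega] at h2
      norm_num at h2
    · exact S1010.result e
    · have := card_centralizer_cases hnp R hR (n := 105) (by norm_num) (by omega)
      rw [show (Nat.divisors 105).filter (fun c => 5 ∣ c ∧ c ≠ 105 ∧ 105 ∣ c * (5 - 1)) = ∅ by
        decide +kernel] at this
      exact absurd this (Finset.notMem_empty _)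
    · omega
    · omega
  · have hC := card_centralizer_cases hnp P hP (n := 7) (by norm_num) (by omega)
    rw [show (Nat.divisors 7).filter (fun c => 7 ∣ c ∧ c ≠ 7 ∧ 7 ∣ c * (7 - 1)) = ∅ by
      decide +kernel] at hC
    exact absurd hC (Finset.notMem_empty _)

theorem card_ne_4400 : Nat.card G ≠ 4400 := by
  intro hn
  haveI : Fact (Nat.Prime 11) := ⟨by norm_num⟩
  have hnp : ¬ (Nat.card G).Prime := by rw [hn]; norm_num
  have hG := Small.not_comm_of_card hnp
  obtain ⟨P, hP, hmem, -, hN, hne⟩ := OrdersExcl.setup hG (p := 11) 400 hn (by norm_num) (by norm_num)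
  rw [show ((Nat.divisors 400).filter (fun d => d % 11 = 1)).erase 1 = {100} by decide +kernel,
    Finset.mem_singleton] at hmem
  rw [hmem] at hN
  have hN44 : Nat.card (Subgroup.normalizer ((P : Subgroup G) : Set G)) = 44 := by omega
  have hC := card_centralizer_cases hnp P hP (n := 44) (by norm_num) hN44
  rw [show (Nat.divisors 44).filter (fun c => 11 ∣ c ∧ c ≠ 44 ∧ 44 ∣ c * (11 - 1)) = {22} by
    decide +kernel, Finset.mem_singleton] at hC
  obtain ⟨z, hz, hzo, h1, h2, -, h4⟩ := fix_facts hG P hP hne (r := 2) Nat.prime_two (by rw [hC]; norm_num)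
  rw [hmem] at h2 h4
  have := h4 rfl
  obtain ⟨m, hm1, hm2, hm3⟩ := invol_count P hP (by norm_num) hz hzo (by rw [hmem]; omega)
  have hm : m = 1 := by omega
  rw [hm, mul_one, hN44] at hm3
  have hd := Subgroup.card_subgroup_dvd_card (Subgroup.centralizer ({z} : Set G))
  rw [hn, hm3] at hd
  have hcase : fix (Subgroup.normalizer ((P : Subgroup G) : Set G)) z = 12 ∨
      fix (Subgroup.normalizer ((P : Subgroup G) : Set G)) z = 56 := by omega
  rcases hcase with e | e <;> rw [e] at hd <;> norm_num at hd

theorem card_ne_4200 : Nat.card G ≠ 4200 := by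
  intro hn
  haveI : Fact (Nat.Prime 7) := ⟨by norm_num⟩
  have hnp : ¬ (Nat.card G).Prime := by rw [hn]; norm_num
  have hG := Small.not_comm_of_card hnp
  obtain ⟨P, hP, hmem, -, hN, hne⟩ := OrdersExcl.setup hG (p := 7) 600 hn (by norm_num) (by norm_num)
  rw [show ((Nat.divisors 600).filter (fun d => d % 7 = 1)).erase 1 = {8, 15, 50, 120} by decide +kernel] at hmem
  simp only [Finset.mem_insert, Finset.mem_singleton] at hmem
  rcases hmem with h | h | h | h <;> rw [h] at hN
  · have h2 := OrderTools.two_mul_card_normalizer_dvd hG (by norm_num) P hP h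
    rw [show Nat.card (Subgroup.normalizer ((P : Subgroup G) : Set G)) = 525 by omega] at h2
    norm_num at h2
  · have hC := card_centralizer_cases hnp P hP (n := 280) (by norm_num) (by omega)
    rw [show (Nat.divisors 280).filter (fun c => 7 ∣ c ∧ c ≠ 280 ∧ 280 ∣ c * (7 - 1)) = {140} by
      decide +kernel, Finset.mem_singleton] at hC
    obtain ⟨y, -, -, h1, h2, -, h4⟩ := fix_facts hG P hP hne (r := 2) Nat.prime_two (by rw [hC]; norm_num)
    rw [h] at h2 h4
    have := h4 rfl
    omega
  · have hN84 : Nat.card (Subgroup.normalizer ((P : Subgroup G) : Set G)) = 84 := by omega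
    have hC := card_centralizer_cases hnp P hP (n := 84) (by norm_num) hN84
    rw [show (Nat.divisors 84).filter (fun c => 7 ∣ c ∧ c ≠ 84 ∧ 84 ∣ c * (7 - 1)) = {14, 28, 42} by
      decide +kernel] at hC
    simp only [Finset.mem_insert, Finset.mem_singleton] at hC
    obtain ⟨z, hz, hzo, h1, h2, -, h4⟩ := fix_facts hG P hP hne (r := 2) Nat.prime_two (by omega)
    rw [h] at h2 h4
    have := h4 rfl
    have hf : fix (Subgroup.normalizer ((P : Subgroup G) : Set G)) z = 22 := by omega
    obtain ⟨m, hm1, hm2, hm3⟩ := invol_count P hP (by norm_num) hz hzo (by rw [hf, h]; norm_num)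
    rw [hf, hN84] at hm3
    have h11 : 11 ∣ Nat.card (Subgroup.centralizer ({z} : Set G)) * m := ⟨2 * 84, by rw [hm3]⟩
    rcases (Nat.Prime.dvd_mul (by norm_num)).1 h11 with hd | hd
    · have := hd.trans (Subgroup.card_subgroup_dvd_card _)
      rw [hn] at this
      norm_num at this
    · have := Nat.le_of_dvd hm1 hd
      omega
  · have hC := card_centralizer_cases hnp P hP (n := 35) (by norm_num) (by omega)
    rw [show (Nat.divisors 35).filter (fun c => 7 ∣ c ∧ c ≠ 35 ∧ 35 ∣ c * (7 - 1)) = ∅ by
      decide +kernel] at hC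
    exact absurd hC (Finset.notMem_empty _)

theorem card_ne_3960 : Nat.card G ≠ 3960 := by
  intro hn
  haveI : Fact (Nat.Prime 11) := ⟨by norm_num⟩
  haveI : Fact (Nat.Prime 2) := ⟨Nat.prime_two⟩
  have hnp : ¬ (Nat.card G).Prime := by rw [hn]; norm_num
  have hG := Small.not_comm_of_card hnp
  obtain ⟨P, hP, hmem, -, hN, hne⟩ := OrdersExcl.setup hG (p := 11) 360 hn (by norm_num) (by norm_num)
  rw [show ((Nat.divisors 360).filter (fun d => d % 11 = 1)).erase 1 = {12, 45} by decide +kernel] at hmem
  simp only [Finset.mem_insert, Finset.mem_singleton] at hmem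
  rcases hmem with h | h <;> rw [h] at hN
  · have h2 := OrderTools.two_mul_card_normalizer_dvd hG (by norm_num) P hP h
    rw [show Nat.card (Subgroup.normalizer ((P : Subgroup G) : Set G)) = 330 by omega] at h2
    norm_num at h2
  set N := Subgroup.normalizer ((P : Subgroup G) : Set G) with hNdef
  set C := Subgroup.centralizer ((P : Subgroup G) : Set G) with hCdef
  have hN88 : Nat.card N = 88 := by omega
  have hC := card_centralizer_cases hnp P hP (n := 88) (by norm_num) hN88
  rw [show (Nat.divisors 88).filter (fun c => 11 ∣ c ∧ c ≠ 88 ∧ 88 ∣ c * (11 - 1)) = {44} by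
    decide +kernel, Finset.mem_singleton, ← hCdef] at hC
  obtain ⟨z, hz, hzo, hCz⟩ := exists_central_invol P hP (by norm_num) (k := 2) (by norm_num) (by rw [← hCdef, hC]; norm_num)
  have hmod := fix_mod P hP hz
  have hlt := fix_lt hne (Invol.ne_one hzo)
  have h4 := four_dvd hG hne hzo
  have hidx : N.index = 45 := (Small.card_eq_index P).symm.trans h
  rw [hidx] at hlt h4
  have hf : fix N z = 1 := by
    change fix N z % 11 = 1 at hmod
    omega
  have hzN : z ∈ N := Small.centralizer_le_normalizer _ hz
  have hconj : ∀ g : G, g * z * g⁻¹ ∈ N → g ∈ N := fun g hg => mem_of_fix_one hzN hf hg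
  -- every conjugate in `N` lies in `C`
  have hnorm : ∀ n ∈ N, ∀ c ∈ C, n * c * n⁻¹ ∈ C := by
    intro n hn' c hc
    rw [hCdef, Subgroup.mem_centralizer_iff]
    intro v hv
    have hv' : n⁻¹ * v * n ∈ (P : Subgroup G) := (Subgroup.mem_normalizer_iff''.1 hn' v).1 hv
    calc v * (n * c * n⁻¹) = n * ((n⁻¹ * v * n) * c) * n⁻¹ := by group
      _ = n * (c * (n⁻¹ * v * n)) * n⁻¹ := by rw [Subgroup.mem_centralizer_iff.1 hc _ hv']
      _ = n * c * n⁻¹ * v := by group
  have hiso : Cfsg.IsIsolated z := by
    intro g hg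
    have hgz : g * z * g⁻¹ ∈ N := by
      -- `C(z)` lies in `N`
      have hz2 : z * z = 1 := by rw [← pow_two, ← hzo, pow_orderOf_eq_one]
      have e : (g * z * g⁻¹) * z * (g * z * g⁻¹)⁻¹ = z := by rw [hg.symm.eq, mul_inv_cancel_right]
      exact hconj (g * z * g⁻¹) (by rw [e]; exact hzN)
    have hgN : g ∈ N := hconj g hgz
    by_contra hne'
    have heq := fix_eq N hzN
    rw [hf, hN88, one_mul] at heq
    haveI : Nonempty {g : G // IsConj z g ∧ g ∈ N} := ⟨⟨z, IsConj.refl z, hzN⟩⟩
    have h2le : 2 ≤ Nat.card {g : G // IsConj z g ∧ g ∈ N} := by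
      letI := Fintype.ofFinite {g : G // IsConj z g ∧ g ∈ N}
      rw [Nat.card_eq_fintype_card]
      exact Fintype.one_lt_card_iff.2 ⟨⟨z, IsConj.refl z, hzN⟩,
        ⟨g * z * g⁻¹, isConj_iff.2 ⟨g, rfl⟩, hgz⟩, fun e => hne' (congrArg Subtype.val e).symm⟩
    have hz44 : 44 ∣ Nat.card (Subgroup.centralizer ({z} : Set G)) := hC ▸ Subgroup.card_dvd_of_le hCz
    obtain ⟨k, hk⟩ := hz44
    rw [hk] at heq
    have hk1 : k = 1 := by
      rcases Nat.eq_zero_or_pos k with e | e
      · rw [e] at heq; simp at heq
      · nlinarith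
    subst hk1
    -- `C(z) = C`, yet it contains `g z g⁻¹` and `z`
    have hm2 : Nat.card {g : G // IsConj z g ∧ g ∈ N} = 2 := by omega
    have hCeq : Subgroup.centralizer ({z} : Set G) = C :=
      (Subgroup.eq_of_le_of_card_ge hCz (by rw [hk, hC])).symm
    set w := g * z * g⁻¹ with hw
    have hwC : w ∈ C := hnorm g hgN z hz
    -- the product is a central involution of `N` with the same fixed points
    have hwo : orderOf w = 2 := by rw [hw, Invol.order_conj, hzo]
    have hz2 : z * z = 1 := by rw [← pow_two, ← hzo, pow_orderOf_eq_one]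
    have hw2 : w * w = 1 := by rw [← pow_two, ← hwo, pow_orderOf_eq_one]
    have hu1 : z * w ≠ 1 := fun e => hne' (mul_left_cancel (e.trans hz2.symm))
    have huo : orderOf (z * w) = 2 := orderOf_eq_prime
      (by rw [Commute.mul_pow hg, pow_two, pow_two, hz2, hw2, one_mul]) hu1
    have huC : z * w ∈ C := mul_mem hz hwC
    have hmod' := fix_mod P hP huC
    have hlt' := fix_lt hne (Invol.ne_one huo)
    have h4' := four_dvd hG hne huo
    rw [hidx] at hlt' h4'
    have hf' : fix N (z * w) = 1 := by
      change fix N (z * w) % 11 = 1 at hmod'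
      omega
    have hpair : ∀ y : G, IsConj z y → y ∈ N → y = z ∨ y = w := by
      intro y hy hyN
      by_contra hcon
      push Not at hcon
      letI := Fintype.ofFinite {g : G // IsConj z g ∧ g ∈ N}
      rw [Nat.card_eq_fintype_card] at hm2
      have : 2 < Fintype.card {g : G // IsConj z g ∧ g ∈ N} := Fintype.two_lt_card_iff.2
        ⟨⟨z, IsConj.refl z, hzN⟩, ⟨w, isConj_iff.2 ⟨g, rfl⟩, hgz⟩, ⟨y, hy, hyN⟩,
          fun e => hne' (congrArg Subtype.val e).symm, fun e => hcon.1 (congrArg Subtype.val e).symm,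
          fun e => hcon.2 (congrArg Subtype.val e).symm⟩
      omega
    have hNu : N ≤ Subgroup.centralizer ({z * w} : Set G) := by
      intro n hn'
      have h1 := hpair (n * z * n⁻¹) (isConj_iff.2 ⟨n, rfl⟩) (Small.centralizer_le_normalizer _ (hnorm n hn' z hz))
      have h2 := hpair (n * w * n⁻¹) ((isConj_iff.2 ⟨g, rfl⟩ : IsConj z w).trans (isConj_iff.2 ⟨n, rfl⟩))
        (Small.centralizer_le_normalizer _ (hnorm n hn' w hwC))
      have hne2 : n * z * n⁻¹ ≠ n * w * n⁻¹ := fun e =>
        hne' (mul_left_cancel (mul_right_cancel e)).symm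
      refine Subgroup.mem_centralizer_singleton_iff.2 ?_
      have hsame : n * (z * w) * n⁻¹ = z * w := by
        rw [show n * (z * w) * n⁻¹ = n * z * n⁻¹ * (n * w * n⁻¹) by group]
        rcases h1 with e1 | e1 <;> rcases h2 with e2 | e2 <;> rw [e1, e2] at hne2 ⊢
        · exact absurd rfl hne2
        · exact hg.symm.eq
        · exact absurd rfl hne2
      calc n * (z * w) = n * (z * w) * n⁻¹ * n := by group
        _ = z * w * n := by rw [hsame]
    have huN : z * w ∈ N := Small.centralizer_le_normalizer _ huC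
    refine not_isolated hG huo fun k hk => ?_
    have e : (k * (z * w) * k⁻¹) * (z * w) * (k * (z * w) * k⁻¹)⁻¹ = z * w := by
      rw [hk.symm.eq, mul_inv_cancel_right]
    have hkN := mem_of_fix_one huN hf' (mem_of_fix_one huN hf' (show _ ∈ N from e.symm ▸ huN))
    rw [Subgroup.mem_centralizer_singleton_iff.1 (hNu hkN), mul_inv_cancel_right]
  exact not_isolated hG hzo hiso

end Cfsg.Agent.Ord6232
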