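import Cfsg.Agent.Lib.Small.Orders6232.Tools
import Cfsg.Agent.Lib.Small.OrdersExcluded
import Cfsg.Agent.Lib.Small.SelfCentral
import Cfsg.Agent.S1010

/-!
Orders of no simple group, excluded by centralizers and counting.
-/

set_option autoImplicit false
set_option linter.unusedSectionVars false
set_option linter.style.haveILetI false

open Cfsg.Agent.CommFix

namespace Cfsg.Agent.Ord6232

variable {G : Type*} [Group G] [Finite G] [IsSimpleGroup G]

theorem card_ne_4620 : Nat.card G ≠ 4620 := by
  intro hn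
  haveI : Fact (Nat.Prime 5) := ⟨by norm_num⟩
  haveI : Fact (Nat.Prime 7) := ⟨by norm_num⟩
  haveI : Fact (Nat.Prime 11) := ⟨by norm_num⟩
  have hnp : ¬ (Nat.card G).Prime := by rw [hn]; norm_num
  have hG := Small.not_comm_of_card hnp
  obtain ⟨P, hP, hPm, -, hPN, -⟩ := OrdersExcl.setup hG (p := 11) 420 hn (by norm_num) (by norm_num)
  obtain ⟨Q, hQ, hQm, -, hQN, hQne⟩ := OrdersExcl.setup hG (p := 7) 660 hn (by norm_num) (by norm_num)
  obtain ⟨R, hR, hRm, -, hRN, -⟩ := OrdersExcl.setup hG (p := 5) 924 hn (by norm_num) (by norm_num)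
  rw [show ((Nat.divisors 420).filter (fun d => d % 11 = 1)).erase 1 = {12, 210} by decide +kernel] at hPm
  rw [show ((Nat.divisors 660).filter (fun d => d % 7 = 1)).erase 1 = {15, 22, 330} by decide +kernel] at hQm
  rw [show ((Nat.divisors 924).filter (fun d => d % 5 = 1)).erase 1 = {6, 11, 21, 66, 231} by decide +kernel] at hRm
  simp only [Finset.mem_insert, Finset.mem_singleton] at hPm hQm hRm
  have h210 : Nat.card (Sylow 11 G) = 210 := hPm.resolve_left fun h => by
    have h2 := OrderTools.two_mul_card_normalizer_dvd hG (by norm_num) P hP h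
    rw [h] at hPN
    rw [show Nat.card (Subgroup.normalizer ((P : Subgroup G) : Set G)) = 385 by omega] at h2
    norm_num at h2
  have c11 : Nat.card (Subgroup.centralizer ((P : Subgroup G) : Set G)) = 11 := by
    rw [h210] at hPN
    have hC := card_centralizer_cases hnp P hP (n := 22) (by norm_num) (by omega)
    rwa [show (Nat.divisors 22).filter (fun c => 11 ∣ c ∧ c ≠ 22 ∧ 22 ∣ c * (11 - 1)) = {11} by
      decide +kernel, Finset.mem_singleton] at hC
  have h330 : Nat.card (Sylow 7 G) = 330 := by
    rcases hQm with h | h | h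
    · exfalso
      rw [h] at hQN
      have := normalizer_mutual (r := 7) P hP (Q : Subgroup G) hQ (by norm_num) ⟨28, by omega⟩
      rw [c11] at this
      norm_num at this
    · exfalso
      rw [h] at hQN
      have hC := card_centralizer_cases hnp Q hQ (n := 210) (by norm_num) (by omega)
      rw [show (Nat.divisors 210).filter (fun c => 7 ∣ c ∧ c ≠ 210 ∧ 210 ∣ c * (7 - 1)) = {35, 70, 105} by
        decide +kernel] at hC
      simp only [Finset.mem_insert, Finset.mem_singleton] at hC
      obtain ⟨y, -, -, h1, h2, h3, -⟩ := fix_facts hG Q hQ hQne (r := 5) (by norm_num) (by omega)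
      rw [h] at h2 h3
      omega
    · exact h
  have c7 : Nat.card (Subgroup.centralizer ((Q : Subgroup G) : Set G)) = 7 := by
    rw [h330] at hQN
    have hC := card_centralizer_cases hnp Q hQ (n := 14) (by norm_num) (by omega)
    rwa [show (Nat.divisors 14).filter (fun c => 7 ∣ c ∧ c ≠ 14 ∧ 14 ∣ c * (7 - 1)) = {7} by
      decide +kernel, Finset.mem_singleton] at hC
  have h231 : Nat.card (Sylow 5 G) = 231 := by
    have hfac := Small.factorial_bound (p := 5) hG (by rw [hn]; norm_num)
    rw [hn] at hfac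
    rcases hRm with h | h | h | h | h <;> rw [h] at hRN hfac
    · norm_num [Nat.factorial] at hfac
    · exfalso
      have := normalizer_mutual (r := 5) Q hQ (R : Subgroup G) hR (by norm_num) ⟨60, by omega⟩
      rw [c7] at this
      norm_num at this
    · exact absurd h S1010.result
    · exfalso
      have := normalizer_mutual (r := 5) Q hQ (R : Subgroup G) hR (by norm_num) ⟨10, by omega⟩
      rw [c7] at this
      norm_num at this
    · exact h
  have hle := card_three_le (G := G) (p := 11) (q := 7) (r := 5) (by norm_num) (by norm_num) (by norm_num)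
    (fun S => (Small.sylow_card (k := 1) (m := 420) (by rw [hn]; norm_num) (by norm_num) S).trans (pow_one _))
    (fun S => (Small.sylow_card (k := 1) (m := 660) (by rw [hn]; norm_num) (by norm_num) S).trans (pow_one _))
    (fun S => (Small.sylow_card (k := 1) (m := 924) (by rw [hn]; norm_num) (by norm_num) S).trans (pow_one _))
  rw [h210, h330, h231, hn] at hle
  norm_num at hle

theorem card_ne_4680 : Nat.card G ≠ 4680 := by
  intro hn
  haveI : Fact (Nat.Prime 13) := ⟨by norm_num⟩
  haveI : Fact (Nat.Prime 3) := ⟨by norm_num⟩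
  have hnp : ¬ (Nat.card G).Prime := by rw [hn]; norm_num
  have hG := Small.not_comm_of_card hnp
  obtain ⟨P, hP, hmem, hidx, hN, hne⟩ := OrdersExcl.setup hG (p := 13) 360 hn (by norm_num) (by norm_num)
  rw [show ((Nat.divisors 360).filter (fun d => d % 13 = 1)).erase 1 = {40} by decide +kernel,
    Finset.mem_singleton] at hmem
  rw [hmem] at hN hidx
  set N := Subgroup.normalizer ((P : Subgroup G) : Set G) with hNdef
  have hN117 : Nat.card N = 117 := by omega
  have hC := card_centralizer_cases hnp P hP (n := 117) (by norm_num) hN117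
  rw [show (Nat.divisors 117).filter (fun c => 13 ∣ c ∧ c ≠ 117 ∧ 117 ∣ c * (13 - 1)) = {39} by
    decide +kernel, Finset.mem_singleton] at hC
  obtain ⟨x, hx, hxo, h1, h2, h3, -⟩ := fix_facts hG P hP hne (r := 3) (by norm_num) (by rw [hC]; norm_num)
  rw [hmem] at h2 h3
  obtain ⟨R, hR⟩ := (IsPGroup.of_card (n := 1) (by rw [Nat.card_zpowers, hxo, pow_one]) :
    IsPGroup 3 (Subgroup.zpowers x)).exists_le_sylow
  have hR9 : Nat.card (R : Subgroup G) = 3 ^ 2 :=
    Small.sylow_card (k := 2) (m := 520) (by rw [hn]; norm_num) (by norm_num) R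
  have hRab : ∀ a ∈ (R : Subgroup G), ∀ b ∈ (R : Subgroup G), a * b = b * a := fun a ha b hb =>
    congrArg Subtype.val (IsPGroup.commutative_of_card_eq_prime_sq hR9 ⟨a, ha⟩ ⟨b, hb⟩)
  have hxR : x ∈ (R : Subgroup G) := hR (Subgroup.mem_zpowers x)
  set M := Subgroup.centralizer ({x} : Set G) with hM
  have hRM : (R : Subgroup G) ≤ M := fun v hv =>
    Subgroup.mem_centralizer_singleton_iff.2 (hRab v hv x hxR)
  have hPM : (P : Subgroup G) ≤ M := fun v hv =>
    Subgroup.mem_centralizer_singleton_iff.2 (Subgroup.mem_centralizer_iff.1 hx v hv)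
  have hd9 : 9 ∣ Nat.card M := by simpa [hR9] using Subgroup.card_dvd_of_le hRM
  have hd13 : 13 ∣ Nat.card M := hP ▸ Subgroup.card_dvd_of_le hPM
  have hdG : Nat.card M ∣ 4680 := hn ▸ Subgroup.card_subgroup_dvd_card _
  obtain ⟨d, hd, hdd, -⟩ := overgroup P hPM
  rw [← hNdef, hN117] at hdd
  have key : ∀ m ∈ Nat.divisors 4680, 9 ∣ m → 13 ∣ m → ∀ d ∈ m.divisors.filter (fun d => d % 13 = 1),
      m / d ∣ 117 → (m = 117 ∧ d = 1) ∨ 4680 / m ∈ ({1, 2, 4, 8, 5} : Finset ℕ) := by decide +kernel
  rcases key _ (Nat.mem_divisors.2 ⟨hdG, by norm_num⟩) hd9 hd13 d hd hdd with ⟨hm, -⟩ | hsmall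
  swap
  · have hi : M.index = 4680 / Nat.card M := by
      rw [← hn, ← M.card_mul_index, Nat.mul_div_cancel_left _ Nat.card_pos]
    rw [← hi] at hsmall
    simp only [Finset.mem_insert, Finset.mem_singleton] at hsmall
    rcases hsmall with e | e | e | e | e
    · exact false_of_index_prime_pow hnp (q := 2) (a := 0) Nat.prime_two (x := x) (fun h => by rw [h, orderOf_one] at hxo; omega) (by rw [← hM, e]; norm_num)
    · exact false_of_index_prime_pow hnp (q := 2) (a := 1) Nat.prime_two (x := x) (fun h => by rw [h, orderOf_one] at hxo; omega) (by rw [← hM, e]; norm_num)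
    · exact false_of_index_prime_pow hnp (q := 2) (a := 2) Nat.prime_two (x := x) (fun h => by rw [h, orderOf_one] at hxo; omega) (by rw [← hM, e]; norm_num)
    · exact false_of_index_prime_pow hnp (q := 2) (a := 3) Nat.prime_two (x := x) (fun h => by rw [h, orderOf_one] at hxo; omega) (by rw [← hM, e]; norm_num)
    · exact false_of_index_prime_pow hnp (q := 5) (a := 1) (by norm_num) (x := x) (fun h => by rw [h, orderOf_one] at hxo; omega) (by rw [← hM, e]; norm_num)
  have hMN : M = N := by
    refine Subgroup.eq_of_le_of_card_ge (le_normalizer_of_divisors P hPM ?_) (by rw [hm, hN117])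
    rw [hm]; decide +kernel
  have hxN : x ∈ N := Small.centralizer_le_normalizer _ hx
  have heq := fix_eq N hxN
  rw [← hM, hMN, mul_comm] at heq
  have hj := Nat.eq_of_mul_eq_mul_right Nat.card_pos heq
  have hj2 := (conj_count P hP (r := 3) (by norm_num) (by norm_num) hxo).1
  rw [← hNdef, hj, hN117] at hj2
  change fix N x % 13 = 1 at h1
  change fix N x < 40 at h2
  change 40 % 3 = fix N x % 3 at h3
  have hf : fix N x = 1 := by omega
  rw [hf] at hj
  -- `N(R)` centralizes `x`
  have hNR : Subgroup.normalizer ((R : Subgroup G) : Set G) ≤ N := by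
    intro n hn'
    rw [← hMN, hM, Subgroup.mem_centralizer_singleton_iff]
    have hc : n * x * n⁻¹ ∈ N := hMN ▸ hRM ((Subgroup.mem_normalizer_iff.1 hn' x).1 hxR)
    haveI := (Nat.card_eq_one_iff_unique.1 hj).1
    have he := congrArg Subtype.val (Subsingleton.elim
      (⟨n * x * n⁻¹, isConj_iff.2 ⟨n, rfl⟩, hc⟩ : {g : G // IsConj x g ∧ g ∈ N}) ⟨x, IsConj.refl x, hxN⟩)
    calc n * x = n * x * n⁻¹ * n := by group
      _ = x * n := by rw [show n * x * n⁻¹ = x from he]
  exact absurd (focal_eq_one hG R hRab hxR fun n hn' =>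
    Subgroup.mem_centralizer_singleton_iff.1 (show n ∈ M from hMN.symm ▸ hNR hn'))
    (fun h => by rw [h, orderOf_one] at hxo; omega)

theorem card_ne_5148 : Nat.card G ≠ 5148 := by
  intro hn
  haveI : Fact (Nat.Prime 11) := ⟨by norm_num⟩
  haveI : Fact (Nat.Prime 3) := ⟨by norm_num⟩
  have hnp : ¬ (Nat.card G).Prime := by rw [hn]; norm_num
  have hG := Small.not_comm_of_card hnp
  obtain ⟨P, hP, hmem, -, hN, hne⟩ := OrdersExcl.setup hG (p := 11) 468 hn (by norm_num) (by norm_num)
  rw [show ((Nat.divisors 468).filter (fun d => d % 11 = 1)).erase 1 = {12, 78} by decide +kernel] at hmem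
  simp only [Finset.mem_insert, Finset.mem_singleton] at hmem
  rcases hmem with h | h <;> rw [h] at hN
  · have h2 := OrderTools.two_mul_card_normalizer_dvd hG (by norm_num) P hP h
    rw [show Nat.card (Subgroup.normalizer ((P : Subgroup G) : Set G)) = 429 by omega] at h2
    norm_num at h2
  have hN66 : Nat.card (Subgroup.normalizer ((P : Subgroup G) : Set G)) = 66 := by omega
  have hC := card_centralizer_cases hnp P hP (n := 66) (by norm_num) hN66
  rw [show (Nat.divisors 66).filter (fun c => 11 ∣ c ∧ c ≠ 66 ∧ 66 ∣ c * (11 - 1)) = {33} by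
    decide +kernel, Finset.mem_singleton] at hC
  obtain ⟨x, hx, hxo, -⟩ := fix_facts hG P hP hne (r := 3) (by norm_num) (by rw [hC]; norm_num)
  have hx1 : x ≠ 1 := fun h => by rw [h, orderOf_one] at hxo; omega
  obtain ⟨R, hR⟩ := (IsPGroup.of_card (n := 1) (by rw [Nat.card_zpowers, hxo, pow_one]) :
    IsPGroup 3 (Subgroup.zpowers x)).exists_le_sylow
  have hR9 : Nat.card (R : Subgroup G) = 3 ^ 2 :=
    Small.sylow_card (k := 2) (m := 572) (by rw [hn]; norm_num) (by norm_num) R
  have hxR : x ∈ (R : Subgroup G) := hR (Subgroup.mem_zpowers x)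
  set M := Subgroup.centralizer ({x} : Set G) with hM
  have hRM : (R : Subgroup G) ≤ M := fun v hv => Subgroup.mem_centralizer_singleton_iff.2
    (congrArg Subtype.val (IsPGroup.commutative_of_card_eq_prime_sq hR9 ⟨v, hv⟩ ⟨x, hxR⟩))
  have hPM : (P : Subgroup G) ≤ M := fun v hv =>
    Subgroup.mem_centralizer_singleton_iff.2 (Subgroup.mem_centralizer_iff.1 hx v hv)
  have hd9 : 9 ∣ Nat.card M := by simpa [hR9] using Subgroup.card_dvd_of_le hRM
  have hd11 : 11 ∣ Nat.card M := hP ▸ Subgroup.card_dvd_of_le hPM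
  have hdG : Nat.card M ∣ 5148 := hn ▸ Subgroup.card_subgroup_dvd_card _
  obtain ⟨d, hd, hdd, -⟩ := overgroup P hPM
  rw [hN66] at hdd
  have key : ∀ m ∈ Nat.divisors 5148, 9 ∣ m → 11 ∣ m → ∀ d ∈ m.divisors.filter (fun d => d % 11 = 1),
      m / d ∣ 66 → 5148 / m ∈ ({1, 2, 4, 13} : Finset ℕ) := by decide +kernel
  have hsmall := key _ (Nat.mem_divisors.2 ⟨hdG, by norm_num⟩) hd9 hd11 d hd hdd
  have hi : M.index = 5148 / Nat.card M := by
    rw [← hn, ← M.card_mul_index, Nat.mul_div_cancel_left _ Nat.card_pos]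
  rw [← hi] at hsmall
  simp only [Finset.mem_insert, Finset.mem_singleton] at hsmall
  rcases hsmall with e | e | e | e
  · exact false_of_index_prime_pow hnp (q := 2) (a := 0) Nat.prime_two hx1 (by rw [← hM, e]; norm_num)
  · exact false_of_index_prime_pow hnp (q := 2) (a := 1) Nat.prime_two hx1 (by rw [← hM, e]; norm_num)
  · exact false_of_index_prime_pow hnp (q := 2) (a := 2) Nat.prime_two hx1 (by rw [← hM, e]; norm_num)
  · exact false_of_index_prime_pow hnp (q := 13) (a := 1) (by norm_num) hx1 (by rw [← hM, e]; norm_num)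

theorem card_ne_5200 : Nat.card G ≠ 5200 := by
  intro hn
  haveI : Fact (Nat.Prime 13) := ⟨by norm_num⟩
  haveI : Fact (Nat.Prime 5) := ⟨by norm_num⟩
  have hnp : ¬ (Nat.card G).Prime := by rw [hn]; norm_num
  have hG := Small.not_comm_of_card hnp
  obtain ⟨P, hP, hmem, -, hN, hne⟩ := OrdersExcl.setup hG (p := 13) 400 hn (by norm_num) (by norm_num)
  rw [show ((Nat.divisors 400).filter (fun d => d % 13 = 1)).erase 1 = {40} by decide +kernel,
    Finset.mem_singleton] at hmem
  rw [hmem] at hN
  have hN130 : Nat.card (Subgroup.normalizer ((P : Subgroup G) : Set G)) = 130 := by omega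
  have hC := card_centralizer_cases hnp P hP (n := 130) (by norm_num) hN130
  rw [show (Nat.divisors 130).filter (fun c => 13 ∣ c ∧ c ≠ 130 ∧ 130 ∣ c * (13 - 1)) = {65} by
    decide +kernel, Finset.mem_singleton] at hC
  obtain ⟨x, hx, hxo, -⟩ := fix_facts hG P hP hne (r := 5) (by norm_num) (by rw [hC]; norm_num)
  have hx1 : x ≠ 1 := fun h => by rw [h, orderOf_one] at hxo; omega
  obtain ⟨R, hR⟩ := (IsPGroup.of_card (n := 1) (by rw [Nat.card_zpowers, hxo, pow_one]) :
    IsPGroup 5 (Subgroup.zpowers x)).exists_le_sylow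
  have hR25 : Nat.card (R : Subgroup G) = 5 ^ 2 :=
    Small.sylow_card (k := 2) (m := 208) (by rw [hn]; norm_num) (by norm_num) R
  have hxR : x ∈ (R : Subgroup G) := hR (Subgroup.mem_zpowers x)
  set M := Subgroup.centralizer ({x} : Set G) with hM
  have hRM : (R : Subgroup G) ≤ M := fun v hv => Subgroup.mem_centralizer_singleton_iff.2
    (congrArg Subtype.val (IsPGroup.commutative_of_card_eq_prime_sq hR25 ⟨v, hv⟩ ⟨x, hxR⟩))
  have hPM : (P : Subgroup G) ≤ M := fun v hv =>
    Subgroup.mem_centralizer_singleton_iff.2 (Subgroup.mem_centralizer_iff.1 hx v hv)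
  have hd25 : 25 ∣ Nat.card M := by simpa [hR25] using Subgroup.card_dvd_of_le hRM
  have hd13 : 13 ∣ Nat.card M := hP ▸ Subgroup.card_dvd_of_le hPM
  have hdG : Nat.card M ∣ 5200 := hn ▸ Subgroup.card_subgroup_dvd_card _
  have key : ∀ m ∈ Nat.divisors 5200, 25 ∣ m → 13 ∣ m → 5200 / m ∣ 2 ^ 4 := by decide +kernel
  have hsmall := key _ (Nat.mem_divisors.2 ⟨hdG, by norm_num⟩) hd25 hd13
  have hi : M.index = 5200 / Nat.card M := by
    rw [← hn, ← M.card_mul_index, Nat.mul_div_cancel_left _ Nat.card_pos]
  exact false_of_index_prime_pow hnp Nat.prime_two hx1 (by rw [← hM, hi]; exact hsmall)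

/-- A fixed-point free-but-one involution of `C(P)` and a Klein four Sylow subgroup in `N(P)`. -/
theorem not_four_dvd_of_fix_one {p : ℕ} [Fact p.Prime] (hG : ¬ IsMulCommutative G)
    (h2 : Even (Nat.card G)) (h8 : ¬ 8 ∣ Nat.card G) (P : Sylow p G) {z : G}
    (hz : z ∈ Subgroup.centralizer ((P : Subgroup G) : Set G)) (hzo : orderOf z = 2)
    (hf : fix (Subgroup.normalizer ((P : Subgroup G) : Set G)) z = 1) {w : G}
    (hw : w ∈ Subgroup.normalizer ((P : Subgroup G) : Set G)) (hwo : orderOf w = 2) :
    w ∈ Subgroup.centralizer ((P : Subgroup G) : Set G) := by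
  obtain ⟨g, rfl⟩ := isConj_iff.1 (invol_isConj hG h2 h8 hzo hwo)
  have hgN := mem_of_fix_one (Small.centralizer_le_normalizer _ hz) hf hw
  rw [Subgroup.mem_centralizer_iff]
  intro v hv
  have hv' : g⁻¹ * v * g ∈ (P : Subgroup G) := (Subgroup.mem_normalizer_iff''.1 hgN v).1 hv
  calc v * (g * z * g⁻¹) = g * ((g⁻¹ * v * g) * z) * g⁻¹ := by group
    _ = g * (z * (g⁻¹ * v * g)) * g⁻¹ := by rw [Subgroup.mem_centralizer_iff.1 hz _ hv']
    _ = g * z * g⁻¹ * v := by group

/-- If every involution of `N(P)` centralizes `P` and the Sylow two-subgroups are Klein groups, then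
`4` divides `|C(P)|` as soon as it divides `|N(P)|`. -/
theorem four_dvd_centralizer {p : ℕ} [Fact p.Prime] (hG : ¬ IsMulCommutative G)
    (h2 : Even (Nat.card G)) (h8 : ¬ 8 ∣ Nat.card G) (P : Sylow p G)
    (h4 : 4 ∣ Nat.card (Subgroup.normalizer ((P : Subgroup G) : Set G)))
    (hall : ∀ w ∈ Subgroup.normalizer ((P : Subgroup G) : Set G), orderOf w = 2 →
      w ∈ Subgroup.centralizer ((P : Subgroup G) : Set G)) :
    4 ∣ Nat.card (Subgroup.centralizer ((P : Subgroup G) : Set G)) := by
  haveI : Fact (Nat.Prime 2) := ⟨Nat.prime_two⟩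
  obtain ⟨V, hV⟩ := Sylow.exists_subgroup_card_pow_prime (G := Subgroup.normalizer ((P : Subgroup G) : Set G))
    2 (n := 2) (by norm_num; exact h4)
  set V' := V.map (Subgroup.normalizer ((P : Subgroup G) : Set G)).subtype with hV'
  have hVc : Nat.card V' = 2 ^ 2 := by
    rw [hV', Subgroup.card_map_of_injective (Subgroup.subtype_injective _), hV]
  obtain ⟨T, hT⟩ := (IsPGroup.of_card hVc).exists_le_sylow
  haveI := (S0992.result hG h2 h8 T).1
  have hle : V' ≤ Subgroup.centralizer ((P : Subgroup G) : Set G) := by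
    intro v hv
    by_cases hv1 : v = 1
    · exact hv1 ▸ one_mem _
    refine hall v (Subgroup.map_subtype_le V hv) (orderOf_eq_prime ?_ hv1)
    rw [pow_two]
    exact congrArg Subtype.val (IsKleinFour.mul_self (⟨v, hT hv⟩ : (T : Subgroup G)))
  have := Subgroup.card_dvd_of_le hle
  rwa [hVc] at this

theorem card_ne_5940 : Nat.card G ≠ 5940 := by
  intro hn
  haveI : Fact (Nat.Prime 11) := ⟨by norm_num⟩
  have hnp : ¬ (Nat.card G).Prime := by rw [hn]; norm_num
  have hG := Small.not_comm_of_card hnp
  have h2 : Even (Nat.card G) := by rw [hn]; decide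
  have h8 : ¬ 8 ∣ Nat.card G := by rw [hn]; norm_num
  obtain ⟨P, hP, hmem, -, hN, hne⟩ := OrdersExcl.setup hG (p := 11) 540 hn (by norm_num) (by norm_num)
  rw [show ((Nat.divisors 540).filter (fun d => d % 11 = 1)).erase 1 = {12, 45, 540} by decide +kernel] at hmem
  simp only [Finset.mem_insert, Finset.mem_singleton] at hmem
  rcases hmem with h | h | h <;> rw [h] at hN
  · have h2 := OrderTools.two_mul_card_normalizer_dvd hG (by norm_num) P hP h
    rw [show Nat.card (Subgroup.normalizer ((P : Subgroup G) : Set G)) = 495 by omega] at h2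
    norm_num at h2
  · have hN132 : Nat.card (Subgroup.normalizer ((P : Subgroup G) : Set G)) = 132 := by omega
    have hC := card_centralizer_cases hnp P hP (n := 132) (by norm_num) hN132
    rw [show (Nat.divisors 132).filter (fun c => 11 ∣ c ∧ c ≠ 132 ∧ 132 ∣ c * (11 - 1)) = {66} by
      decide +kernel, Finset.mem_singleton] at hC
    obtain ⟨z, hz, hzo, h1, h2', -, h4⟩ := fix_facts hG P hP hne (r := 2) Nat.prime_two (by rw [hC]; norm_num)
    rw [h] at h2' h4
    have := h4 rfl
    have := four_dvd_centralizer hG h2 h8 P (by rw [hN132]; norm_num) fun w hw hwo =>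
      not_four_dvd_of_fix_one hG h2 h8 P hz hzo (by omega) hw hwo
    rw [hC] at this
    norm_num at this
  · have hC := card_centralizer_cases hnp P hP (n := 11) (by norm_num) (by omega)
    rw [show (Nat.divisors 11).filter (fun c => 11 ∣ c ∧ c ≠ 11 ∧ 11 ∣ c * (11 - 1)) = ∅ by
      decide +kernel] at hC
    exact absurd hC (Finset.notMem_empty _)

theorem card_ne_5460 : Nat.card G ≠ 5460 := by
  intro hn
  haveI : Fact (Nat.Prime 13) := ⟨by norm_num⟩
  have hnp : ¬ (Nat.card G).Prime := by rw [hn]; norm_num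
  have hG := Small.not_comm_of_card hnp
  have h2 : Even (Nat.card G) := by rw [hn]; decide
  have h8 : ¬ 8 ∣ Nat.card G := by rw [hn]; norm_num
  obtain ⟨P, hP, hmem, -, hN, hne⟩ := OrdersExcl.setup hG (p := 13) 420 hn (by norm_num) (by norm_num)
  rw [show ((Nat.divisors 420).filter (fun d => d % 13 = 1)).erase 1 = {14, 105} by decide +kernel] at hmem
  simp only [Finset.mem_insert, Finset.mem_singleton] at hmem
  rcases hmem with h | h <;> rw [h] at hN
  · have h2 := OrderTools.two_mul_card_normalizer_dvd hG (by norm_num) P hP h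
    rw [show Nat.card (Subgroup.normalizer ((P : Subgroup G) : Set G)) = 390 by omega] at h2
    norm_num at h2
  set N := Subgroup.normalizer ((P : Subgroup G) : Set G) with hNdef
  have hN52 : Nat.card N = 52 := by omega
  have hC := card_centralizer_cases hnp P hP (n := 52) (by norm_num) hN52
  rw [show (Nat.divisors 52).filter (fun c => 13 ∣ c ∧ c ≠ 52 ∧ 52 ∣ c * (13 - 1)) = {13, 26} by
    decide +kernel] at hC
  simp only [Finset.mem_insert, Finset.mem_singleton] at hC
  -- every involution of `N` centralizes `P`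
  have hall : ∀ w ∈ N, orderOf w = 2 → w ∈ Subgroup.centralizer ((P : Subgroup G) : Set G) := by
    intro w hw hwo
    rcases hC with e | e
    · by_contra hwC
      -- an element outside `C(P) = P` inverts `P`
      haveI : Fact (Nat.Prime 2) := ⟨Nat.prime_two⟩
      obtain ⟨V, hV⟩ := Sylow.exists_subgroup_card_pow_prime (G := N) 2 (n := 2) (by rw [hN52]; norm_num)
      obtain ⟨T, hT⟩ := (IsPGroup.of_card (G := V.map N.subtype) (p := 2) (n := 2) (by
        rw [Subgroup.card_map_of_injective N.subtype_injective, hV])).exists_le_sylow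
      haveI := (S0992.result hG h2 h8 T).1
      haveI hcyc : IsCyclic (P : Subgroup G) := isCyclic_of_prime_card hP
      set f := (P : Subgroup G).normalizerMonoidHom.comp V.subtype with hf
      have hfinj : Function.Injective f := (injective_iff_map_eq_one f).2 fun v hv => by
        have hk : (v : N) ∈ (P : Subgroup G).normalizerMonoidHom.ker := hv
        rw [Subgroup.normalizerMonoidHom_ker, Subgroup.mem_subgroupOf] at hk
        have ho : orderOf ((v : N) : G) ∣ 13 := e ▸ Subgroup.orderOf_dvd_natCard _ hk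
        have ho2 : orderOf ((v : N) : G) ∣ 2 ^ 2 := by
          rw [Subgroup.orderOf_coe, Subgroup.orderOf_coe, ← hV]; exact orderOf_dvd_natCard v
        have h1 := Nat.dvd_gcd ho ho2
        norm_num at h1
        exact h1
      haveI : IsCyclic (MulAut (P : Subgroup G)) := by
        haveI : NeZero 13 := ⟨by norm_num⟩
        exact (IsCyclic.mulAutMulEquiv (P : Subgroup G)).isCyclic.2 (by rw [hP]; exact ZMod.isCyclic_units_prime (by norm_num))
      haveI : IsCyclic V := isCyclic_of_injective f hfinj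
      obtain ⟨v, hv⟩ := IsCyclic.exists_ofOrder_eq_natCard (α := V)
      have hv2 : v ^ 2 = 1 := by
        have hvT : ((v : N) : G) ∈ (T : Subgroup G) := hT ⟨_, v.2, rfl⟩
        refine Subtype.ext (Subtype.ext ?_)
        have := congrArg Subtype.val (IsKleinFour.mul_self (⟨_, hvT⟩ : (T : Subgroup G)))
        simpa [pow_two] using this
      have := orderOf_dvd_of_pow_eq_one hv2
      rw [hv, hV] at this
      norm_num at this
    · obtain ⟨z, hz, hzo, h1, h2', -, h4⟩ := fix_facts hG P hP hne (r := 2) Nat.prime_two (by rw [e]; norm_num)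
      rw [h] at h2' h4
      have := h4 rfl
      refine not_four_dvd_of_fix_one hG h2 h8 P hz hzo ?_ hw hwo
      by_contra hf
      obtain ⟨m, hm1, hm2, hm3⟩ := invol_count P hP (by norm_num) hz hzo (by
        rw [h]
        change fix N z % 13 = 1 at h1
        change ¬ fix N z = 1 at hf
        change 105 + (13 - 1) < fix N z * 13
        change 4 ∣ 105 - fix N z at this
        omega)
      have hm : m = 1 := by omega
      rw [hm, mul_one, ← hNdef, hN52] at hm3
      have hd := Subgroup.card_subgroup_dvd_card (Subgroup.centralizer ({z} : Set G))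
      rw [hn, hm3] at hd
      have hcase : fix N z = 53 := by
        change fix N z % 13 = 1 at h1
        change fix N z < 105 at h2'
        change ¬ fix N z = 1 at hf
        change 4 ∣ 105 - fix N z at this
        omega
      rw [hcase] at hd
      norm_num at hd
  have := four_dvd_centralizer hG h2 h8 P (by rw [← hNdef, hN52]; norm_num) hall
  rcases hC with e | e <;> rw [e] at this <;> norm_num at this

theorem card_ne_5600 : Nat.card G ≠ 5600 := by
  intro hn
  haveI : Fact (Nat.Prime 7) := ⟨by norm_num⟩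
  have hnp : ¬ (Nat.card G).Prime := by rw [hn]; norm_num
  have hG := Small.not_comm_of_card hnp
  obtain ⟨P, hP, hmem, -, hN, hne⟩ := OrdersExcl.setup hG (p := 7) 800 hn (by norm_num) (by norm_num)
  rw [show ((Nat.divisors 800).filter (fun d => d % 7 = 1)).erase 1 = {8, 50, 400} by decide +kernel] at hmem
  simp only [Finset.mem_insert, Finset.mem_singleton] at hmem
  rcases hmem with h | h | h <;> rw [h] at hN
  · have h2 := OrderTools.two_mul_card_normalizer_dvd hG (by norm_num) P hP h
    rw [show Nat.card (Subgroup.normalizer ((P : Subgroup G) : Set G)) = 700 by omega] at h2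
    norm_num at h2
  · have hN112 : Nat.card (Subgroup.normalizer ((P : Subgroup G) : Set G)) = 112 := by omega
    have hC := card_centralizer_cases hnp P hP (n := 112) (by norm_num) hN112
    rw [show (Nat.divisors 112).filter (fun c => 7 ∣ c ∧ c ≠ 112 ∧ 112 ∣ c * (7 - 1)) = {56} by
      decide +kernel, Finset.mem_singleton] at hC
    obtain ⟨z, hz, hzo, h1, h2, -, h4⟩ := fix_facts hG P hP hne (r := 2) Nat.prime_two (by rw [hC]; norm_num)
    rw [h] at h2 h4
    have := h4 rfl
    have hf : fix (Subgroup.normalizer ((P : Subgroup G) : Set G)) z = 22 := by omega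
    obtain ⟨m, hm1, hm2, hm3⟩ := invol_count P hP (by norm_num) hz hzo (by rw [hf, h]; norm_num)
    rw [hf, hN112] at hm3
    have h11 : 11 ∣ Nat.card (Subgroup.centralizer ({z} : Set G)) * m := ⟨2 * 112, by rw [hm3]⟩
    rcases (Nat.Prime.dvd_mul (by norm_num)).1 h11 with hd | hd
    · have := hd.trans (Subgroup.card_subgroup_dvd_card _)
      rw [hn] at this
      norm_num at this
    · have := Nat.le_of_dvd hm1 hd
      omega
  · obtain ⟨a, f, ha2, hf2, had, hfd, hc⟩ := SelfCentral.degrees_two hnp P (by norm_num) hP (by omega)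
      (m := 800) (by rw [hn])
    have key : ∀ a ∈ Nat.divisors 800, ∀ f ∈ Nat.divisors 800, 2 ≤ a → 2 ≤ f →
        ¬ ((a % 7 = 1 ∧ f = a + 1) ∨ (a % 7 = 7 - 1 ∧ f + 1 = a)) := by decide +kernel
    exact key a (Nat.mem_divisors.2 ⟨had, by norm_num⟩) f (Nat.mem_divisors.2 ⟨hfd, by norm_num⟩) ha2 hf2 hc

end Cfsg.Agent.Ord6232
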