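import Cfsg.Agent.Lib.Small.Orders6232.CasesC

/-!
The orders 4536 and 5400.
-/

set_option autoImplicit false
set_option linter.unusedSectionVars false
set_option linter.style.haveILetI false
set_option linter.deprecated false

open Cfsg.Agent.CommFix

namespace Cfsg.Agent.Ord6232

variable {G : Type*} [Group G] [Finite G]

/-- Elements of order `r` in a subgroup whose Sylow `r`-subgroup has order `r` and is unique. -/
theorem mem_zpowers_of_unique {r m : ℕ} [hr : Fact r.Prime] {K : Subgroup G} {x y : G} (hx : x ∈ K)
    (hy : y ∈ K) (hxo : orderOf x = r) (hyo : orderOf y = r) (hK : Nat.card K = r ^ 1 * m) (hm : ¬ r ∣ m)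
    (h1 : Nat.card (Sylow r K) = 1) : y ∈ Subgroup.zpowers x := by
  have hc : ∀ z : K, orderOf (z : G) = r →
      Nat.card (Subgroup.zpowers z) = r ^ (Nat.card K).factorization r := by
    intro z hz
    obtain ⟨S⟩ : Nonempty (Sylow r K) := inferInstance
    rw [Nat.card_zpowers, ← Subgroup.orderOf_coe, hz, ← S.card_eq_multiplicity,
      Small.sylow_card hK hm S, pow_one]
  haveI := (Nat.card_eq_one_iff_unique.1 h1).1
  have := congrArg Sylow.toSubgroup (Subsingleton.elim (Sylow.ofCard _ (hc ⟨y, hy⟩ hyo))
    (Sylow.ofCard _ (hc ⟨x, hx⟩ hxo)))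
  simp only [Sylow.coe_ofCard] at this
  obtain ⟨i, hi⟩ := Subgroup.mem_zpowers_iff.1 (this ▸ Subgroup.mem_zpowers (⟨y, hy⟩ : K))
  exact Subgroup.mem_zpowers_iff.2 ⟨i, congrArg Subtype.val hi⟩

/-- At most `r - 1` conjugates lie in a set inside the powers of `x`. -/
theorem card_conj_le {r : ℕ} (hr : r.Prime) {x : G} (hxo : orderOf x = r) (S : Subgroup G)
    (h : ∀ g, IsConj x g → g ∈ S → g ∈ Subgroup.zpowers x) :
    Nat.card {g : G // IsConj x g ∧ g ∈ S} ≤ r - 1 := by
  classical
  have hne : ∀ g : {g : G // IsConj x g ∧ g ∈ S}, (g : G) ≠ 1 := fun g e => by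
    have h1 : IsConj x 1 := e ▸ g.2.1
    rw [isConj_one_left.1 h1, orderOf_one] at hxo
    exact hr.ne_one hxo.symm
  letI := Fintype.ofFinite (Subgroup.zpowers x)
  have hc : Nat.card {z : Subgroup.zpowers x // z ≠ 1} = r - 1 := by
    rw [Nat.card_eq_fintype_card, Fintype.card_subtype_compl, Fintype.card_subtype_eq,
      ← Nat.card_eq_fintype_card, Nat.card_zpowers, hxo]
  rw [← hc]
  exact Nat.card_le_card_of_injective (fun g => ⟨⟨g, h g g.2.1 g.2.2⟩, fun e => hne g (congrArg Subtype.val e)⟩)
    fun a b hab => Subtype.ext (congrArg (fun w : {z : Subgroup.zpowers x // z ≠ 1} => (w.1 : G)) hab)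

variable [IsSimpleGroup G]

theorem card_ne_4536 : Nat.card G ≠ 4536 := by
  intro hn
  haveI : Fact (Nat.Prime 7) := ⟨by norm_num⟩
  haveI : Fact (Nat.Prime 3) := ⟨by norm_num⟩
  have hnp : ¬ (Nat.card G).Prime := by rw [hn]; norm_num
  have hG := Small.not_comm_of_card hnp
  obtain ⟨P, hP, hmem, hidx, hN, hne⟩ := OrdersExcl.setup hG (p := 7) 648 hn (by norm_num) (by norm_num)
  rw [show ((Nat.divisors 648).filter (fun d => d % 7 = 1)).erase 1 = {8, 36, 162} by decide +kernel] at hmem
  simp only [Finset.mem_insert, Finset.mem_singleton] at hmem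
  rcases hmem with h | h | h <;> rw [h] at hN hidx
  · have h2 := OrderTools.two_mul_card_normalizer_dvd hG (by norm_num) P hP h
    rw [show Nat.card (Subgroup.normalizer ((P : Subgroup G) : Set G)) = 567 by omega] at h2
    norm_num at h2
  · set N := Subgroup.normalizer ((P : Subgroup G) : Set G) with hNdef
    set C := Subgroup.centralizer ((P : Subgroup G) : Set G) with hCdef
    have hN126 : Nat.card N = 126 := by omega
    have hC := card_centralizer_cases hnp P hP (n := 126) (by norm_num) hN126
    rw [show (Nat.divisors 126).filter (fun c => 7 ∣ c ∧ c ≠ 126 ∧ 126 ∣ c * (7 - 1)) = {21, 42, 63} by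
      decide +kernel, ← hCdef] at hC
    simp only [Finset.mem_insert, Finset.mem_singleton] at hC
    obtain ⟨x, hx, hxo, h1, h2, h3, -⟩ := fix_facts hG P hP hne (r := 3) (by norm_num) (by rw [← hCdef]; omega)
    change fix N x % 7 = 1 at h1
    change fix N x < _ at h2
    change _ = fix N x % 3 at h3
    rw [h] at h2 h3
    have hf : fix N x = 15 := by omega
    have hxN : x ∈ N := Small.centralizer_le_normalizer _ hx
    have heq := fix_eq N hxN
    rw [hf, hN126] at heq
    have hall : ∀ g, IsConj x g → g ∈ N → g ∈ C := fun g hg hgN =>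
      mem_centralizer_of_fix P hP hg hgN (by
        show Nat.card (Sylow 7 G) + (7 - 1) < fix N x * 7
        rw [h, hf]; norm_num)
    have hcount : Nat.card {g : G // IsConj x g ∧ g ∈ N} * 7 + 7 ≤ Nat.card C :=
      (conj_count P hP (by norm_num) (by norm_num) hxo).2 hall
    set M := Subgroup.centralizer ({x} : Set G) with hMdef
    have hd5 : 5 ∣ Nat.card {g : G // IsConj x g ∧ g ∈ N} := by
      refine ((Nat.Prime.dvd_mul (by norm_num)).1 (⟨378, heq⟩ : 5 ∣ Nat.card M * _)).resolve_left
        fun hd => ?_
      have := hd.trans M.card_subgroup_dvd_card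
      rw [hn] at this
      norm_num at this
    haveI : Nonempty {g : G // IsConj x g ∧ g ∈ N} := ⟨⟨x, IsConj.refl x, hxN⟩⟩
    have hpos : 0 < Nat.card {g : G // IsConj x g ∧ g ∈ N} := Nat.card_pos
    have hC63 : Nat.card C = 63 := by
      rcases hC with e | e | e
      · omega
      · -- the Sylow three-subgroup of `C` is unique
        exfalso
        have hC3 : Nat.card C = 3 ^ 1 * 14 := by rw [e]; norm_num
        obtain ⟨S⟩ : Nonempty (Sylow 3 C) := inferInstance
        have hS : Nat.card (S : Subgroup C) = 3 := (Small.sylow_card hC3 (by norm_num) S).trans (pow_one 3)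
        have hSN := Small.card_normalizer_mul S
        have h7 : 7 ∣ Nat.card (Subgroup.normalizer ((S : Subgroup C) : Set C)) := by
          have hle : ((P : Subgroup G).subgroupOf C) ≤ Subgroup.normalizer ((S : Subgroup C) : Set C) := by
            intro v hv
            refine Small.centralizer_le_normalizer _ (Subgroup.mem_centralizer_iff.2 fun w _ => ?_)
            exact Subtype.ext ((Subgroup.mem_centralizer_iff.1 w.2 _ hv).symm)
          have := Subgroup.card_dvd_of_le hle
          rwa [Nat.card_congr (Subgroup.subgroupOfEquivOfLe (Small.le_centralizer_self _ hP)).toEquiv, hP] at this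
        have hs := Small.sylow_number_mem hC3 (by norm_num)
        rw [show (Nat.divisors 14).filter (fun d => d % 3 = 1) = {1, 7} by decide +kernel,
          Finset.mem_insert, Finset.mem_singleton] at hs
        have hs1 : Nat.card (Sylow 3 C) = 1 := hs.resolve_right fun e7 => by
          obtain ⟨a, ha⟩ := h7
          rw [e7, ha, e] at hSN
          omega
        have hle2 := card_conj_le (by norm_num) hxo N fun g hg hgN =>
          mem_zpowers_of_unique hx (hall g hg hgN) hxo (by
            obtain ⟨k, hk⟩ := isConj_iff.1 hg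
            rw [← hk, Invol.order_conj, hxo]) hC3 (by norm_num) hs1
        have := Nat.le_of_dvd hpos hd5
        omega
      · exact e
    have hj5 : Nat.card {g : G // IsConj x g ∧ g ∈ N} = 5 := by
      rw [hC63] at hcount
      obtain ⟨k, hk⟩ := hd5
      omega
    rw [hj5] at heq
    have hM378 : Nat.card M = 378 := by omega
    have hMi : M.index = 12 := by
      have := M.card_mul_index
      rw [hM378, hn] at this
      omega
    have hMne : M ≠ ⊤ := fun e => by rw [e, Subgroup.index_top] at hMi; omega
    obtain ⟨v, hv⟩ := exists_prime_orderOf_dvd_card' (G := (P : Subgroup G)) 7 (by rw [hP])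
    have hvo : orderOf (v : G) = 7 := by rw [Subgroup.orderOf_coe, hv]
    have hfv := modEq_prime (by norm_num : Nat.Prime 7) M hvo
    have hfvlt := fix_lt hMne (x := (v : G)) (fun e => by rw [e, orderOf_one] at hvo; omega)
    rw [hMi] at hfv hfvlt
    have hf5 : fix M (v : G) = 5 := by omega
    letI act : MulAction C (MulAction.fixedBy (G ⧸ M) (v : G)) :=
      { smul := fun w q => ⟨(w : G) • q.1, by
          rw [MulAction.mem_fixedBy, ← mul_smul, Subgroup.mem_centralizer_iff.1 w.2 _ v.2, mul_smul,
            MulAction.mem_fixedBy.1 q.2]⟩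
        one_smul := fun q => Subtype.ext (one_smul G q.1)
        mul_smul := fun a b q => Subtype.ext (mul_smul (a : G) b q.1) }
    set φ := MulAction.toPermHom C (MulAction.fixedBy (G ⧸ M) (v : G)) with hφ
    have hrange : Nat.card φ.range ∣ 120 := by
      have h1 := φ.range.card_subgroup_dvd_card
      rw [Nat.card_perm, show Nat.card (MulAction.fixedBy (G ⧸ M) (v : G)) = 5 from hf5] at h1
      simpa [Nat.factorial] using h1
    have hker : Nat.card φ.range * Nat.card φ.ker = 63 := by
      rw [← hC63, Subgroup.card_eq_card_quotient_mul_card_subgroup φ.ker,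
        Nat.card_congr (QuotientGroup.quotientKerEquivRange φ).toEquiv]
    have h3k : 3 ∣ Nat.card φ.ker := by
      have key : ∀ a ∈ Nat.divisors 120, ∀ b ∈ Nat.divisors 63, a * b = 63 → 3 ∣ b := by decide +kernel
      exact key _ (Nat.mem_divisors.2 ⟨hrange, by norm_num⟩) _ (Nat.mem_divisors.2 ⟨Dvd.intro_left _ hker, by norm_num⟩) hker
    obtain ⟨y, hy⟩ := exists_prime_orderOf_dvd_card' 3 h3k
    have hyo : orderOf ((y : C) : G) = 3 := by rw [Subgroup.orderOf_coe, Subgroup.orderOf_coe, hy]
    have hc : Commute ((y : C) : G) (v : G) := (Subgroup.mem_centralizer_iff.1 (y : C).2 _ v.2).symm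
    have hyfix := fix_common (by norm_num : Nat.Prime 7) M hvo hc
    have hcom : Nat.card {q : G ⧸ M // ((y : C) : G) • q = q ∧ (v : G) • q = q} = 5 := by
      rw [← hf5]
      refine Nat.card_congr
        { toFun := fun q => ⟨q.1, MulAction.mem_fixedBy.2 q.2.2⟩
          invFun := fun q => ⟨q.1, ?_, MulAction.mem_fixedBy.1 q.2⟩
          left_inv := fun q => rfl
          right_inv := fun q => rfl }
      exact congrArg Subtype.val (DFunLike.congr_fun (MonoidHom.mem_ker.1 y.2) q)
    rw [hcom] at hyfix
    have hylt := fix_lt hMne (x := ((y : C) : G)) (fun e => by rw [e, orderOf_one] at hyo; omega)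
    have hy3 := modEq_prime (by norm_num : Nat.Prime 3) M hyo
    rw [hMi] at hylt hy3
    omega
  · have hN28 : Nat.card (Subgroup.normalizer ((P : Subgroup G) : Set G)) = 28 := by omega
    have hC := card_centralizer_cases hnp P hP (n := 28) (by norm_num) hN28
    rw [show (Nat.divisors 28).filter (fun c => 7 ∣ c ∧ c ≠ 28 ∧ 28 ∣ c * (7 - 1)) = {14} by
      decide +kernel, Finset.mem_singleton] at hC
    obtain ⟨z, hz, hzo, hCz⟩ := exists_central_invol P hP (by norm_num) (k := 1) (by norm_num) (by rw [hC]; norm_num)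
    have hmod := fix_mod P hP hz
    have hlt := fix_lt hne (Invol.ne_one hzo)
    have h4 := four_dvd hG hne hzo
    rw [hidx] at hlt h4
    have hzN := Small.centralizer_le_normalizer _ hz
    have heq := fix_eq _ hzN
    rw [hN28] at heq
    set D := Subgroup.centralizer ({z} : Set G) with hD
    have hd14 : 14 ∣ Nat.card D := hC ▸ Subgroup.card_dvd_of_le hCz
    have hdG : Nat.card D ∣ 4536 := hn ▸ D.card_subgroup_dvd_card
    have hj := (conj_count P hP Nat.prime_two (by norm_num) hzo).1
    rw [hN28] at hj
    by_cases hbig : 25 ≤ fix (Subgroup.normalizer ((P : Subgroup G) : Set G)) z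
    · obtain ⟨m, hm1, hm2, hm3⟩ := invol_count P hP (by norm_num) hz hzo (by rw [h]; omega)
      have hm : m = 1 := by omega
      rw [hm, mul_one, hN28, ← hD] at hm3
      rw [hm3] at hdG
      have key : ∀ f ∈ Finset.range 162, f % 7 = 1 → 4 ∣ 162 - f → 25 ≤ f → ¬ f * 28 ∣ 4536 := by
        decide +kernel
      exact key _ (Finset.mem_range.2 hlt) hmod h4 hbig hdG
    · have hf : fix (Subgroup.normalizer ((P : Subgroup G) : Set G)) z = 22 := by omega
      rw [hf] at heq
      have key : ∀ c ∈ Nat.divisors 4536, 14 ∣ c → ∀ j ∈ Finset.range 22, c * j = 22 * 28 → c = 56 := by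
        decide +kernel
      have hc56 := key _ (Nat.mem_divisors.2 ⟨hdG, by norm_num⟩) hd14 _ (Finset.mem_range.2 (by omega)) heq
      obtain ⟨d, hd, hdd, hK⟩ := overgroup P (M := D)
        ((Small.le_centralizer_self _ hP).trans hCz)
      have hK' := hK _ hCz (Small.centralizer_le_normalizer _)
      rw [hc56, hN28] at hdd
      rw [hc56] at hd
      rw [hC, hc56] at hK'
      rw [show (Nat.divisors 56).filter (fun d => d % 7 = 1) = {1, 8} by decide +kernel,
        Finset.mem_insert, Finset.mem_singleton] at hd
      rcases hd with rfl | rfl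
      · norm_num at hdd
      · norm_num at hK'

theorem card_ne_5400 : Nat.card G ≠ 5400 := by
  intro hn
  classical
  haveI : Fact (Nat.Prime 5) := ⟨by norm_num⟩
  haveI : Fact (Nat.Prime 3) := ⟨by norm_num⟩
  haveI : Fact (Nat.Prime 2) := ⟨Nat.prime_two⟩
  have hG := Small.not_comm_of_card (G := G) (by rw [hn]; norm_num)
  have hk : Nat.card G = 5 ^ 2 * 216 := by rw [hn]; norm_num
  have hm := Small.sylow_number_mem hk (by norm_num)
  rw [show (Nat.divisors 216).filter (fun d => d % 5 = 1) = {1, 6, 36, 216} by decide +kernel] at hm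
  simp only [Finset.mem_insert, Finset.mem_singleton] at hm
  obtain ⟨P⟩ : Nonempty (Sylow 5 G) := inferInstance
  have hPc := Small.sylow_card hk (by norm_num) P
  have hab : ∀ a ∈ (P : Subgroup G), ∀ b ∈ (P : Subgroup G), a * b = b * a := fun a ha b hb =>
    congrArg Subtype.val (IsPGroup.commutative_of_card_eq_prime_sq hPc ⟨a, ha⟩ ⟨b, hb⟩)
  have hfac := Small.factorial_bound (p := 5) hG (by rw [hn]; norm_num)
  have hN := Small.card_normalizer_mul P
  rw [hn] at hN
  obtain ⟨v, hv⟩ := exists_prime_orderOf_dvd_card' (G := (P : Subgroup G)) 5 (by rw [hPc]; norm_num)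
  have hv1 : (v : G) ≠ 1 := fun e => by
    rw [← Subgroup.orderOf_coe, e, orderOf_one] at hv; omega
  rcases hm with h | h | h | h
  · exact Small.sylow_number_ne_one (p := 5) hG (by rw [hn]; norm_num) h
  · rw [h, hn] at hfac; norm_num [Nat.factorial] at hfac
  swap
  · rw [h] at hN
    have heq : (P : Subgroup G) = Subgroup.normalizer ((P : Subgroup G) : Set G) :=
      Subgroup.eq_of_le_of_card_ge Subgroup.le_normalizer (by rw [hPc, show (5 : ℕ) ^ 2 = 25 from rfl]; omega)
    exact hv1 (focal_eq_one hG P hab v.2 fun n hn' => hab n (by rw [heq]; exact hn') v v.2)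
  rw [h] at hN
  set N := Subgroup.normalizer ((P : Subgroup G) : Set G) with hNdef
  have hN150 : Nat.card N = 150 := by omega
  have hNi : N.index = 36 := (Small.card_eq_index P).symm.trans h
  have hNne : N ≠ ⊤ := fun e => by rw [e, Subgroup.index_top] at hNi; omega
  have hPN : (P : Subgroup G) ≤ N := Subgroup.le_normalizer
  obtain ⟨x₀, hx₀⟩ := exists_prime_orderOf_dvd_card' (G := N) 3 (by rw [hN150]; norm_num)
  set x : G := (x₀ : G) with hxdef
  have hxo : orderOf x = 3 := by rw [hxdef, Subgroup.orderOf_coe, hx₀]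
  have hxN : x ∈ N := x₀.2
  have hx1 : x ≠ 1 := fun e => by rw [e, orderOf_one] at hxo; omega
  have hxP : ∀ w ∈ (P : Subgroup G), x * w * x⁻¹ ∈ (P : Subgroup G) := fun w hw =>
    (Subgroup.mem_normalizer_iff.1 hxN w).1 hw
  -- only one coset of `N` is fixed by `P`
  have honly : ∀ q : G ⧸ N, (∀ w ∈ (P : Subgroup G), w • q = q) → q = ((1 : G) : G ⧸ N) := by
    intro q
    induction q using QuotientGroup.induction_on with
    | H g =>
      intro hq
      have hle : (P : Subgroup G).map (MulAut.conj g⁻¹).toMonoidHom ≤ N := by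
        rintro _ ⟨w, hw, rfl⟩
        have h1 := hq w hw
        rw [MulAction.Quotient.smul_mk, QuotientGroup.eq, smul_eq_mul] at h1
        have := inv_mem h1
        simpa [mul_assoc] using this
      have hP' : Nat.card ((P : Subgroup G).map (MulAut.conj g⁻¹).toMonoidHom : Subgroup G) = 5 ^ (Nat.card G).factorization 5 := by
        rw [Subgroup.card_map_of_injective (MulAut.conj g⁻¹).injective, P.card_eq_multiplicity]
      set P' := Sylow.ofCard _ hP' with hP'def
      have e : (P' : Subgroup G) = (P : Subgroup G) :=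
        P.is_maximal' (by
          have := P'.isPGroup'.to_sup_of_normal_right' P.isPGroup'
            (show (P' : Subgroup G) ≤ N by rw [hP'def, Sylow.coe_ofCard]; exact hle)
          exact this) le_sup_right ▸ le_antisymm le_sup_left (sup_le le_rfl (by
            have h5 : (P' : Subgroup G) ⊔ (P : Subgroup G) = (P' : Subgroup G) :=
              P'.is_maximal' (P'.isPGroup'.to_sup_of_normal_right' P.isPGroup'
                (show (P' : Subgroup G) ≤ N by rw [hP'def, Sylow.coe_ofCard]; exact hle)) le_sup_left
            exact h5 ▸ le_sup_right))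
      rw [hP'def, Sylow.coe_ofCard] at e
      rw [QuotientGroup.eq, mul_one]
      refine Subgroup.mem_normalizer_iff.2 fun w => ?_
      constructor
      · intro hw; exact e ▸ ⟨w, hw, by simp⟩
      · intro hw
        rw [← e] at hw
        obtain ⟨u, hu, hu'⟩ := hw
        simp only [MulEquiv.coe_toMonoidHom, MulAut.conj_apply] at hu'
        rwa [← mul_left_cancel (mul_right_cancel hu')]
  by_cases hxC : ∀ w ∈ (P : Subgroup G), x * w = w * x
  · -- `x` centralizes `P`
    set CP := Subgroup.centralizer ((P : Subgroup G) : Set G) with hCP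
    have hxCP : x ∈ CP := Subgroup.mem_centralizer_iff.2 fun w hw => (hxC w hw).symm
    have hCN : CP ≤ N := Small.centralizer_le_normalizer _
    have hPCP : (P : Subgroup G) ≤ CP := fun w hw => Subgroup.mem_centralizer_iff.2 fun u hu => hab u hu w hw
    have hc75 : Nat.card CP = 75 := by
      have d1 : 25 ∣ Nat.card CP := by
        have := Subgroup.card_dvd_of_le hPCP
        rwa [hPc] at this
      have d2 : 3 ∣ Nat.card CP := hxo ▸ Subgroup.orderOf_dvd_natCard CP hxCP
      have d3 : Nat.card CP ∣ 150 := hN150 ▸ Subgroup.card_dvd_of_le hCN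
      have key : ∀ c ∈ Nat.divisors 150, 25 ∣ c → 3 ∣ c → c = 75 ∨ c = 150 := by decide +kernel
      refine (key _ (Nat.mem_divisors.2 ⟨d3, by norm_num⟩) d1 d2).resolve_right fun e => hv1 ?_
      have heqN : CP = N := Subgroup.eq_of_le_of_card_ge hCN (by rw [e, hN150])
      exact focal_eq_one hG P hab v.2 fun n hn' =>
        (Subgroup.mem_centralizer_iff.1 (show n ∈ CP by rw [heqN]; exact hn') v v.2).symm
    have hC3 : Nat.card CP = 3 ^ 1 * 25 := by rw [hc75]; norm_num
    have hs : Nat.card (Sylow 3 CP) = 1 := by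
      have hs := Small.sylow_number_mem hC3 (by norm_num)
      rw [show (Nat.divisors 25).filter (fun d => d % 3 = 1) = {1, 25} by decide +kernel,
        Finset.mem_insert, Finset.mem_singleton] at hs
      refine hs.resolve_right fun e => ?_
      obtain ⟨S⟩ : Nonempty (Sylow 3 CP) := inferInstance
      have hSN := Small.card_normalizer_mul S
      have hle : (P : Subgroup G).subgroupOf CP ≤ Subgroup.normalizer ((S : Subgroup CP) : Set CP) :=
        fun w hw => Small.centralizer_le_normalizer _ (Subgroup.mem_centralizer_iff.2 fun u _ =>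
          Subtype.ext ((Subgroup.mem_centralizer_iff.1 u.2 _ hw).symm))
      have h25 := Subgroup.card_dvd_of_le hle
      rw [Nat.card_congr (Subgroup.subgroupOfEquivOfLe hPCP).toEquiv, hPc] at h25
      have := Nat.le_of_dvd Nat.card_pos h25
      rw [e, hc75] at hSN
      omega
    have hidx2 : (CP.subgroupOf N).index = 2 := by
      have := (CP.subgroupOf N).card_mul_index
      rw [Nat.card_congr (Subgroup.subgroupOfEquivOfLe hCN).toEquiv, hc75, hN150] at this
      omega
    have hin : ∀ g, IsConj x g → g ∈ N → g ∈ CP ∧ g ∈ Subgroup.zpowers x := by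
      intro g hg hgN
      have hgo : orderOf g = 3 := by
        obtain ⟨k, hk⟩ := isConj_iff.1 hg
        rw [← hk, Invol.order_conj, hxo]
      have hgC : g ∈ CP := by
        have h2 := Subgroup.mul_self_mem_of_index_two hidx2 (⟨g, hgN⟩ * ⟨g, hgN⟩ : N)
        rw [Subgroup.mem_subgroupOf] at h2
        push_cast at h2
        rwa [show g * g * (g * g) = g ^ 3 * g by rw [pow_succ, pow_two]; simp only [mul_assoc],
          show g ^ 3 = 1 by rw [← hgo]; exact pow_orderOf_eq_one g, one_mul] at h2
      exact ⟨hgC, mem_zpowers_of_unique hxCP hgC hxo hgo hC3 (by norm_num) hs⟩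
    have hj : Nat.card {g : G // IsConj x g ∧ g ∈ N} ≤ 2 :=
      card_conj_le (by norm_num) hxo N fun g hg hgN => (hin g hg hgN).2
    -- fixed points on the Sylow subgroups
    have hfm : fix N x % 5 = 1 := by
      rw [fix_common_group (q := 5) N (P : Subgroup G) P.isPGroup' hxC]
      suffices Nat.card {c : G ⧸ N // x • c = c ∧ ∀ w ∈ (P : Subgroup G), w • c = c} = 1 by rw [this]
      rw [Nat.card_eq_one_iff_unique]
      exact ⟨⟨fun a b => Subtype.ext ((honly a.1 a.2.2).trans (honly b.1 b.2.2).symm)⟩,
        ⟨⟨_, one_mem_fix hxN, fun w hw => one_mem_fix (hPN hw)⟩⟩⟩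
    have hflt := fix_lt hNne hx1
    have hf3 := modEq_prime (by norm_num : Nat.Prime 3) N hxo
    rw [hNi] at hflt hf3
    have heq := fix_eq N hxN
    rw [hN150] at heq
    set M := Subgroup.centralizer ({x} : Set G) with hMdef
    haveI : Nonempty {g : G // IsConj x g ∧ g ∈ N} := ⟨⟨x, IsConj.refl x, hxN⟩⟩
    have hjpos : 0 < Nat.card {g : G // IsConj x g ∧ g ∈ N} := Nat.card_pos
    have hdG : Nat.card M ∣ 5400 := hn ▸ M.card_subgroup_dvd_card
    have key : ∀ c ∈ Nat.divisors 5400, ∀ j ∈ Finset.range 3, 0 < j → ∀ f ∈ ({6, 21} : Finset ℕ),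
        c * j = f * 150 → c = 450 ∨ c = 900 := by decide +kernel
    have hMc := key _ (Nat.mem_divisors.2 ⟨hdG, by norm_num⟩) _ (Finset.mem_range.2 (by omega)) hjpos
      (fix N x) (by simp only [Finset.mem_insert, Finset.mem_singleton]; omega) heq
    have hMmul := M.card_mul_index
    rw [hn] at hMmul
    have hMne : M ≠ ⊤ := fun e => by
      rw [e, Subgroup.card_top, hn] at hMc; omega
    have hMi : M.index = 12 := by
      rcases hMc with e | e <;> rw [e] at hMmul
      · omega
      · exfalso
        have hf := (factorial_index hG hMne)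
        rw [show M.index = 6 by omega, hn] at hf
        norm_num [Nat.factorial] at hf
    -- fixed points of `P` and `x` on the cosets of `C(x)`
    have hfixP : ∀ q : {q : G ⧸ M // ∀ w ∈ (P : Subgroup G), w • q = q},
        IsConj x (q.1.out * x * q.1.out⁻¹) ∧ q.1.out * x * q.1.out⁻¹ ∈ N := by
      intro q
      refine ⟨isConj_iff.2 ⟨q.1.out, rfl⟩, hCN (Subgroup.mem_centralizer_iff.2 fun w hw => ?_)⟩
      have h1 := q.2 w hw
      rw [← QuotientGroup.out_eq' q.1, MulAction.Quotient.smul_mk, QuotientGroup.eq, smul_eq_mul] at h1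
      have h2 := Subgroup.mem_centralizer_singleton_iff.1 (inv_mem h1)
      calc w * (q.1.out * x * q.1.out⁻¹) = q.1.out * (((w * q.1.out)⁻¹ * q.1.out)⁻¹ * x) * q.1.out⁻¹ := by group
        _ = q.1.out * (x * ((w * q.1.out)⁻¹ * q.1.out)⁻¹) * q.1.out⁻¹ := by rw [h2]
        _ = q.1.out * x * q.1.out⁻¹ * w := by group
    have hc : Nat.card {q : G ⧸ M // ∀ w ∈ (P : Subgroup G), w • q = q} ≤ 2 := by
      refine (Nat.card_le_card_of_injective (fun q => (⟨_, hfixP q⟩ : {g : G // IsConj x g ∧ g ∈ N})) ?_).trans hj
      intro a b hab'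
      have he : a.1.out * x * a.1.out⁻¹ = b.1.out * x * b.1.out⁻¹ := congrArg Subtype.val hab'
      apply Subtype.ext
      rw [← QuotientGroup.out_eq' a.1, ← QuotientGroup.out_eq' b.1, QuotientGroup.eq]
      refine Subgroup.mem_centralizer_singleton_iff.2 ?_
      calc a.1.out⁻¹ * b.1.out * x = a.1.out⁻¹ * (b.1.out * x * b.1.out⁻¹) * b.1.out := by group
        _ = a.1.out⁻¹ * (a.1.out * x * a.1.out⁻¹) * b.1.out := by rw [he]
        _ = x * (a.1.out⁻¹ * b.1.out) := by group
    have hcong := P.isPGroup'.card_modEq_card_fixedPoints (G ⧸ M)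
    have hfp : Nat.card (MulAction.fixedPoints (P : Subgroup G) (G ⧸ M)) =
        Nat.card {q : G ⧸ M // ∀ w ∈ (P : Subgroup G), w • q = q} :=
      Nat.card_congr (Equiv.subtypeEquivRight fun q =>
        ⟨fun hq w hw => hq ⟨w, hw⟩, fun hq w => hq w w.2⟩)
    rw [hfp, ← Subgroup.index, hMi, Nat.ModEq] at hcong
    have hc2 : Nat.card {q : G ⧸ M // ∀ w ∈ (P : Subgroup G), w • q = q} = 2 := by omega
    have hxfix : fix M x % 5 = 2 := by
      rw [fix_common_group (q := 5) M (P : Subgroup G) P.isPGroup' hxC]
      suffices Nat.card {c : G ⧸ M // x • c = c ∧ ∀ w ∈ (P : Subgroup G), w • c = c} = 2 by rw [this]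
      rw [← hc2]
      refine Nat.card_congr
        { toFun := fun q => ⟨q.1, q.2.2⟩
          invFun := fun q => ⟨q.1, ?_, q.2⟩
          left_inv := fun q => rfl
          right_inv := fun q => rfl }
      obtain ⟨i, hi⟩ := Subgroup.mem_zpowers_iff.1 (hin _ (hfixP q).1 (hfixP q).2).2
      have hcomm : q.1.out * x * q.1.out⁻¹ * x = x * (q.1.out * x * q.1.out⁻¹) := by
        rw [← hi]; exact ((Commute.refl x).zpow_left i).eq
      rw [← QuotientGroup.out_eq' q.1, MulAction.Quotient.smul_mk, QuotientGroup.eq, smul_eq_mul]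
      refine Subgroup.mem_centralizer_singleton_iff.2 ?_
      calc (x * q.1.out)⁻¹ * q.1.out * x
          = q.1.out⁻¹ * x⁻¹ * (q.1.out * x * q.1.out⁻¹ * x) * x⁻¹ * q.1.out := by group
        _ = q.1.out⁻¹ * x⁻¹ * (x * (q.1.out * x * q.1.out⁻¹)) * x⁻¹ * q.1.out := by rw [hcomm]
        _ = x * ((x * q.1.out)⁻¹ * q.1.out) := by group
    have hxlt := fix_lt hMne hx1
    have hx3 := modEq_prime (by norm_num : Nat.Prime 3) M hxo
    rw [hMi] at hxlt hx3
    omega
  · -- `x` acts without fixed points on `P`
    have hfree : ∀ w ∈ (P : Subgroup G), x * w = w * x → w = 1 := by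
      have hle : (Subgroup.centralizer ({x} : Set G) ⊓ (P : Subgroup G) : Subgroup G) ≤ (P : Subgroup G) :=
        inf_le_right
      obtain ⟨i, hi, hic⟩ := (Nat.dvd_prime_pow (by norm_num : Nat.Prime 5)).1
        (hPc ▸ Subgroup.card_dvd_of_le hle)
      interval_cases i
      · intro w hw hwx
        have := Subgroup.card_eq_one.1 (hic.trans (pow_zero 5))
        exact (Subgroup.eq_bot_iff_forall _).1 this w
          (Subgroup.mem_inf.2 ⟨Subgroup.mem_centralizer_singleton_iff.2 hwx.symm, hw⟩)
      · exfalso
        letI act : MulAction (Subgroup.zpowers x) (P : Subgroup G) :=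
          { smul := fun g w => ⟨(g : G) * w * (g : G)⁻¹,
              (Subgroup.mem_normalizer_iff.1 ((Subgroup.zpowers_le.2 hxN) g.2) w).1 w.2⟩
            one_smul := fun w => Subtype.ext (by
              show ((1 : Subgroup.zpowers x) : G) * w * ((1 : Subgroup.zpowers x) : G)⁻¹ = w
              simp)
            mul_smul := fun a b w => Subtype.ext (by
              show (↑(a * b) : G) * w * (↑(a * b) : G)⁻¹ = (a : G) * ((b : G) * w * (b : G)⁻¹) * (a : G)⁻¹
              push_cast; group) }
        have hpg : IsPGroup 3 (Subgroup.zpowers x) :=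
          IsPGroup.of_card (n := 1) (by rw [Nat.card_zpowers, hxo, pow_one])
        have hmod := hpg.card_modEq_card_fixedPoints (P : Subgroup G)
        have hfp : Nat.card (MulAction.fixedPoints (Subgroup.zpowers x) (P : Subgroup G)) = 5 := by
          refine (?_ : _ = Nat.card (Subgroup.centralizer ({x} : Set G) ⊓ (P : Subgroup G) : Subgroup G)).trans
            (hic.trans (pow_one 5))
          refine Nat.card_congr
            { toFun := fun w => ⟨w.1.1, Subgroup.mem_inf.2 ⟨Subgroup.mem_centralizer_singleton_iff.2 ?_, w.1.2⟩⟩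
              invFun := fun w => ⟨⟨w.1, (Subgroup.mem_inf.1 w.2).2⟩, fun g => Subtype.ext ?_⟩
              left_inv := fun w => rfl
              right_inv := fun w => rfl }
          · have : x * w.1.1 * x⁻¹ = w.1.1 := congrArg Subtype.val (w.2 ⟨x, Subgroup.mem_zpowers x⟩)
            calc w.1.1 * x = x * w.1.1 * x⁻¹ * x := by rw [this]
              _ = x * w.1.1 := by group
          · obtain ⟨j, hj⟩ := Subgroup.mem_zpowers_iff.1 g.2
            show (g : G) * w.1 * (g : G)⁻¹ = w.1
            have hcx : Commute x w.1 :=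
              (Subgroup.mem_centralizer_singleton_iff.1 (Subgroup.mem_inf.1 w.2).1).symm
            rw [← hj, (hcx.zpow_left j).eq, mul_inv_cancel_right]
        rw [hfp, hPc, Nat.ModEq] at hmod
        norm_num at hmod
      · exfalso
        apply hxC
        intro w hw
        have heq := Subgroup.eq_of_le_of_card_ge hle (by rw [hic, hPc])
        rw [← heq] at hw
        exact (Subgroup.mem_centralizer_singleton_iff.1 (Subgroup.mem_inf.1 hw).1).symm
    letI := Fintype.ofFinite (P : Subgroup G)
    set r := Nat.card (MulAction.orbitRel.Quotient (P : Subgroup G) (G ⧸ N)) with hr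
    have hb := sum_fix N (P : Subgroup G)
    rw [← hr, hPc, ← Finset.add_sum_erase _ _ (Finset.mem_univ (1 : (P : Subgroup G)))] at hb
    have hone : fix N ((1 : (P : Subgroup G)) : G) = 36 := by
      rw [← hNi]; exact Nat.card_congr (Equiv.subtypeUnivEquiv fun q => one_smul G q)
    rw [hone] at hb
    -- fibres of the fixed point function
    have key : ∀ w : ℕ, 12 ∣ ((Finset.univ.erase (1 : (P : Subgroup G))).filter
        (fun u : (P : Subgroup G) => fix N (u : G) = w)).card := by
      intro w
      set S := (Finset.univ.erase (1 : (P : Subgroup G))).filter (fun u : (P : Subgroup G) => fix N (u : G) = w) with hS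
      refine Nat.Coprime.mul_dvd_of_dvd_of_dvd (show Nat.Coprime 3 4 by norm_num) ?_ ?_
      · letI act : MulAction (Subgroup.zpowers x) S :=
          { smul := fun g u => ⟨⟨(g : G) * u.1.1 * (g : G)⁻¹,
              (Subgroup.mem_normalizer_iff.1 ((Subgroup.zpowers_le.2 hxN) g.2) _).1 u.1.2⟩, by
              have h1 := Finset.mem_filter.1 u.2
              refine Finset.mem_filter.2 ⟨Finset.mem_erase.2 ⟨fun e => Finset.ne_of_mem_erase h1.1 ?_,
                Finset.mem_univ _⟩, ?_⟩
              · exact Subtype.ext (conj_eq_one_iff.1 (congrArg Subtype.val e))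
              · show fix N ((g : G) * u.1.1 * (g : G)⁻¹) = w
                rw [← fix_conj N (isConj_iff.2 ⟨(g : G), rfl⟩ : IsConj (u.1.1 : G) _)]
                exact h1.2⟩
            one_smul := fun u => Subtype.ext (Subtype.ext (by
              show ((1 : Subgroup.zpowers x) : G) * u.1.1 * ((1 : Subgroup.zpowers x) : G)⁻¹ = u.1.1
              simp))
            mul_smul := fun a b u => Subtype.ext (Subtype.ext (by
              show (↑(a * b) : G) * u.1.1 * (↑(a * b) : G)⁻¹ = (a : G) * ((b : G) * u.1.1 * (b : G)⁻¹) * (a : G)⁻¹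
              push_cast; group)) }
        have hpg : IsPGroup 3 (Subgroup.zpowers x) :=
          IsPGroup.of_card (n := 1) (by rw [Nat.card_zpowers, hxo, pow_one])
        have hmod := hpg.card_modEq_card_fixedPoints S
        haveI : IsEmpty (MulAction.fixedPoints (Subgroup.zpowers x) S) := ⟨fun u => by
          have h1 : x * u.1.1.1 * x⁻¹ = u.1.1.1 :=
            congrArg (fun e : S => (e.1.1 : G)) (u.2 ⟨x, Subgroup.mem_zpowers x⟩)
          refine Finset.ne_of_mem_erase (Finset.mem_filter.1 u.1.2).1 (Subtype.ext (hfree _ u.1.1.2 ?_))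
          calc x * u.1.1.1 = x * u.1.1.1 * x⁻¹ * x := by group
            _ = u.1.1.1 * x := by rw [h1]⟩
        rw [Nat.card_of_isEmpty (α := MulAction.fixedPoints (Subgroup.zpowers x) S),
          Nat.card_eq_fintype_card, Fintype.card_coe] at hmod
        exact Nat.modEq_zero_iff_dvd.1 hmod
      · rw [Finset.card_eq_sum_card_image (fun u : (P : Subgroup G) => Subgroup.zpowers (u : G)) S]
        refine Finset.dvd_sum fun L hL => ?_
        obtain ⟨u, hu, rfl⟩ := Finset.mem_image.1 hL
        have hu1 := Finset.mem_filter.1 hu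
        have huG : (u : G) ≠ 1 := fun e => Finset.ne_of_mem_erase hu1.1 (Subtype.ext e)
        have huo : orderOf (u : G) = 5 := by
          have h5 : (u : G) ^ 5 = 1 := by
            have hord : orderOf (u : G) ∣ 5 ^ 2 := hPc ▸ Subgroup.orderOf_dvd_natCard _ u.2
            obtain ⟨i, hi, hic⟩ := (Nat.dvd_prime_pow (by norm_num : Nat.Prime 5)).1 hord
            interval_cases i
            · exact absurd (orderOf_eq_one_iff.1 (hic.trans (pow_zero 5))) huG
            · exact orderOf_dvd_iff_pow_eq_one.1 (by rw [hic, pow_one])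
            · exfalso
              -- a cyclic Sylow subgroup is centralized by `x`
              haveI : IsCyclic (P : Subgroup G) :=
                isCyclic_of_orderOf_eq_card u (by rw [← Subgroup.orderOf_coe, hic, hPc])
              have hk : (⟨x, hxN⟩ : Subgroup.normalizer ((P : Subgroup G) : Set G)) ∈
                  (P : Subgroup G).normalizerMonoidHom.ker := by
                rw [MonoidHom.mem_ker, ← orderOf_eq_one_iff]
                have h1 : orderOf ((P : Subgroup G).normalizerMonoidHom ⟨x, hxN⟩) ∣ 3 := by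
                  refine (orderOf_map_dvd _ _).trans ?_
                  rw [Subgroup.orderOf_mk, hxo]
                have h2 : orderOf ((P : Subgroup G).normalizerMonoidHom ⟨x, hxN⟩) ∣ 20 := by
                  refine (orderOf_dvd_natCard _).trans ?_
                  rw [IsCyclic.card_mulAut, hPc, Nat.totient_prime_pow (by norm_num) (by norm_num)]
                  norm_num
                exact Nat.eq_one_of_dvd_one (by simpa using Nat.dvd_gcd h1 h2)
              rw [Subgroup.normalizerMonoidHom_ker, Subgroup.mem_subgroupOf] at hk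
              exact hxC fun w hw => (Subgroup.mem_centralizer_iff.1 hk w hw).symm
          exact orderOf_eq_prime h5 huG
        have hfib : ∀ y : (P : Subgroup G),
            y ∈ S.filter (fun a : (P : Subgroup G) => Subgroup.zpowers (a : G) = Subgroup.zpowers (u : G)) ↔
              y ∈ (Finset.univ.filter fun y : (P : Subgroup G) => (y : G) ∈ Subgroup.zpowers (u : G)).erase 1 := by
          intro y
          simp only [Finset.mem_filter, Finset.mem_erase, Finset.mem_univ, true_and, hS]
          constructor
          · rintro ⟨⟨⟨hy1, -⟩, -⟩, hyz⟩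
            exact ⟨hy1, hyz ▸ Subgroup.mem_zpowers _⟩
          · rintro ⟨hy1, hyz⟩
            have hz : Subgroup.zpowers (y : G) = Subgroup.zpowers (u : G) :=
              Subgroup.eq_of_le_of_card_ge (Subgroup.zpowers_le.2 hyz) (by
                rw [Nat.card_zpowers, Nat.card_zpowers, huo]
                have h1 : orderOf (y : G) ∣ 5 := by
                  have h0 := Subgroup.orderOf_dvd_natCard _ hyz
                  rwa [Nat.card_zpowers, huo] at h0
                rcases (Nat.dvd_prime (by norm_num : Nat.Prime 5)).1 h1 with e | e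
                · exact absurd (Subtype.ext (orderOf_eq_one_iff.1 e)) hy1
                · exact e.ge)
            exact ⟨⟨⟨hy1, trivial⟩, (fix_zpowers_eq N hz).trans hu1.2⟩, hz⟩
        rw [Finset.ext hfib, Finset.card_erase_of_mem (by simp)]
        have hc5 : (Finset.univ.filter fun y : (P : Subgroup G) => (y : G) ∈ Subgroup.zpowers (u : G)).card = 5 := by
          rw [← Fintype.card_subtype, ← Nat.card_eq_fintype_card]
          refine (?_ : _ = Nat.card (Subgroup.zpowers (u : G))).trans ((Nat.card_zpowers _).trans huo)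
          exact Nat.card_congr
            { toFun := fun y => ⟨y.1.1, y.2⟩
              invFun := fun y => ⟨⟨y.1, (Subgroup.zpowers_le.2 u.2) y.2⟩, y.2⟩
              left_inv := fun _ => rfl
              right_inv := fun _ => rfl }
        rw [hc5]
    have h12 : 12 ∣ ∑ u ∈ Finset.univ.erase (1 : (P : Subgroup G)), fix N (u : G) := by
      rw [← Finset.sum_fiberwise_of_maps_to (t := (Finset.univ.erase (1 : (P : Subgroup G))).image
        (fun u : (P : Subgroup G) => fix N (u : G))) (fun u hu => Finset.mem_image_of_mem _ hu)]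
      refine Finset.dvd_sum fun w _ => ?_
      rw [Finset.sum_congr rfl (g := fun _ => w) (fun u hu => (Finset.mem_filter.1 hu).2),
        Finset.sum_const, smul_eq_mul]
      exact dvd_mul_of_dvd_left (key w) w
    -- at most eight orbits
    have hr8 : r ≤ 8 := by
      letI := Fintype.ofFinite (MulAction.orbitRel.Quotient (P : Subgroup G) (G ⧸ N))
      have hsize : ∀ o : MulAction.orbitRel.Quotient (P : Subgroup G) (G ⧸ N), o.out ≠ ((1 : G) : G ⧸ N) →
          5 ≤ Nat.card (MulAction.orbit (P : Subgroup G) o.out) := by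
        intro o ho
        have hst : (MulAction.stabilizer (P : Subgroup G) o.out).index =
            Nat.card (MulAction.orbit (P : Subgroup G) o.out) := by
          rw [MulAction.index_stabilizer]
          rfl
        obtain ⟨i, hi⟩ := P.isPGroup'.index (MulAction.stabilizer (P : Subgroup G) o.out)
        rw [← hst, hi]
        rcases i with _ | i
        · exfalso
          refine ho (honly _ fun w hw => ?_)
          have := Subgroup.index_eq_one.1 (hi.trans (pow_zero 5))
          exact (this.ge (Subgroup.mem_top (⟨w, hw⟩ : (P : Subgroup G))) : _)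
        · calc 5 = 5 ^ 1 := (pow_one 5).symm
            _ ≤ 5 ^ (i + 1) := Nat.pow_le_pow_right (by norm_num) (by omega)
      have hsum : ∑ o : MulAction.orbitRel.Quotient (P : Subgroup G) (G ⧸ N),
          Nat.card (MulAction.orbit (P : Subgroup G) o.out) = 36 := by
        rw [← hNi, Subgroup.index, Nat.card_congr (MulAction.selfEquivSigmaOrbits (P : Subgroup G) (G ⧸ N)),
          Nat.card_sigma]
      set o₁ : MulAction.orbitRel.Quotient (P : Subgroup G) (G ⧸ N) := Quotient.mk'' ((1 : G) : G ⧸ N) with ho₁
      rw [← Finset.add_sum_erase _ _ (Finset.mem_univ o₁)] at hsum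
      have hge : (Finset.univ.erase o₁).card * 5 ≤
          ∑ o ∈ Finset.univ.erase o₁, Nat.card (MulAction.orbit (P : Subgroup G) o.out) := by
        rw [← smul_eq_mul, ← Finset.sum_const]
        refine Finset.sum_le_sum fun o ho => hsize o fun e => Finset.ne_of_mem_erase ho ?_
        rw [ho₁, ← e]
        exact (Quotient.out_eq' o).symm
      rw [Finset.card_erase_of_mem (Finset.mem_univ _), Finset.card_univ, ← Nat.card_eq_fintype_card,
        ← hr] at hge
      haveI : Nonempty (MulAction.orbit (P : Subgroup G) o₁.out) := ⟨⟨_, MulAction.mem_orbit_self _⟩⟩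
      have h1 : 0 < Nat.card (MulAction.orbit (P : Subgroup G) o₁.out) := Nat.card_pos
      omega
    obtain ⟨t, ht⟩ := h12
    rw [ht] at hb
    norm_num at hb
    omega

end Cfsg.Agent.Ord6232
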