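import Mathlib.Data.List.Basic

/-! Witnesses for the orders from 3641 to 6232. -/

set_option autoImplicit false

namespace Cfsg.Agent.Ord6232

/-- Witnesses for orders from 3641. -/
def cert0 : List (ℕ × ℕ × ℕ × ℕ × ℕ) :=
  [(2, 11, 1, 331, 1),
    (3, 607, 0, 0, 0),
    (2, 3643, 1, 3643, 0),
    (2, 2, 2, 911, 1),
    (2, 3, 6, 5, 1),
    (2, 2, 1, 1823, 1),
    (2, 7, 1, 521, 1),
    (3, 19, 0, 0, 0),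
    (2, 41, 1, 89, 1),
    (3, 73, 0, 0, 0),
    (2, 3, 1, 1217, 1),
    (3, 83, 0, 0, 0),
    (2, 13, 1, 281, 1),
    (3, 29, 0, 0, 0),
    (3, 43, 0, 0, 0),
    (2, 2, 3, 457, 1),
    (3, 53, 0, 0, 0),
    (3, 59, 0, 0, 0),
    (2, 3659, 1, 3659, 0),
    (3, 61, 0, 0, 0),
    (2, 7, 1, 523, 1),
    (2, 2, 1, 1831, 1),
    (3, 37, 0, 0, 0),
    (2, 2, 4, 229, 1),
    (2, 5, 1, 733, 1),
    (3, 47, 0, 0, 0),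
    (2, 19, 1, 193, 1),
    (3, 131, 0, 0, 0),
    (2, 3, 1, 1223, 1),
    (3, 367, 0, 0, 0),
    (2, 3671, 1, 3671, 0),
    (3, 17, 0, 0, 0),
    (2, 3673, 1, 3673, 0),
    (3, 167, 0, 0, 0),
    (0, 3, 1, 0, 0),
    (2, 2, 2, 919, 1),
    (2, 3677, 1, 3677, 0),
    (3, 613, 0, 0, 0),
    (2, 13, 1, 283, 1),
    (3, 23, 0, 0, 0),
    (2, 3, 2, 409, 1),
    (3, 263, 0, 0, 0),
    (2, 29, 1, 127, 1),
    (3, 307, 0, 0, 0),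
    (3, 67, 0, 0, 0),
    (3, 97, 0, 0, 0),
    (2, 3, 1, 1229, 1),
    (2, 2, 3, 461, 1),
    (3, 31, 0, 0, 0),
    (3, 41, 0, 0, 0),
    (2, 3691, 1, 3691, 0),
    (3, 71, 0, 0, 0),
    (2, 3, 1, 1231, 1),
    (2, 2, 1, 1847, 1),
    (2, 5, 1, 739, 1),
    (9, 0, 0, 0, 0),
    (2, 3697, 1, 3697, 0),
    (2, 2, 1, 43, 2),
    (2, 3, 3, 137, 1),
    (3, 37, 0, 0, 0),
    (2, 3701, 1, 3701, 0),
    (3, 617, 0, 0, 0),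
    (2, 7, 1, 23, 2),
    (2, 2, 3, 463, 1),
    (3, 19, 0, 0, 0),
    (3, 109, 0, 0, 0),
    (2, 11, 1, 337, 1),
    (3, 103, 0, 0, 0),
    (2, 3709, 1, 3709, 0),
    (3, 53, 0, 0, 0),
    (2, 3, 1, 1237, 1),
    (2, 2, 7, 29, 1),
    (2, 47, 1, 79, 1),
    (3, 619, 0, 0, 0),
    (2, 5, 1, 743, 1),
    (2, 2, 2, 929, 1),
    (3, 59, 0, 0, 0),
    (0, 13, 2, 0, 0),
    (2, 3719, 1, 3719, 0),
    (3, 31, 0, 0, 0),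
    (2, 61, 2, 61, 0),
    (2, 2, 1, 1861, 1),
    (3, 73, 0, 0, 0),
    (3, 19, 0, 0, 0),
    (2, 5, 2, 149, 1),
    (3, 23, 0, 0, 0),
    (2, 3727, 1, 3727, 0),
    (2, 2, 4, 233, 1),
    (3, 113, 0, 0, 0),
    (3, 373, 0, 0, 0),
    (3, 41, 0, 0, 0),
    (3, 311, 0, 0, 0),
    (2, 3733, 1, 3733, 0),
    (2, 2, 1, 1867, 1),
    (3, 83, 0, 0, 0),
    (2, 2, 3, 467, 1),
    (2, 37, 1, 101, 1),
    (3, 89, 0, 0, 0),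
    (2, 3739, 1, 3739, 0),
    (3, 17, 0, 0, 0)]

/-- Witnesses for orders from 3741. -/
def cert1 : List (ℕ × ℕ × ℕ × ℕ × ℕ) :=
  [(3, 43, 0, 0, 0),
    (2, 2, 1, 1871, 1),
    (2, 19, 1, 197, 1),
    (9, 0, 0, 0, 0),
    (3, 107, 0, 0, 0),
    (2, 2, 1, 1873, 1),
    (2, 3, 1, 1249, 1),
    (2, 2, 2, 937, 1),
    (2, 23, 1, 163, 1),
    (0, 5, 4, 0, 0),
    (2, 11, 2, 31, 1),
    (3, 67, 0, 0, 0),
    (2, 3, 3, 139, 1),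
    (2, 2, 1, 1877, 1),
    (2, 5, 1, 751, 1),
    (3, 313, 0, 0, 0),
    (2, 13, 1, 17, 2),
    (2, 2, 1, 1879, 1),
    (3, 179, 0, 0, 0),
    (3, 47, 0, 0, 0),
    (2, 3761, 1, 3761, 0),
    (3, 19, 0, 0, 0),
    (2, 53, 1, 71, 1),
    (2, 2, 2, 941, 1),
    (3, 251, 0, 0, 0),
    (3, 269, 0, 0, 0),
    (2, 3767, 1, 3767, 0),
    (3, 157, 0, 0, 0),
    (2, 3769, 1, 3769, 0),
    (3, 29, 0, 0, 0),
    (2, 3, 2, 419, 1),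
    (3, 41, 0, 0, 0),
    (2, 7, 3, 11, 1),
    (3, 37, 0, 0, 0),
    (2, 5, 2, 151, 1),
    (2, 2, 6, 59, 1),
    (2, 3, 1, 1259, 1),
    (2, 2, 1, 1889, 1),
    (2, 3779, 1, 3779, 0),
    (9, 0, 0, 0, 0),
    (2, 19, 1, 199, 1),
    (3, 61, 0, 0, 0),
    (3, 97, 0, 0, 0),
    (3, 43, 0, 0, 0),
    (2, 5, 1, 757, 1),
    (3, 631, 0, 0, 0),
    (2, 7, 1, 541, 1),
    (2, 2, 2, 947, 1),
    (2, 3, 2, 421, 1),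
    (3, 379, 0, 0, 0),
    (2, 17, 1, 223, 1),
    (3, 79, 0, 0, 0),
    (2, 3793, 1, 3793, 0),
    (3, 271, 0, 0, 0),
    (3, 23, 0, 0, 0),
    (3, 73, 0, 0, 0),
    (2, 3797, 1, 3797, 0),
    (3, 211, 0, 0, 0),
    (2, 29, 1, 131, 1),
    (3, 19, 0, 0, 0),
    (3, 181, 0, 0, 0),
    (2, 2, 1, 1901, 1),
    (2, 3803, 1, 3803, 0),
    (3, 317, 0, 0, 0),
    (2, 5, 1, 761, 1),
    (3, 173, 0, 0, 0),
    (2, 3, 4, 47, 1),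
    (3, 17, 0, 0, 0),
    (2, 13, 1, 293, 1),
    (3, 127, 0, 0, 0),
    (2, 37, 1, 103, 1),
    (2, 2, 2, 953, 1),
    (3, 41, 0, 0, 0),
    (2, 2, 1, 1907, 1),
    (3, 109, 0, 0, 0),
    (3, 53, 0, 0, 0),
    (2, 11, 1, 347, 1),
    (3, 83, 0, 0, 0),
    (3, 67, 0, 0, 0),
    (3, 191, 0, 0, 0),
    (2, 3821, 1, 3821, 0),
    (1, 13, 0, 0, 0),
    (2, 3823, 1, 3823, 0),
    (2, 2, 4, 239, 1),
    (3, 17, 0, 0, 0),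
    (2, 2, 1, 1913, 1),
    (2, 43, 1, 89, 1),
    (3, 29, 0, 0, 0),
    (2, 7, 1, 547, 1),
    (3, 383, 0, 0, 0),
    (2, 3, 1, 1277, 1),
    (2, 2, 3, 479, 1),
    (2, 3833, 1, 3833, 0),
    (3, 71, 0, 0, 0),
    (3, 59, 0, 0, 0),
    (3, 137, 0, 0, 0),
    (2, 3, 1, 1279, 1),
    (3, 101, 0, 0, 0),
    (2, 11, 1, 349, 1),
    (9, 0, 0, 0, 0)]

/-- Witnesses for orders from 3841. -/
def cert2 : List (ℕ × ℕ × ℕ × ℕ × ℕ) :=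
  [(2, 23, 1, 167, 1),
    (3, 113, 0, 0, 0),
    (3, 61, 0, 0, 0),
    (2, 2, 2, 31, 2),
    (2, 5, 1, 769, 1),
    (3, 641, 0, 0, 0),
    (2, 3847, 1, 3847, 0),
    (3, 37, 0, 0, 0),
    (2, 3, 1, 1283, 1),
    (0, 11, 1, 0, 0),
    (2, 3851, 1, 3851, 0),
    (3, 107, 0, 0, 0),
    (2, 3853, 1, 3853, 0),
    (3, 47, 0, 0, 0),
    (3, 257, 0, 0, 0),
    (2, 2, 4, 241, 1),
    (3, 29, 0, 0, 0),
    (3, 643, 0, 0, 0),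
    (2, 17, 1, 227, 1),
    (3, 193, 0, 0, 0),
    (0, 13, 1, 0, 0),
    (2, 2, 1, 1931, 1),
    (2, 3863, 1, 3863, 0),
    (3, 23, 0, 0, 0),
    (2, 5, 1, 773, 1),
    (2, 2, 1, 1933, 1),
    (2, 3, 1, 1289, 1),
    (2, 2, 2, 967, 1),
    (2, 53, 1, 73, 1),
    (3, 43, 0, 0, 0),
    (2, 7, 2, 79, 1),
    (2, 2, 5, 11, 2),
    (2, 3, 1, 1291, 1),
    (3, 149, 0, 0, 0),
    (2, 5, 3, 31, 1),
    (3, 19, 0, 0, 0),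
    (2, 3877, 1, 3877, 0),
    (3, 277, 0, 0, 0),
    (2, 3, 2, 431, 1),
    (3, 97, 0, 0, 0),
    (2, 3881, 1, 3881, 0),
    (3, 647, 0, 0, 0),
    (2, 11, 1, 353, 1),
    (2, 2, 2, 971, 1),
    (3, 37, 0, 0, 0),
    (3, 67, 0, 0, 0),
    (2, 13, 2, 23, 1),
    (2, 2, 4, 3, 5),
    (2, 3889, 1, 3889, 0),
    (3, 389, 0, 0, 0),
    (2, 3, 1, 1297, 1),
    (3, 139, 0, 0, 0),
    (2, 17, 1, 229, 1),
    (3, 59, 0, 0, 0),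
    (3, 41, 0, 0, 0),
    (2, 2, 3, 487, 1),
    (2, 3, 2, 433, 1),
    (2, 2, 1, 1949, 1),
    (2, 7, 1, 557, 1),
    (0, 13, 1, 0, 0),
    (2, 47, 1, 83, 1),
    (2, 2, 1, 1951, 1),
    (2, 3, 1, 1301, 1),
    (2, 2, 6, 61, 1),
    (3, 71, 0, 0, 0),
    (3, 31, 0, 0, 0),
    (2, 3907, 1, 3907, 0),
    (2, 2, 2, 977, 1),
    (2, 3, 1, 1303, 1),
    (3, 23, 0, 0, 0),
    (2, 3911, 1, 3911, 0),
    (3, 163, 0, 0, 0),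
    (3, 43, 0, 0, 0),
    (3, 103, 0, 0, 0),
    (3, 29, 0, 0, 0),
    (3, 89, 0, 0, 0),
    (2, 3917, 1, 3917, 0),
    (3, 653, 0, 0, 0),
    (2, 3919, 1, 3919, 0),
    (0, 7, 2, 0, 0),
    (2, 3, 1, 1307, 1),
    (3, 53, 0, 0, 0),
    (2, 3923, 1, 3923, 0),
    (3, 109, 0, 0, 0),
    (2, 5, 2, 157, 1),
    (3, 151, 0, 0, 0),
    (3, 17, 0, 0, 0),
    (2, 2, 3, 491, 1),
    (2, 3929, 1, 3929, 0),
    (3, 131, 0, 0, 0),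
    (2, 3931, 1, 3931, 0),
    (2, 2, 2, 983, 1),
    (3, 23, 0, 0, 0),
    (3, 281, 0, 0, 0),
    (2, 5, 1, 787, 1),
    (3, 41, 0, 0, 0),
    (2, 31, 1, 127, 1),
    (3, 179, 0, 0, 0),
    (3, 101, 0, 0, 0),
    (3, 197, 0, 0, 0)]

/-- Witnesses for orders from 3941. -/
def cert3 : List (ℕ × ℕ × ℕ × ℕ × ℕ) :=
  [(2, 7, 1, 563, 1),
    (3, 73, 0, 0, 0),
    (2, 3943, 1, 3943, 0),
    (3, 29, 0, 0, 0),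
    (3, 263, 0, 0, 0),
    (2, 2, 1, 1973, 1),
    (2, 3947, 1, 3947, 0),
    (3, 47, 0, 0, 0),
    (2, 11, 1, 359, 1),
    (3, 79, 0, 0, 0),
    (2, 3, 2, 439, 1),
    (3, 19, 0, 0, 0),
    (2, 59, 1, 67, 1),
    (3, 659, 0, 0, 0),
    (3, 113, 0, 0, 0),
    (3, 43, 0, 0, 0),
    (2, 3, 1, 1319, 1),
    (2, 2, 1, 1979, 1),
    (2, 37, 1, 107, 1),
    (9, 0, 0, 0, 0),
    (2, 17, 1, 233, 1),
    (3, 283, 0, 0, 0),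
    (2, 3, 1, 1321, 1),
    (2, 2, 2, 991, 1),
    (3, 61, 0, 0, 0),
    (3, 661, 0, 0, 0),
    (2, 3967, 1, 3967, 0),
    (2, 2, 7, 31, 1),
    (2, 3, 4, 7, 2),
    (3, 397, 0, 0, 0),
    (2, 11, 1, 19, 2),
    (3, 331, 0, 0, 0),
    (2, 29, 1, 137, 1),
    (2, 2, 1, 1987, 1),
    (3, 53, 0, 0, 0),
    (3, 71, 0, 0, 0),
    (2, 41, 1, 97, 1),
    (3, 17, 0, 0, 0),
    (2, 23, 1, 173, 1),
    (3, 199, 0, 0, 0),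
    (2, 3, 1, 1327, 1),
    (3, 181, 0, 0, 0),
    (2, 7, 1, 569, 1),
    (3, 83, 0, 0, 0),
    (2, 5, 1, 797, 1),
    (2, 2, 1, 1993, 1),
    (2, 3, 2, 443, 1),
    (2, 2, 2, 997, 1),
    (2, 3989, 1, 3989, 0),
    (3, 19, 0, 0, 0),
    (2, 13, 1, 307, 1),
    (2, 2, 3, 499, 1),
    (2, 3, 1, 11, 3),
    (2, 2, 1, 1997, 1),
    (3, 47, 0, 0, 0),
    (3, 37, 0, 0, 0),
    (2, 7, 1, 571, 1),
    (2, 2, 1, 1999, 1),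
    (3, 43, 0, 0, 0),
    (2, 2, 5, 5, 3),
    (2, 4001, 1, 4001, 0),
    (3, 29, 0, 0, 0),
    (2, 4003, 1, 4003, 0),
    (1, 13, 0, 0, 0),
    (3, 89, 0, 0, 0),
    (2, 2, 1, 2003, 1),
    (2, 4007, 1, 4007, 0),
    (3, 167, 0, 0, 0),
    (2, 19, 1, 211, 1),
    (3, 401, 0, 0, 0),
    (3, 191, 0, 0, 0),
    (3, 59, 0, 0, 0),
    (2, 4013, 1, 4013, 0),
    (3, 223, 0, 0, 0),
    (3, 73, 0, 0, 0),
    (2, 2, 4, 251, 1),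
    (3, 103, 0, 0, 0),
    (3, 41, 0, 0, 0),
    (2, 4019, 1, 4019, 0),
    (3, 67, 0, 0, 0),
    (2, 4021, 1, 4021, 0),
    (2, 2, 1, 2011, 1),
    (2, 3, 3, 149, 1),
    (2, 2, 3, 503, 1),
    (3, 23, 0, 0, 0),
    (3, 61, 0, 0, 0),
    (2, 4027, 1, 4027, 0),
    (3, 53, 0, 0, 0),
    (3, 79, 0, 0, 0),
    (3, 31, 0, 0, 0),
    (2, 29, 1, 139, 1),
    (9, 0, 0, 0, 0),
    (2, 37, 1, 109, 1),
    (2, 2, 1, 2017, 1),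
    (3, 269, 0, 0, 0),
    (2, 2, 2, 1009, 1),
    (2, 11, 1, 367, 1),
    (3, 673, 0, 0, 0),
    (2, 7, 1, 577, 1),
    (3, 101, 0, 0, 0)]

/-- Witnesses for orders from 4041. -/
def cert4 : List (ℕ × ℕ × ℕ × ℕ × ℕ) :=
  [(2, 3, 2, 449, 1),
    (3, 47, 0, 0, 0),
    (2, 13, 1, 311, 1),
    (3, 337, 0, 0, 0),
    (2, 5, 1, 809, 1),
    (3, 17, 0, 0, 0),
    (3, 71, 0, 0, 0),
    (3, 23, 0, 0, 0),
    (2, 4049, 1, 4049, 0),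
    (0, 2, 1, 0, 0),
    (2, 4051, 1, 4051, 0),
    (2, 2, 2, 1013, 1),
    (3, 193, 0, 0, 0),
    (2, 2, 1, 2027, 1),
    (2, 5, 1, 811, 1),
    (0, 13, 2, 0, 0),
    (2, 4057, 1, 4057, 0),
    (2, 2, 1, 2029, 1),
    (3, 41, 0, 0, 0),
    (3, 29, 0, 0, 0),
    (2, 31, 1, 131, 1),
    (3, 677, 0, 0, 0),
    (2, 17, 1, 239, 1),
    (2, 2, 5, 127, 1),
    (3, 271, 0, 0, 0),
    (3, 107, 0, 0, 0),
    (2, 7, 2, 83, 1),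
    (3, 113, 0, 0, 0),
    (2, 13, 1, 313, 1),
    (3, 37, 0, 0, 0),
    (3, 59, 0, 0, 0),
    (2, 2, 3, 509, 1),
    (2, 4073, 1, 4073, 0),
    (3, 97, 0, 0, 0),
    (2, 5, 2, 163, 1),
    (2, 2, 2, 1019, 1),
    (2, 3, 3, 151, 1),
    (2, 2, 1, 2039, 1),
    (2, 4079, 1, 4079, 0),
    (3, 17, 0, 0, 0),
    (3, 53, 0, 0, 0),
    (3, 157, 0, 0, 0),
    (2, 3, 1, 1361, 1),
    (2, 2, 2, 1021, 1),
    (3, 43, 0, 0, 0),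
    (3, 227, 0, 0, 0),
    (2, 61, 1, 67, 1),
    (3, 73, 0, 0, 0),
    (3, 47, 0, 0, 0),
    (3, 409, 0, 0, 0),
    (2, 4091, 1, 4091, 0),
    (3, 31, 0, 0, 0),
    (2, 4093, 1, 4093, 0),
    (3, 89, 0, 0, 0),
    (0, 5, 1, 0, 0),
    (2, 2, 12, 2, 0),
    (2, 17, 1, 241, 1),
    (3, 683, 0, 0, 0),
    (2, 4099, 1, 4099, 0),
    (3, 41, 0, 0, 0),
    (2, 3, 1, 1367, 1),
    (3, 293, 0, 0, 0),
    (2, 11, 1, 373, 1),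
    (3, 19, 0, 0, 0),
    (2, 5, 1, 821, 1),
    (2, 2, 1, 2053, 1),
    (2, 3, 1, 37, 2),
    (3, 79, 0, 0, 0),
    (2, 7, 1, 587, 1),
    (3, 137, 0, 0, 0),
    (2, 4111, 1, 4111, 0),
    (2, 2, 4, 257, 1),
    (2, 3, 2, 457, 1),
    (3, 17, 0, 0, 0),
    (2, 5, 1, 823, 1),
    (0, 7, 3, 0, 0),
    (2, 23, 1, 179, 1),
    (3, 71, 0, 0, 0),
    (2, 3, 1, 1373, 1),
    (3, 103, 0, 0, 0),
    (2, 13, 1, 317, 1),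
    (3, 229, 0, 0, 0),
    (3, 31, 0, 0, 0),
    (2, 2, 2, 1031, 1),
    (0, 11, 1, 0, 0),
    (2, 2, 1, 2063, 1),
    (2, 4127, 1, 4127, 0),
    (3, 43, 0, 0, 0),
    (2, 4129, 1, 4129, 0),
    (3, 59, 0, 0, 0),
    (2, 3, 5, 17, 1),
    (2, 2, 2, 1033, 1),
    (2, 4133, 1, 4133, 0),
    (3, 53, 0, 0, 0),
    (2, 5, 1, 827, 1),
    (3, 47, 0, 0, 0),
    (3, 197, 0, 0, 0),
    (2, 2, 1, 2069, 1),
    (2, 4139, 1, 4139, 0),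
    (3, 23, 0, 0, 0)]

/-- Witnesses for orders from 4141. -/
def cert5 : List (ℕ × ℕ × ℕ × ℕ × ℕ) :=
  [(2, 41, 1, 101, 1),
    (3, 109, 0, 0, 0),
    (2, 3, 1, 1381, 1),
    (3, 37, 0, 0, 0),
    (2, 5, 1, 829, 1),
    (3, 691, 0, 0, 0),
    (3, 29, 0, 0, 0),
    (3, 61, 0, 0, 0),
    (2, 3, 2, 461, 1),
    (3, 83, 0, 0, 0),
    (2, 7, 1, 593, 1),
    (3, 173, 0, 0, 0),
    (2, 4153, 1, 4153, 0),
    (3, 67, 0, 0, 0),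
    (3, 277, 0, 0, 0),
    (2, 2, 2, 1039, 1),
    (2, 4157, 1, 4157, 0),
    (0, 11, 1, 0, 0),
    (2, 4159, 1, 4159, 0),
    (9, 0, 0, 0, 0),
    (3, 73, 0, 0, 0),
    (2, 2, 1, 2081, 1),
    (2, 23, 1, 181, 1),
    (3, 347, 0, 0, 0),
    (3, 17, 0, 0, 0),
    (2, 2, 1, 2083, 1),
    (2, 3, 2, 463, 1),
    (2, 2, 3, 521, 1),
    (2, 11, 1, 379, 1),
    (3, 139, 0, 0, 0),
    (2, 43, 1, 97, 1),
    (3, 149, 0, 0, 0),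
    (3, 107, 0, 0, 0),
    (2, 2, 1, 2087, 1),
    (2, 5, 2, 167, 1),
    (3, 29, 0, 0, 0),
    (2, 4177, 1, 4177, 0),
    (2, 2, 1, 2089, 1),
    (3, 199, 0, 0, 0),
    (3, 19, 0, 0, 0),
    (2, 37, 1, 113, 1),
    (3, 41, 0, 0, 0),
    (2, 47, 1, 89, 1),
    (2, 2, 3, 523, 1),
    (3, 31, 0, 0, 0),
    (3, 23, 0, 0, 0),
    (2, 53, 1, 79, 1),
    (3, 349, 0, 0, 0),
    (2, 59, 1, 71, 1),
    (3, 419, 0, 0, 0),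
    (3, 127, 0, 0, 0),
    (2, 2, 5, 131, 1),
    (2, 7, 1, 599, 1),
    (3, 233, 0, 0, 0),
    (2, 5, 1, 839, 1),
    (2, 2, 2, 1049, 1),
    (2, 3, 1, 1399, 1),
    (2, 2, 1, 2099, 1),
    (3, 19, 0, 0, 0),
    (9, 0, 0, 0, 0),
    (2, 4201, 1, 4201, 0),
    (3, 191, 0, 0, 0),
    (2, 3, 2, 467, 1),
    (2, 2, 2, 1051, 1),
    (2, 5, 1, 29, 2),
    (3, 701, 0, 0, 0),
    (2, 7, 1, 601, 1),
    (2, 2, 4, 263, 1),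
    (3, 61, 0, 0, 0),
    (3, 421, 0, 0, 0),
    (2, 4211, 1, 4211, 0),
    (9, 0, 0, 0, 0),
    (2, 11, 1, 383, 1),
    (3, 43, 0, 0, 0),
    (3, 281, 0, 0, 0),
    (3, 31, 0, 0, 0),
    (2, 4217, 1, 4217, 0),
    (3, 37, 0, 0, 0),
    (2, 4219, 1, 4219, 0),
    (3, 211, 0, 0, 0),
    (3, 67, 0, 0, 0),
    (2, 2, 1, 2111, 1),
    (2, 41, 1, 103, 1),
    (1, 11, 0, 0, 0),
    (2, 5, 2, 13, 2),
    (2, 2, 1, 2113, 1),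
    (2, 3, 1, 1409, 1),
    (3, 151, 0, 0, 0),
    (2, 4229, 1, 4229, 0),
    (3, 47, 0, 0, 0),
    (2, 4231, 1, 4231, 0),
    (2, 2, 3, 23, 2),
    (3, 83, 0, 0, 0),
    (3, 73, 0, 0, 0),
    (0, 11, 2, 0, 0),
    (3, 353, 0, 0, 0),
    (2, 19, 1, 223, 1),
    (3, 163, 0, 0, 0),
    (2, 3, 3, 157, 1),
    (3, 53, 0, 0, 0)]

/-- Witnesses for orders from 4241. -/
def cert6 : List (ℕ × ℕ × ℕ × ℕ × ℕ) :=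
  [(2, 4241, 1, 4241, 0),
    (3, 101, 0, 0, 0),
    (2, 4243, 1, 4243, 0),
    (2, 2, 2, 1061, 1),
    (3, 283, 0, 0, 0),
    (3, 193, 0, 0, 0),
    (2, 31, 1, 137, 1),
    (3, 59, 0, 0, 0),
    (2, 7, 1, 607, 1),
    (3, 17, 0, 0, 0),
    (3, 109, 0, 0, 0),
    (2, 2, 2, 1063, 1),
    (2, 4253, 1, 4253, 0),
    (3, 709, 0, 0, 0),
    (3, 37, 0, 0, 0),
    (3, 19, 0, 0, 0),
    (3, 43, 0, 0, 0),
    (2, 2, 1, 2129, 1),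
    (2, 4259, 1, 4259, 0),
    (3, 71, 0, 0, 0),
    (2, 4261, 1, 4261, 0),
    (2, 2, 1, 2131, 1),
    (3, 29, 0, 0, 0),
    (3, 41, 0, 0, 0),
    (2, 5, 1, 853, 1),
    (3, 79, 0, 0, 0),
    (2, 17, 1, 251, 1),
    (3, 97, 0, 0, 0),
    (2, 3, 1, 1423, 1),
    (3, 61, 0, 0, 0),
    (2, 4271, 1, 4271, 0),
    (3, 89, 0, 0, 0),
    (2, 4273, 1, 4273, 0),
    (2, 2, 1, 2137, 1),
    (3, 19, 0, 0, 0),
    (2, 2, 2, 1069, 1),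
    (3, 47, 0, 0, 0),
    (3, 31, 0, 0, 0),
    (2, 11, 1, 389, 1),
    (3, 107, 0, 0, 0),
    (2, 3, 1, 1427, 1),
    (2, 2, 1, 2141, 1),
    (2, 4283, 1, 4283, 0),
    (3, 17, 0, 0, 0),
    (2, 5, 1, 857, 1),
    (2, 2, 1, 2143, 1),
    (2, 3, 1, 1429, 1),
    (2, 2, 6, 67, 1),
    (2, 4289, 1, 4289, 0),
    (0, 13, 1, 0, 0),
    (2, 7, 1, 613, 1),
    (3, 37, 0, 0, 0),
    (2, 3, 4, 53, 1),
    (3, 113, 0, 0, 0),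
    (2, 5, 1, 859, 1),
    (3, 179, 0, 0, 0),
    (2, 4297, 1, 4297, 0),
    (3, 307, 0, 0, 0),
    (2, 3, 1, 1433, 1),
    (3, 43, 0, 0, 0),
    (3, 23, 0, 0, 0),
    (3, 239, 0, 0, 0),
    (2, 13, 1, 331, 1),
    (2, 2, 4, 269, 1),
    (3, 41, 0, 0, 0),
    (2, 2, 1, 2153, 1),
    (2, 59, 1, 73, 1),
    (3, 359, 0, 0, 0),
    (2, 31, 1, 139, 1),
    (3, 431, 0, 0, 0),
    (2, 3, 2, 479, 1),
    (0, 11, 1, 0, 0),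
    (2, 19, 1, 227, 1),
    (3, 719, 0, 0, 0),
    (2, 5, 1, 863, 1),
    (3, 83, 0, 0, 0),
    (2, 3, 1, 1439, 1),
    (3, 127, 0, 0, 0),
    (2, 7, 1, 617, 1),
    (9, 0, 0, 0, 0),
    (2, 29, 1, 149, 1),
    (2, 2, 1, 2161, 1),
    (3, 131, 0, 0, 0),
    (3, 47, 0, 0, 0),
    (2, 5, 2, 173, 1),
    (3, 103, 0, 0, 0),
    (2, 4327, 1, 4327, 0),
    (2, 2, 3, 541, 1),
    (3, 37, 0, 0, 0),
    (3, 433, 0, 0, 0),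
    (2, 61, 1, 71, 1),
    (3, 19, 0, 0, 0),
    (2, 7, 1, 619, 1),
    (3, 197, 0, 0, 0),
    (3, 17, 0, 0, 0),
    (2, 2, 4, 271, 1),
    (2, 4337, 1, 4337, 0),
    (3, 241, 0, 0, 0),
    (2, 4339, 1, 4339, 0),
    (3, 31, 0, 0, 0)]

/-- Witnesses for orders from 4341. -/
def cert7 : List (ℕ × ℕ × ℕ × ℕ × ℕ) :=
  [(2, 3, 1, 1447, 1),
    (3, 167, 0, 0, 0),
    (2, 43, 1, 101, 1),
    (3, 181, 0, 0, 0),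
    (3, 79, 0, 0, 0),
    (3, 53, 0, 0, 0),
    (3, 23, 0, 0, 0),
    (2, 2, 2, 1087, 1),
    (2, 4349, 1, 4349, 0),
    (3, 29, 0, 0, 0),
    (2, 19, 1, 229, 1),
    (2, 2, 8, 17, 1),
    (2, 3, 1, 1451, 1),
    (3, 311, 0, 0, 0),
    (3, 67, 0, 0, 0),
    (9, 0, 0, 0, 0),
    (2, 4357, 1, 4357, 0),
    (2, 2, 1, 2179, 1),
    (2, 3, 1, 1453, 1),
    (3, 109, 0, 0, 0),
    (2, 7, 2, 89, 1),
    (3, 727, 0, 0, 0),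
    (2, 4363, 1, 4363, 0),
    (2, 2, 2, 1091, 1),
    (3, 97, 0, 0, 0),
    (3, 59, 0, 0, 0),
    (2, 11, 1, 397, 1),
    (1, 13, 0, 0, 0),
    (2, 17, 1, 257, 1),
    (3, 23, 0, 0, 0),
    (3, 47, 0, 0, 0),
    (2, 2, 2, 1093, 1),
    (2, 4373, 1, 4373, 0),
    (2, 2, 1, 3, 7),
    (2, 5, 4, 7, 1),
    (2, 2, 3, 547, 1),
    (2, 3, 1, 1459, 1),
    (3, 199, 0, 0, 0),
    (2, 29, 1, 151, 1),
    (3, 73, 0, 0, 0),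
    (2, 13, 1, 337, 1),
    (3, 313, 0, 0, 0),
    (2, 3, 2, 487, 1),
    (2, 2, 5, 137, 1),
    (2, 5, 1, 877, 1),
    (3, 43, 0, 0, 0),
    (2, 41, 1, 107, 1),
    (2, 2, 2, 1097, 1),
    (3, 19, 0, 0, 0),
    (3, 439, 0, 0, 0),
    (2, 4391, 1, 4391, 0),
    (3, 61, 0, 0, 0),
    (2, 23, 1, 191, 1),
    (2, 2, 1, 13, 3),
    (3, 293, 0, 0, 0),
    (3, 157, 0, 0, 0),
    (2, 4397, 1, 4397, 0),
    (3, 733, 0, 0, 0),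
    (2, 53, 1, 83, 1),
    (9, 0, 0, 0, 0),
    (2, 3, 3, 163, 1),
    (3, 71, 0, 0, 0),
    (3, 37, 0, 0, 0),
    (3, 367, 0, 0, 0),
    (2, 5, 1, 881, 1),
    (2, 2, 1, 2203, 1),
    (3, 113, 0, 0, 0),
    (3, 29, 0, 0, 0),
    (2, 4409, 1, 4409, 0),
    (0, 2, 1, 0, 0),
    (2, 11, 1, 401, 1),
    (2, 2, 2, 1103, 1),
    (2, 3, 1, 1471, 1),
    (2, 2, 1, 2207, 1),
    (2, 5, 1, 883, 1),
    (3, 23, 0, 0, 0),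
    (2, 7, 1, 631, 1),
    (2, 2, 1, 47, 2),
    (2, 3, 2, 491, 1),
    (3, 17, 0, 0, 0),
    (2, 4421, 1, 4421, 0),
    (3, 67, 0, 0, 0),
    (2, 4423, 1, 4423, 0),
    (3, 79, 0, 0, 0),
    (3, 59, 0, 0, 0),
    (2, 2, 1, 2213, 1),
    (2, 19, 1, 233, 1),
    (3, 41, 0, 0, 0),
    (2, 43, 1, 103, 1),
    (3, 443, 0, 0, 0),
    (3, 211, 0, 0, 0),
    (2, 2, 4, 277, 1),
    (3, 31, 0, 0, 0),
    (3, 739, 0, 0, 0),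
    (2, 5, 1, 887, 1),
    (2, 2, 2, 1109, 1),
    (3, 29, 0, 0, 0),
    (3, 317, 0, 0, 0),
    (2, 23, 1, 193, 1),
    (3, 37, 0, 0, 0)]

/-- Witnesses for orders from 4441. -/
def cert8 : List (ℕ × ℕ × ℕ × ℕ × ℕ) :=
  [(2, 4441, 1, 4441, 0),
    (2, 2, 1, 2221, 1),
    (2, 3, 1, 1481, 1),
    (3, 101, 0, 0, 0),
    (3, 127, 0, 0, 0),
    (3, 19, 0, 0, 0),
    (2, 4447, 1, 4447, 0),
    (2, 2, 5, 139, 1),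
    (2, 3, 1, 1483, 1),
    (3, 89, 0, 0, 0),
    (2, 4451, 1, 4451, 0),
    (3, 53, 0, 0, 0),
    (2, 61, 1, 73, 1),
    (3, 131, 0, 0, 0),
    (0, 11, 1, 0, 0),
    (2, 2, 3, 557, 1),
    (2, 4457, 1, 4457, 0),
    (3, 743, 0, 0, 0),
    (2, 7, 3, 13, 1),
    (3, 223, 0, 0, 0),
    (2, 3, 1, 1487, 1),
    (3, 97, 0, 0, 0),
    (2, 4463, 1, 4463, 0),
    (3, 31, 0, 0, 0),
    (3, 47, 0, 0, 0),
    (3, 29, 0, 0, 0),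
    (2, 3, 1, 1489, 1),
    (2, 2, 2, 1117, 1),
    (2, 41, 1, 109, 1),
    (3, 149, 0, 0, 0),
    (2, 17, 1, 263, 1),
    (3, 43, 0, 0, 0),
    (3, 71, 0, 0, 0),
    (2, 2, 1, 2237, 1),
    (2, 5, 2, 179, 1),
    (3, 373, 0, 0, 0),
    (2, 11, 2, 37, 1),
    (2, 2, 1, 2239, 1),
    (2, 3, 1, 1493, 1),
    (9, 0, 0, 0, 0),
    (2, 4481, 1, 4481, 0),
    (3, 83, 0, 0, 0),
    (2, 4483, 1, 4483, 0),
    (3, 59, 0, 0, 0),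
    (3, 23, 0, 0, 0),
    (2, 2, 1, 2243, 1),
    (2, 7, 1, 641, 1),
    (3, 17, 0, 0, 0),
    (2, 67, 2, 67, 0),
    (3, 449, 0, 0, 0),
    (2, 3, 2, 499, 1),
    (2, 2, 2, 1123, 1),
    (2, 4493, 1, 4493, 0),
    (3, 107, 0, 0, 0),
    (3, 31, 0, 0, 0),
    (2, 2, 4, 281, 1),
    (2, 3, 1, 1499, 1),
    (3, 173, 0, 0, 0),
    (2, 11, 1, 409, 1),
    (9, 0, 0, 0, 0),
    (2, 7, 1, 643, 1),
    (2, 2, 1, 2251, 1),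
    (3, 79, 0, 0, 0),
    (2, 2, 3, 563, 1),
    (3, 53, 0, 0, 0),
    (3, 751, 0, 0, 0),
    (2, 4507, 1, 4507, 0),
    (3, 23, 0, 0, 0),
    (2, 3, 3, 167, 1),
    (3, 41, 0, 0, 0),
    (2, 13, 1, 347, 1),
    (3, 47, 0, 0, 0),
    (2, 4513, 1, 4513, 0),
    (3, 61, 0, 0, 0),
    (3, 43, 0, 0, 0),
    (2, 2, 2, 1129, 1),
    (2, 4517, 1, 4517, 0),
    (3, 251, 0, 0, 0),
    (2, 4519, 1, 4519, 0),
    (3, 113, 0, 0, 0),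
    (3, 137, 0, 0, 0),
    (3, 19, 0, 0, 0),
    (2, 4523, 1, 4523, 0),
    (3, 29, 0, 0, 0),
    (2, 5, 2, 181, 1),
    (3, 73, 0, 0, 0),
    (2, 3, 2, 503, 1),
    (2, 2, 4, 283, 1),
    (2, 7, 1, 647, 1),
    (3, 151, 0, 0, 0),
    (2, 23, 1, 197, 1),
    (3, 103, 0, 0, 0),
    (2, 3, 1, 1511, 1),
    (2, 2, 1, 2267, 1),
    (2, 5, 1, 907, 1),
    (9, 0, 0, 0, 0),
    (2, 13, 1, 349, 1),
    (2, 2, 1, 2269, 1),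
    (3, 89, 0, 0, 0),
    (3, 227, 0, 0, 0)]

/-- Witnesses for orders from 4541. -/
def cert9 : List (ℕ × ℕ × ℕ × ℕ × ℕ) :=
  [(2, 19, 1, 239, 1),
    (3, 757, 0, 0, 0),
    (3, 59, 0, 0, 0),
    (2, 2, 6, 71, 1),
    (3, 101, 0, 0, 0),
    (2, 2, 1, 2273, 1),
    (2, 4547, 1, 4547, 0),
    (3, 379, 0, 0, 0),
    (2, 4549, 1, 4549, 0),
    (0, 13, 1, 0, 0),
    (3, 41, 0, 0, 0),
    (2, 2, 3, 569, 1),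
    (2, 29, 1, 157, 1),
    (3, 23, 0, 0, 0),
    (2, 5, 1, 911, 1),
    (3, 67, 0, 0, 0),
    (3, 31, 0, 0, 0),
    (3, 53, 0, 0, 0),
    (2, 47, 1, 97, 1),
    (3, 19, 0, 0, 0),
    (2, 4561, 1, 4561, 0),
    (2, 2, 1, 2281, 1),
    (2, 3, 3, 13, 2),
    (3, 163, 0, 0, 0),
    (3, 83, 0, 0, 0),
    (3, 761, 0, 0, 0),
    (2, 4567, 1, 4567, 0),
    (2, 2, 3, 571, 1),
    (2, 3, 1, 1523, 1),
    (3, 457, 0, 0, 0),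
    (2, 7, 1, 653, 1),
    (3, 127, 0, 0, 0),
    (2, 17, 1, 269, 1),
    (2, 2, 1, 2287, 1),
    (3, 61, 0, 0, 0),
    (0, 13, 1, 0, 0),
    (2, 23, 1, 199, 1),
    (3, 109, 0, 0, 0),
    (2, 19, 1, 241, 1),
    (3, 229, 0, 0, 0),
    (2, 3, 2, 509, 1),
    (3, 79, 0, 0, 0),
    (2, 4583, 1, 4583, 0),
    (3, 191, 0, 0, 0),
    (3, 131, 0, 0, 0),
    (2, 2, 1, 2293, 1),
    (3, 139, 0, 0, 0),
    (3, 37, 0, 0, 0),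
    (2, 13, 1, 353, 1),
    (3, 17, 0, 0, 0),
    (2, 4591, 1, 4591, 0),
    (3, 41, 0, 0, 0),
    (2, 3, 1, 1531, 1),
    (2, 2, 1, 2297, 1),
    (2, 5, 1, 919, 1),
    (3, 383, 0, 0, 0),
    (2, 4597, 1, 4597, 0),
    (3, 19, 0, 0, 0),
    (3, 73, 0, 0, 0),
    (3, 23, 0, 0, 0),
    (2, 43, 1, 107, 1),
    (3, 59, 0, 0, 0),
    (2, 4603, 1, 4603, 0),
    (2, 2, 2, 1151, 1),
    (3, 307, 0, 0, 0),
    (3, 47, 0, 0, 0),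
    (2, 17, 1, 271, 1),
    (2, 2, 9, 3, 2),
    (2, 11, 1, 419, 1),
    (3, 461, 0, 0, 0),
    (3, 53, 0, 0, 0),
    (2, 2, 2, 1153, 1),
    (2, 7, 1, 659, 1),
    (3, 769, 0, 0, 0),
    (3, 71, 0, 0, 0),
    (2, 2, 3, 577, 1),
    (2, 3, 5, 19, 1),
    (2, 2, 1, 2309, 1),
    (2, 31, 1, 149, 1),
    (9, 0, 0, 0, 0),
    (2, 4621, 1, 4621, 0),
    (2, 2, 1, 2311, 1),
    (3, 67, 0, 0, 0),
    (2, 2, 4, 17, 2),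
    (2, 5, 3, 37, 1),
    (3, 257, 0, 0, 0),
    (2, 7, 1, 661, 1),
    (3, 89, 0, 0, 0),
    (2, 3, 1, 1543, 1),
    (3, 463, 0, 0, 0),
    (2, 11, 1, 421, 1),
    (3, 193, 0, 0, 0),
    (2, 41, 1, 113, 1),
    (3, 331, 0, 0, 0),
    (3, 103, 0, 0, 0),
    (3, 61, 0, 0, 0),
    (2, 4637, 1, 4637, 0),
    (3, 773, 0, 0, 0),
    (2, 4639, 1, 4639, 0),
    (3, 29, 0, 0, 0)]

/-- Witnesses for orders from 4641. -/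
def cert10 : List (ℕ × ℕ × ℕ × ℕ × ℕ) :=
  [(3, 17, 0, 0, 0),
    (3, 211, 0, 0, 0),
    (2, 4643, 1, 4643, 0),
    (3, 43, 0, 0, 0),
    (2, 5, 1, 929, 1),
    (3, 101, 0, 0, 0),
    (2, 3, 1, 1549, 1),
    (3, 83, 0, 0, 0),
    (2, 4649, 1, 4649, 0),
    (3, 31, 0, 0, 0),
    (2, 4651, 1, 4651, 0),
    (2, 2, 2, 1163, 1),
    (3, 47, 0, 0, 0),
    (3, 179, 0, 0, 0),
    (3, 19, 0, 0, 0),
    (3, 97, 0, 0, 0),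
    (2, 4657, 1, 4657, 0),
    (3, 137, 0, 0, 0),
    (2, 3, 1, 1553, 1),
    (3, 233, 0, 0, 0),
    (2, 59, 1, 79, 1),
    (3, 37, 0, 0, 0),
    (2, 4663, 1, 4663, 0),
    (3, 53, 0, 0, 0),
    (3, 311, 0, 0, 0),
    (2, 2, 1, 2333, 1),
    (2, 13, 1, 359, 1),
    (3, 389, 0, 0, 0),
    (3, 29, 0, 0, 0),
    (3, 467, 0, 0, 0),
    (2, 3, 3, 173, 1),
    (2, 2, 6, 73, 1),
    (2, 4673, 1, 4673, 0),
    (3, 41, 0, 0, 0),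
    (3, 17, 0, 0, 0),
    (3, 167, 0, 0, 0),
    (2, 3, 1, 1559, 1),
    (2, 2, 1, 2339, 1),
    (2, 4679, 1, 4679, 0),
    (9, 0, 0, 0, 0),
    (2, 31, 1, 151, 1),
    (2, 2, 1, 2341, 1),
    (3, 223, 0, 0, 0),
    (2, 2, 2, 1171, 1),
    (2, 5, 1, 937, 1),
    (3, 71, 0, 0, 0),
    (2, 43, 1, 109, 1),
    (2, 2, 4, 293, 1),
    (2, 3, 2, 521, 1),
    (3, 67, 0, 0, 0),
    (2, 4691, 1, 4691, 0),
    (3, 23, 0, 0, 0),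
    (2, 13, 1, 19, 2),
    (2, 2, 1, 2347, 1),
    (3, 313, 0, 0, 0),
    (2, 2, 3, 587, 1),
    (3, 61, 0, 0, 0),
    (3, 29, 0, 0, 0),
    (2, 37, 1, 127, 1),
    (3, 47, 0, 0, 0),
    (2, 3, 1, 1567, 1),
    (2, 2, 1, 2351, 1),
    (2, 4703, 1, 4703, 0),
    (0, 7, 2, 0, 0),
    (2, 5, 1, 941, 1),
    (3, 181, 0, 0, 0),
    (2, 3, 2, 523, 1),
    (3, 107, 0, 0, 0),
    (2, 17, 1, 277, 1),
    (3, 157, 0, 0, 0),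
    (2, 7, 1, 673, 1),
    (3, 31, 0, 0, 0),
    (2, 3, 1, 1571, 1),
    (2, 2, 1, 2357, 1),
    (3, 41, 0, 0, 0),
    (3, 131, 0, 0, 0),
    (2, 53, 1, 89, 1),
    (3, 337, 0, 0, 0),
    (0, 13, 1, 0, 0),
    (3, 59, 0, 0, 0),
    (2, 4721, 1, 4721, 0),
    (3, 787, 0, 0, 0),
    (2, 4723, 1, 4723, 0),
    (2, 2, 2, 1181, 1),
    (9, 0, 0, 0, 0),
    (3, 139, 0, 0, 0),
    (2, 29, 1, 163, 1),
    (3, 197, 0, 0, 0),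
    (2, 4729, 1, 4729, 0),
    (3, 43, 0, 0, 0),
    (3, 83, 0, 0, 0),
    (9, 0, 0, 0, 0),
    (2, 4733, 1, 4733, 0),
    (3, 263, 0, 0, 0),
    (2, 5, 1, 947, 1),
    (2, 2, 7, 37, 1),
    (2, 3, 1, 1579, 1),
    (3, 103, 0, 0, 0),
    (2, 7, 1, 677, 1),
    (3, 79, 0, 0, 0)]

/-- Witnesses for orders from 4741. -/
def cert11 : List (ℕ × ℕ × ℕ × ℕ × ℕ) :=
  [(2, 11, 1, 431, 1),
    (2, 2, 1, 2371, 1),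
    (3, 31, 0, 0, 0),
    (2, 2, 3, 593, 1),
    (3, 73, 0, 0, 0),
    (3, 113, 0, 0, 0),
    (2, 47, 1, 101, 1),
    (2, 2, 2, 1187, 1),
    (2, 3, 1, 1583, 1),
    (3, 19, 0, 0, 0),
    (2, 4751, 1, 4751, 0),
    (4, 11, 0, 0, 0),
    (2, 7, 2, 97, 1),
    (2, 2, 1, 2377, 1),
    (3, 317, 0, 0, 0),
    (3, 41, 0, 0, 0),
    (2, 67, 1, 71, 1),
    (3, 61, 0, 0, 0),
    (2, 4759, 1, 4759, 0),
    (3, 17, 0, 0, 0),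
    (2, 3, 2, 23, 2),
    (2, 2, 1, 2381, 1),
    (2, 11, 1, 433, 1),
    (3, 397, 0, 0, 0),
    (2, 5, 1, 953, 1),
    (2, 2, 1, 2383, 1),
    (3, 227, 0, 0, 0),
    (2, 2, 5, 149, 1),
    (2, 19, 1, 251, 1),
    (3, 53, 0, 0, 0),
    (2, 13, 1, 367, 1),
    (2, 2, 2, 1193, 1),
    (3, 43, 0, 0, 0),
    (3, 31, 0, 0, 0),
    (2, 5, 2, 191, 1),
    (3, 199, 0, 0, 0),
    (2, 17, 1, 281, 1),
    (2, 2, 1, 2389, 1),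
    (2, 3, 4, 59, 1),
    (3, 239, 0, 0, 0),
    (2, 7, 1, 683, 1),
    (3, 797, 0, 0, 0),
    (2, 4783, 1, 4783, 0),
    (3, 23, 0, 0, 0),
    (3, 29, 0, 0, 0),
    (2, 2, 1, 2393, 1),
    (2, 4787, 1, 4787, 0),
    (3, 19, 0, 0, 0),
    (2, 4789, 1, 4789, 0),
    (3, 479, 0, 0, 0),
    (2, 3, 1, 1597, 1),
    (2, 2, 3, 599, 1),
    (2, 4793, 1, 4793, 0),
    (3, 47, 0, 0, 0),
    (3, 137, 0, 0, 0),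
    (3, 109, 0, 0, 0),
    (3, 41, 0, 0, 0),
    (2, 2, 1, 2399, 1),
    (2, 4799, 1, 4799, 0),
    (9, 0, 0, 0, 0),
    (2, 4801, 1, 4801, 0),
    (2, 2, 1, 7, 4),
    (2, 3, 1, 1601, 1),
    (2, 2, 2, 1201, 1),
    (2, 5, 1, 31, 2),
    (3, 89, 0, 0, 0),
    (3, 23, 0, 0, 0),
    (2, 2, 3, 601, 1),
    (3, 229, 0, 0, 0),
    (3, 37, 0, 0, 0),
    (2, 17, 1, 283, 1),
    (3, 401, 0, 0, 0),
    (2, 4813, 1, 4813, 0),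
    (3, 83, 0, 0, 0),
    (3, 107, 0, 0, 0),
    (3, 43, 0, 0, 0),
    (2, 4817, 1, 4817, 0),
    (3, 73, 0, 0, 0),
    (2, 61, 1, 79, 1),
    (3, 241, 0, 0, 0),
    (2, 3, 1, 1607, 1),
    (2, 2, 1, 2411, 1),
    (3, 53, 0, 0, 0),
    (3, 67, 0, 0, 0),
    (2, 5, 2, 193, 1),
    (3, 127, 0, 0, 0),
    (2, 3, 1, 1609, 1),
    (3, 71, 0, 0, 0),
    (2, 11, 1, 439, 1),
    (3, 23, 0, 0, 0),
    (2, 4831, 1, 4831, 0),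
    (2, 2, 5, 151, 1),
    (2, 3, 3, 179, 1),
    (2, 2, 1, 2417, 1),
    (2, 5, 1, 967, 1),
    (3, 31, 0, 0, 0),
    (2, 7, 1, 691, 1),
    (3, 59, 0, 0, 0),
    (2, 3, 1, 1613, 1),
    (0, 11, 2, 0, 0)]

/-- Witnesses for orders from 4841. -/
def cert12 : List (ℕ × ℕ × ℕ × ℕ × ℕ) :=
  [(2, 47, 1, 103, 1),
    (3, 269, 0, 0, 0),
    (2, 29, 1, 167, 1),
    (3, 173, 0, 0, 0),
    (3, 19, 0, 0, 0),
    (2, 2, 1, 2423, 1),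
    (2, 37, 1, 131, 1),
    (3, 101, 0, 0, 0),
    (2, 13, 1, 373, 1),
    (3, 97, 0, 0, 0),
    (0, 11, 1, 0, 0),
    (2, 2, 2, 1213, 1),
    (2, 23, 1, 211, 1),
    (3, 809, 0, 0, 0),
    (2, 5, 1, 971, 1),
    (2, 2, 3, 607, 1),
    (2, 3, 1, 1619, 1),
    (3, 347, 0, 0, 0),
    (2, 43, 1, 113, 1),
    (0, 3, 5, 0, 0),
    (2, 4861, 1, 4861, 0),
    (3, 17, 0, 0, 0),
    (2, 3, 1, 1621, 1),
    (2, 2, 8, 19, 1),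
    (3, 139, 0, 0, 0),
    (3, 811, 0, 0, 0),
    (2, 31, 1, 157, 1),
    (2, 2, 2, 1217, 1),
    (2, 3, 2, 541, 1),
    (3, 487, 0, 0, 0),
    (2, 4871, 1, 4871, 0),
    (3, 29, 0, 0, 0),
    (2, 11, 1, 443, 1),
    (2, 2, 1, 2437, 1),
    (0, 13, 1, 0, 0),
    (3, 53, 0, 0, 0),
    (2, 4877, 1, 4877, 0),
    (3, 271, 0, 0, 0),
    (3, 41, 0, 0, 0),
    (3, 61, 0, 0, 0),
    (2, 3, 1, 1627, 1),
    (2, 2, 1, 2441, 1),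
    (2, 19, 1, 257, 1),
    (3, 37, 0, 0, 0),
    (2, 5, 1, 977, 1),
    (3, 349, 0, 0, 0),
    (2, 3, 3, 181, 1),
    (3, 47, 0, 0, 0),
    (2, 4889, 1, 4889, 0),
    (3, 163, 0, 0, 0),
    (2, 67, 1, 73, 1),
    (2, 2, 2, 1223, 1),
    (3, 233, 0, 0, 0),
    (2, 2, 1, 2447, 1),
    (3, 89, 0, 0, 0),
    (3, 17, 0, 0, 0),
    (2, 59, 1, 83, 1),
    (3, 79, 0, 0, 0),
    (3, 71, 0, 0, 0),
    (9, 0, 0, 0, 0),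
    (2, 13, 2, 29, 1),
    (3, 43, 0, 0, 0),
    (2, 4903, 1, 4903, 0),
    (2, 2, 3, 613, 1),
    (3, 109, 0, 0, 0),
    (3, 223, 0, 0, 0),
    (2, 7, 1, 701, 1),
    (3, 409, 0, 0, 0),
    (2, 4909, 1, 4909, 0),
    (3, 491, 0, 0, 0),
    (2, 3, 1, 1637, 1),
    (2, 2, 4, 307, 1),
    (2, 17, 3, 17, 0),
    (0, 2, 1, 0, 0),
    (2, 5, 1, 983, 1),
    (2, 2, 2, 1229, 1),
    (3, 149, 0, 0, 0),
    (2, 2, 1, 2459, 1),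
    (2, 4919, 1, 4919, 0),
    (3, 41, 0, 0, 0),
    (3, 37, 0, 0, 0),
    (3, 107, 0, 0, 0),
    (2, 3, 2, 547, 1),
    (2, 2, 2, 1231, 1),
    (2, 5, 2, 197, 1),
    (3, 821, 0, 0, 0),
    (2, 13, 1, 379, 1),
    (9, 0, 0, 0, 0),
    (3, 53, 0, 0, 0),
    (3, 29, 0, 0, 0),
    (2, 4931, 1, 4931, 0),
    (3, 137, 0, 0, 0),
    (2, 4933, 1, 4933, 0),
    (2, 2, 1, 2467, 1),
    (3, 47, 0, 0, 0),
    (2, 2, 3, 617, 1),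
    (2, 4937, 1, 4937, 0),
    (3, 823, 0, 0, 0),
    (2, 11, 1, 449, 1),
    (3, 19, 0, 0, 0)]

/-- Witnesses for orders from 4941. -/
def cert13 : List (ℕ × ℕ × ℕ × ℕ × ℕ) :=
  [(2, 3, 4, 61, 1),
    (3, 353, 0, 0, 0),
    (2, 4943, 1, 4943, 0),
    (3, 103, 0, 0, 0),
    (3, 43, 0, 0, 0),
    (2, 2, 1, 2473, 1),
    (3, 97, 0, 0, 0),
    (2, 2, 2, 1237, 1),
    (2, 7, 2, 101, 1),
    (0, 2, 1, 0, 0),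
    (2, 4951, 1, 4951, 0),
    (2, 2, 3, 619, 1),
    (3, 127, 0, 0, 0),
    (2, 2, 1, 2477, 1),
    (2, 5, 1, 991, 1),
    (3, 59, 0, 0, 0),
    (2, 4957, 1, 4957, 0),
    (3, 67, 0, 0, 0),
    (3, 29, 0, 0, 0),
    (3, 31, 0, 0, 0),
    (2, 11, 2, 41, 1),
    (3, 827, 0, 0, 0),
    (2, 7, 1, 709, 1),
    (3, 73, 0, 0, 0),
    (3, 331, 0, 0, 0),
    (3, 191, 0, 0, 0),
    (2, 4967, 1, 4967, 0),
    (3, 23, 0, 0, 0),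
    (2, 4969, 1, 4969, 0),
    (3, 71, 0, 0, 0),
    (2, 3, 1, 1657, 1),
    (3, 113, 0, 0, 0),
    (2, 4973, 1, 4973, 0),
    (3, 829, 0, 0, 0),
    (2, 5, 2, 199, 1),
    (2, 2, 4, 311, 1),
    (3, 79, 0, 0, 0),
    (3, 131, 0, 0, 0),
    (2, 13, 1, 383, 1),
    (3, 83, 0, 0, 0),
    (2, 17, 1, 293, 1),
    (3, 53, 0, 0, 0),
    (3, 151, 0, 0, 0),
    (3, 89, 0, 0, 0),
    (2, 5, 1, 997, 1),
    (3, 277, 0, 0, 0),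
    (2, 4987, 1, 4987, 0),
    (3, 43, 0, 0, 0),
    (2, 3, 1, 1663, 1),
    (3, 499, 0, 0, 0),
    (3, 31, 0, 0, 0),
    (0, 13, 1, 0, 0),
    (2, 4993, 1, 4993, 0),
    (3, 227, 0, 0, 0),
    (3, 37, 0, 0, 0),
    (2, 2, 2, 1249, 1),
    (2, 19, 1, 263, 1),
    (0, 17, 1, 0, 0),
    (2, 4999, 1, 4999, 0),
    (2, 2, 3, 5, 4),
    (2, 3, 1, 1667, 1),
    (3, 61, 0, 0, 0),
    (2, 5003, 1, 5003, 0),
    (3, 139, 0, 0, 0),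
    (0, 13, 1, 0, 0),
    (2, 2, 1, 2503, 1),
    (2, 3, 1, 1669, 1),
    (2, 2, 4, 313, 1),
    (2, 5009, 1, 5009, 0),
    (3, 167, 0, 0, 0),
    (2, 5011, 1, 5011, 0),
    (3, 179, 0, 0, 0),
    (2, 3, 2, 557, 1),
    (3, 109, 0, 0, 0),
    (3, 59, 0, 0, 0),
    (3, 19, 0, 0, 0),
    (2, 29, 1, 173, 1),
    (3, 193, 0, 0, 0),
    (3, 239, 0, 0, 0),
    (3, 251, 0, 0, 0),
    (2, 5021, 1, 5021, 0),
    (3, 31, 0, 0, 0),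
    (2, 5023, 1, 5023, 0),
    (2, 2, 5, 157, 1),
    (3, 67, 0, 0, 0),
    (3, 359, 0, 0, 0),
    (2, 11, 1, 457, 1),
    (3, 419, 0, 0, 0),
    (2, 47, 1, 107, 1),
    (3, 503, 0, 0, 0),
    (3, 43, 0, 0, 0),
    (3, 37, 0, 0, 0),
    (2, 7, 1, 719, 1),
    (3, 839, 0, 0, 0),
    (3, 53, 0, 0, 0),
    (2, 2, 2, 1259, 1),
    (3, 73, 0, 0, 0),
    (3, 229, 0, 0, 0),
    (2, 5039, 1, 5039, 0),
    (9, 0, 0, 0, 0)]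

/-- Witnesses for orders from 5041. -/
def cert14 : List (ℕ × ℕ × ℕ × ℕ × ℕ) :=
  [(2, 71, 2, 71, 0),
    (2, 2, 1, 2521, 1),
    (2, 3, 1, 41, 2),
    (3, 97, 0, 0, 0),
    (2, 5, 1, 1009, 1),
    (3, 29, 0, 0, 0),
    (2, 7, 2, 103, 1),
    (2, 2, 3, 631, 1),
    (0, 17, 1, 0, 0),
    (3, 101, 0, 0, 0),
    (2, 5051, 1, 5051, 0),
    (3, 421, 0, 0, 0),
    (2, 31, 1, 163, 1),
    (3, 19, 0, 0, 0),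
    (3, 337, 0, 0, 0),
    (2, 2, 6, 79, 1),
    (2, 13, 1, 389, 1),
    (3, 281, 0, 0, 0),
    (2, 5059, 1, 5059, 0),
    (3, 23, 0, 0, 0),
    (3, 241, 0, 0, 0),
    (2, 2, 1, 2531, 1),
    (2, 61, 1, 83, 1),
    (3, 211, 0, 0, 0),
    (2, 5, 1, 1013, 1),
    (3, 149, 0, 0, 0),
    (2, 3, 2, 563, 1),
    (3, 181, 0, 0, 0),
    (2, 37, 1, 137, 1),
    (0, 13, 2, 0, 0),
    (2, 11, 1, 461, 1),
    (2, 2, 4, 317, 1),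
    (3, 89, 0, 0, 0),
    (3, 59, 0, 0, 0),
    (3, 29, 0, 0, 0),
    (3, 47, 0, 0, 0),
    (2, 5077, 1, 5077, 0),
    (2, 2, 1, 2539, 1),
    (2, 3, 1, 1693, 1),
    (3, 127, 0, 0, 0),
    (2, 5081, 1, 5081, 0),
    (0, 11, 2, 0, 0),
    (3, 23, 0, 0, 0),
    (3, 41, 0, 0, 0),
    (3, 113, 0, 0, 0),
    (2, 2, 1, 2543, 1),
    (2, 5087, 1, 5087, 0),
    (3, 53, 0, 0, 0),
    (2, 7, 1, 727, 1),
    (3, 509, 0, 0, 0),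
    (2, 3, 1, 1697, 1),
    (3, 67, 0, 0, 0),
    (2, 11, 1, 463, 1),
    (3, 283, 0, 0, 0),
    (2, 5, 1, 1019, 1),
    (0, 7, 2, 0, 0),
    (2, 3, 1, 1699, 1),
    (2, 2, 1, 2549, 1),
    (2, 5099, 1, 5099, 0),
    (0, 17, 1, 0, 0),
    (2, 5101, 1, 5101, 0),
    (2, 2, 1, 2551, 1),
    (2, 3, 6, 7, 1),
    (3, 29, 0, 0, 0),
    (2, 5, 1, 1021, 1),
    (3, 37, 0, 0, 0),
    (2, 5107, 1, 5107, 0),
    (2, 2, 2, 1277, 1),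
    (3, 131, 0, 0, 0),
    (3, 73, 0, 0, 0),
    (2, 19, 1, 269, 1),
    (3, 71, 0, 0, 0),
    (2, 5113, 1, 5113, 0),
    (2, 2, 1, 2557, 1),
    (3, 31, 0, 0, 0),
    (2, 2, 2, 1279, 1),
    (3, 43, 0, 0, 0),
    (3, 853, 0, 0, 0),
    (2, 5119, 1, 5119, 0),
    (2, 2, 10, 5, 1),
    (2, 3, 2, 569, 1),
    (3, 197, 0, 0, 0),
    (2, 47, 1, 109, 1),
    (3, 61, 0, 0, 0),
    (2, 5, 3, 41, 1),
    (3, 233, 0, 0, 0),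
    (2, 3, 1, 1709, 1),
    (2, 2, 3, 641, 1),
    (2, 23, 1, 223, 1),
    (3, 19, 0, 0, 0),
    (2, 7, 1, 733, 1),
    (2, 2, 2, 1283, 1),
    (3, 59, 0, 0, 0),
    (3, 151, 0, 0, 0),
    (3, 79, 0, 0, 0),
    (3, 107, 0, 0, 0),
    (2, 11, 1, 467, 1),
    (3, 367, 0, 0, 0),
    (2, 3, 2, 571, 1),
    (3, 257, 0, 0, 0)]

/-- Witnesses for orders from 5141. -/
def cert15 : List (ℕ × ℕ × ℕ × ℕ × ℕ) :=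
  [(2, 53, 1, 97, 1),
    (3, 857, 0, 0, 0),
    (2, 37, 1, 139, 1),
    (2, 2, 3, 643, 1),
    (0, 5, 1, 0, 0),
    (3, 83, 0, 0, 0),
    (2, 5147, 1, 5147, 0),
    (9, 0, 0, 0, 0),
    (2, 19, 1, 271, 1),
    (3, 103, 0, 0, 0),
    (3, 101, 0, 0, 0),
    (3, 23, 0, 0, 0),
    (2, 5153, 1, 5153, 0),
    (3, 859, 0, 0, 0),
    (2, 5, 1, 1031, 1),
    (2, 2, 2, 1289, 1),
    (2, 3, 3, 191, 1),
    (2, 2, 1, 2579, 1),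
    (3, 67, 0, 0, 0),
    (3, 43, 0, 0, 0),
    (2, 13, 1, 397, 1),
    (3, 89, 0, 0, 0),
    (2, 3, 1, 1721, 1),
    (2, 2, 2, 1291, 1),
    (2, 5, 1, 1033, 1),
    (3, 41, 0, 0, 0),
    (2, 5167, 1, 5167, 0),
    (3, 19, 0, 0, 0),
    (2, 3, 1, 1723, 1),
    (3, 47, 0, 0, 0),
    (2, 5171, 1, 5171, 0),
    (3, 431, 0, 0, 0),
    (2, 7, 1, 739, 1),
    (3, 199, 0, 0, 0),
    (3, 23, 0, 0, 0),
    (2, 2, 3, 647, 1),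
    (2, 31, 1, 167, 1),
    (3, 863, 0, 0, 0),
    (2, 5179, 1, 5179, 0),
    (3, 37, 0, 0, 0),
    (3, 157, 0, 0, 0),
    (2, 2, 1, 2591, 1),
    (2, 71, 1, 73, 1),
    (2, 2, 6, 3, 4),
    (3, 61, 0, 0, 0),
    (2, 2, 1, 2593, 1),
    (3, 19, 0, 0, 0),
    (2, 2, 2, 1297, 1),
    (2, 5189, 1, 5189, 0),
    (3, 173, 0, 0, 0),
    (2, 29, 1, 179, 1),
    (3, 59, 0, 0, 0),
    (2, 3, 2, 577, 1),
    (3, 53, 0, 0, 0),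
    (2, 5, 1, 1039, 1),
    (3, 433, 0, 0, 0),
    (2, 5197, 1, 5197, 0),
    (3, 113, 0, 0, 0),
    (2, 3, 1, 1733, 1),
    (9, 0, 0, 0, 0),
    (2, 7, 1, 743, 1),
    (0, 2, 1, 0, 0),
    (2, 11, 2, 43, 1),
    (2, 2, 2, 1301, 1),
    (3, 347, 0, 0, 0),
    (3, 137, 0, 0, 0),
    (2, 41, 1, 127, 1),
    (3, 31, 0, 0, 0),
    (2, 5209, 1, 5209, 0),
    (3, 521, 0, 0, 0),
    (2, 3, 3, 193, 1),
    (2, 2, 2, 1303, 1),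
    (2, 13, 1, 401, 1),
    (3, 79, 0, 0, 0),
    (3, 149, 0, 0, 0),
    (2, 2, 5, 163, 1),
    (3, 47, 0, 0, 0),
    (2, 2, 1, 2609, 1),
    (2, 17, 1, 307, 1),
    (3, 29, 0, 0, 0),
    (2, 23, 1, 227, 1),
    (3, 373, 0, 0, 0),
    (2, 3, 1, 1741, 1),
    (2, 2, 3, 653, 1),
    (3, 19, 0, 0, 0),
    (3, 67, 0, 0, 0),
    (2, 5227, 1, 5227, 0),
    (2, 2, 2, 1307, 1),
    (3, 83, 0, 0, 0),
    (3, 523, 0, 0, 0),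
    (2, 5231, 1, 5231, 0),
    (3, 109, 0, 0, 0),
    (2, 5233, 1, 5233, 0),
    (2, 2, 1, 2617, 1),
    (3, 349, 0, 0, 0),
    (9, 0, 0, 0, 0),
    (2, 5237, 1, 5237, 0),
    (3, 97, 0, 0, 0),
    (2, 13, 2, 31, 1),
    (3, 131, 0, 0, 0)]

/-- Witnesses for orders from 5241. -/
def cert16 : List (ℕ × ℕ × ℕ × ℕ × ℕ) :=
  [(2, 3, 1, 1747, 1),
    (2, 2, 1, 2621, 1),
    (2, 7, 2, 107, 1),
    (3, 23, 0, 0, 0),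
    (2, 5, 1, 1049, 1),
    (3, 61, 0, 0, 0),
    (3, 53, 0, 0, 0),
    (2, 2, 7, 41, 1),
    (2, 29, 1, 181, 1),
    (0, 2, 1, 0, 0),
    (2, 59, 1, 89, 1),
    (3, 101, 0, 0, 0),
    (3, 103, 0, 0, 0),
    (3, 71, 0, 0, 0),
    (2, 5, 1, 1051, 1),
    (3, 73, 0, 0, 0),
    (2, 7, 1, 751, 1),
    (3, 239, 0, 0, 0),
    (2, 3, 1, 1753, 1),
    (3, 263, 0, 0, 0),
    (2, 5261, 1, 5261, 0),
    (3, 877, 0, 0, 0),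
    (2, 19, 1, 277, 1),
    (3, 47, 0, 0, 0),
    (0, 5, 1, 0, 0),
    (2, 2, 1, 2633, 1),
    (2, 23, 1, 229, 1),
    (3, 439, 0, 0, 0),
    (2, 11, 1, 479, 1),
    (3, 31, 0, 0, 0),
    (3, 251, 0, 0, 0),
    (2, 2, 3, 659, 1),
    (2, 5273, 1, 5273, 0),
    (3, 293, 0, 0, 0),
    (2, 5, 2, 211, 1),
    (2, 2, 2, 1319, 1),
    (2, 3, 1, 1759, 1),
    (3, 29, 0, 0, 0),
    (2, 5279, 1, 5279, 0),
    (1, 11, 0, 0, 0),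
    (2, 5281, 1, 5281, 0),
    (3, 139, 0, 0, 0),
    (2, 3, 2, 587, 1),
    (2, 2, 2, 1321, 1),
    (3, 151, 0, 0, 0),
    (3, 881, 0, 0, 0),
    (2, 17, 1, 311, 1),
    (2, 2, 3, 661, 1),
    (3, 43, 0, 0, 0),
    (3, 23, 0, 0, 0),
    (3, 37, 0, 0, 0),
    (9, 0, 0, 0, 0),
    (2, 67, 1, 79, 1),
    (2, 2, 1, 2647, 1),
    (3, 353, 0, 0, 0),
    (2, 2, 4, 331, 1),
    (2, 5297, 1, 5297, 0),
    (3, 883, 0, 0, 0),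
    (2, 7, 1, 757, 1),
    (3, 53, 0, 0, 0),
    (3, 31, 0, 0, 0),
    (3, 241, 0, 0, 0),
    (2, 5303, 1, 5303, 0),
    (0, 13, 1, 0, 0),
    (2, 5, 1, 1061, 1),
    (3, 379, 0, 0, 0),
    (3, 61, 0, 0, 0),
    (2, 2, 2, 1327, 1),
    (2, 5309, 1, 5309, 0),
    (3, 59, 0, 0, 0),
    (2, 47, 1, 113, 1),
    (2, 2, 6, 83, 1),
    (3, 23, 0, 0, 0),
    (2, 2, 1, 2657, 1),
    (2, 5, 1, 1063, 1),
    (3, 443, 0, 0, 0),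
    (2, 13, 1, 409, 1),
    (2, 2, 1, 2659, 1),
    (2, 3, 3, 197, 1),
    (3, 19, 0, 0, 0),
    (2, 17, 1, 313, 1),
    (3, 887, 0, 0, 0),
    (2, 5323, 1, 5323, 0),
    (2, 2, 2, 11, 3),
    (3, 71, 0, 0, 0),
    (2, 2, 1, 2663, 1),
    (2, 7, 1, 761, 1),
    (3, 37, 0, 0, 0),
    (2, 73, 2, 73, 0),
    (3, 41, 0, 0, 0),
    (2, 3, 1, 1777, 1),
    (3, 43, 0, 0, 0),
    (2, 5333, 1, 5333, 0),
    (3, 127, 0, 0, 0),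
    (3, 97, 0, 0, 0),
    (3, 29, 0, 0, 0),
    (2, 3, 2, 593, 1),
    (3, 157, 0, 0, 0),
    (2, 19, 1, 281, 1),
    (3, 89, 0, 0, 0)]

/-- Witnesses for orders from 5341. -/
def cert17 : List (ℕ × ℕ × ℕ × ℕ × ℕ) :=
  [(2, 7, 2, 109, 1),
    (2, 2, 1, 2671, 1),
    (3, 137, 0, 0, 0),
    (2, 2, 5, 167, 1),
    (2, 5, 1, 1069, 1),
    (0, 2, 1, 0, 0),
    (2, 5347, 1, 5347, 0),
    (3, 191, 0, 0, 0),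
    (2, 3, 1, 1783, 1),
    (3, 107, 0, 0, 0),
    (2, 5351, 1, 5351, 0),
    (3, 223, 0, 0, 0),
    (2, 53, 1, 101, 1),
    (2, 2, 1, 2677, 1),
    (0, 17, 1, 0, 0),
    (3, 103, 0, 0, 0),
    (2, 11, 1, 487, 1),
    (3, 47, 0, 0, 0),
    (2, 23, 1, 233, 1),
    (3, 67, 0, 0, 0),
    (2, 3, 1, 1787, 1),
    (3, 383, 0, 0, 0),
    (2, 31, 1, 173, 1),
    (3, 149, 0, 0, 0),
    (3, 37, 0, 0, 0),
    (2, 2, 1, 2683, 1),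
    (2, 3, 1, 1789, 1),
    (3, 61, 0, 0, 0),
    (3, 59, 0, 0, 0),
    (3, 179, 0, 0, 0),
    (2, 41, 1, 131, 1),
    (3, 79, 0, 0, 0),
    (2, 3, 3, 199, 1),
    (2, 2, 1, 2687, 1),
    (2, 5, 3, 43, 1),
    (9, 0, 0, 0, 0),
    (2, 19, 1, 283, 1),
    (2, 2, 1, 2689, 1),
    (3, 163, 0, 0, 0),
    (3, 269, 0, 0, 0),
    (2, 5381, 1, 5381, 0),
    (3, 23, 0, 0, 0),
    (2, 7, 1, 769, 1),
    (2, 2, 3, 673, 1),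
    (3, 359, 0, 0, 0),
    (2, 2, 1, 2693, 1),
    (2, 5387, 1, 5387, 0),
    (3, 449, 0, 0, 0),
    (2, 17, 1, 317, 1),
    (0, 11, 1, 0, 0),
    (2, 3, 2, 599, 1),
    (2, 2, 4, 337, 1),
    (2, 5393, 1, 5393, 0),
    (3, 31, 0, 0, 0),
    (3, 83, 0, 0, 0),
    (3, 71, 0, 0, 0),
    (3, 257, 0, 0, 0),
    (2, 2, 1, 2699, 1),
    (2, 5399, 1, 5399, 0),
    (9, 0, 0, 0, 0),
    (2, 11, 1, 491, 1),
    (3, 73, 0, 0, 0),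
    (2, 3, 1, 1801, 1),
    (3, 193, 0, 0, 0),
    (3, 47, 0, 0, 0),
    (3, 53, 0, 0, 0),
    (2, 5407, 1, 5407, 0),
    (2, 2, 5, 13, 2),
    (2, 3, 2, 601, 1),
    (3, 541, 0, 0, 0),
    (2, 7, 1, 773, 1),
    (3, 41, 0, 0, 0),
    (2, 5413, 1, 5413, 0),
    (2, 2, 1, 2707, 1),
    (3, 19, 0, 0, 0),
    (2, 2, 3, 677, 1),
    (2, 5417, 1, 5417, 0),
    (3, 43, 0, 0, 0),
    (2, 5419, 1, 5419, 0),
    (3, 271, 0, 0, 0),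
    (3, 139, 0, 0, 0),
    (2, 2, 1, 2711, 1),
    (3, 29, 0, 0, 0),
    (3, 113, 0, 0, 0),
    (3, 31, 0, 0, 0),
    (2, 2, 1, 2713, 1),
    (2, 3, 4, 67, 1),
    (3, 59, 0, 0, 0),
    (2, 61, 1, 89, 1),
    (3, 181, 0, 0, 0),
    (2, 5431, 1, 5431, 0),
    (3, 97, 0, 0, 0),
    (2, 3, 1, 1811, 1),
    (3, 19, 0, 0, 0),
    (2, 5, 1, 1087, 1),
    (3, 151, 0, 0, 0),
    (2, 5437, 1, 5437, 0),
    (2, 2, 1, 2719, 1),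
    (3, 37, 0, 0, 0),
    (0, 17, 1, 0, 0)]

/-- Witnesses for orders from 5441. -/
def cert18 : List (ℕ × ℕ × ℕ × ℕ × ℕ) :=
  [(2, 5441, 1, 5441, 0),
    (3, 907, 0, 0, 0),
    (2, 5443, 1, 5443, 0),
    (2, 2, 2, 1361, 1),
    (0, 5, 1, 0, 0),
    (3, 389, 0, 0, 0),
    (2, 13, 1, 419, 1),
    (3, 227, 0, 0, 0),
    (2, 5449, 1, 5449, 0),
    (3, 109, 0, 0, 0),
    (3, 79, 0, 0, 0),
    (3, 47, 0, 0, 0),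
    (3, 41, 0, 0, 0),
    (3, 101, 0, 0, 0),
    (2, 5, 1, 1091, 1),
    (3, 31, 0, 0, 0),
    (3, 107, 0, 0, 0),
    (2, 2, 1, 2729, 1),
    (2, 53, 1, 103, 1),
    (9, 0, 0, 0, 0),
    (2, 43, 1, 127, 1),
    (2, 2, 1, 2731, 1),
    (2, 3, 2, 607, 1),
    (2, 2, 3, 683, 1),
    (2, 5, 1, 1093, 1),
    (3, 911, 0, 0, 0),
    (3, 71, 0, 0, 0),
    (2, 2, 2, 1367, 1),
    (2, 3, 1, 1823, 1),
    (3, 547, 0, 0, 0),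
    (2, 5471, 1, 5471, 0),
    (3, 19, 0, 0, 0),
    (2, 13, 1, 421, 1),
    (3, 23, 0, 0, 0),
    (3, 73, 0, 0, 0),
    (2, 2, 2, 37, 2),
    (2, 5477, 1, 5477, 0),
    (3, 83, 0, 0, 0),
    (2, 5479, 1, 5479, 0),
    (3, 137, 0, 0, 0),
    (3, 29, 0, 0, 0),
    (2, 2, 1, 2741, 1),
    (2, 5483, 1, 5483, 0),
    (3, 457, 0, 0, 0),
    (2, 5, 1, 1097, 1),
    (3, 211, 0, 0, 0),
    (3, 59, 0, 0, 0),
    (2, 2, 4, 7, 3),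
    (2, 11, 1, 499, 1),
    (3, 61, 0, 0, 0),
    (2, 17, 2, 19, 1),
    (2, 2, 2, 1373, 1),
    (2, 3, 1, 1831, 1),
    (3, 67, 0, 0, 0),
    (3, 157, 0, 0, 0),
    (3, 229, 0, 0, 0),
    (2, 23, 1, 239, 1),
    (2, 2, 1, 2749, 1),
    (3, 47, 0, 0, 0),
    (0, 5, 3, 0, 0),
    (2, 5501, 1, 5501, 0),
    (3, 131, 0, 0, 0),
    (2, 5503, 1, 5503, 0),
    (2, 2, 7, 43, 1),
    (3, 367, 0, 0, 0),
    (2, 2, 1, 2753, 1),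
    (2, 5507, 1, 5507, 0),
    (1, 17, 0, 0, 0),
    (2, 7, 1, 787, 1),
    (3, 29, 0, 0, 0),
    (3, 167, 0, 0, 0),
    (3, 53, 0, 0, 0),
    (2, 37, 1, 149, 1),
    (3, 919, 0, 0, 0),
    (2, 5, 1, 1103, 1),
    (3, 197, 0, 0, 0),
    (2, 3, 2, 613, 1),
    (3, 89, 0, 0, 0),
    (2, 5519, 1, 5519, 0),
    (3, 23, 0, 0, 0),
    (2, 5521, 1, 5521, 0),
    (3, 251, 0, 0, 0),
    (3, 263, 0, 0, 0),
    (2, 2, 2, 1381, 1),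
    (0, 17, 1, 0, 0),
    (3, 307, 0, 0, 0),
    (2, 5527, 1, 5527, 0),
    (2, 2, 3, 691, 1),
    (3, 97, 0, 0, 0),
    (3, 79, 0, 0, 0),
    (2, 5531, 1, 5531, 0),
    (3, 461, 0, 0, 0),
    (2, 11, 1, 503, 1),
    (2, 2, 1, 2767, 1),
    (3, 41, 0, 0, 0),
    (2, 2, 5, 173, 1),
    (2, 7, 2, 113, 1),
    (3, 71, 0, 0, 0),
    (2, 29, 1, 191, 1),
    (3, 277, 0, 0, 0)]

/-- Witnesses for orders from 5541. -/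
def cert19 : List (ℕ × ℕ × ℕ × ℕ × ℕ) :=
  [(2, 3, 1, 1847, 1),
    (3, 163, 0, 0, 0),
    (2, 23, 1, 241, 1),
    (4, 11, 0, 0, 0),
    (2, 5, 1, 1109, 1),
    (3, 59, 0, 0, 0),
    (2, 3, 1, 43, 2),
    (3, 73, 0, 0, 0),
    (2, 31, 1, 179, 1),
    (3, 37, 0, 0, 0),
    (3, 61, 0, 0, 0),
    (2, 2, 4, 347, 1),
    (2, 3, 2, 617, 1),
    (2, 2, 1, 2777, 1),
    (3, 101, 0, 0, 0),
    (3, 463, 0, 0, 0),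
    (2, 5557, 1, 5557, 0),
    (3, 397, 0, 0, 0),
    (3, 109, 0, 0, 0),
    (3, 139, 0, 0, 0),
    (2, 67, 1, 83, 1),
    (3, 103, 0, 0, 0),
    (2, 5563, 1, 5563, 0),
    (3, 107, 0, 0, 0),
    (3, 53, 0, 0, 0),
    (3, 23, 0, 0, 0),
    (2, 19, 1, 293, 1),
    (3, 29, 0, 0, 0),
    (2, 5569, 1, 5569, 0),
    (3, 557, 0, 0, 0),
    (2, 3, 2, 619, 1),
    (3, 199, 0, 0, 0),
    (2, 5573, 1, 5573, 0),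
    (3, 929, 0, 0, 0),
    (2, 5, 2, 223, 1),
    (3, 41, 0, 0, 0),
    (0, 13, 2, 0, 0),
    (2, 2, 1, 2789, 1),
    (2, 7, 1, 797, 1),
    (3, 31, 0, 0, 0),
    (2, 5581, 1, 5581, 0),
    (2, 2, 1, 2791, 1),
    (2, 3, 1, 1861, 1),
    (2, 2, 4, 349, 1),
    (2, 5, 1, 1117, 1),
    (3, 19, 0, 0, 0),
    (2, 37, 1, 151, 1),
    (3, 127, 0, 0, 0),
    (2, 3, 5, 23, 1),
    (3, 43, 0, 0, 0),
    (2, 5591, 1, 5591, 0),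
    (3, 233, 0, 0, 0),
    (3, 47, 0, 0, 0),
    (2, 2, 1, 2797, 1),
    (3, 373, 0, 0, 0),
    (2, 2, 2, 1399, 1),
    (2, 29, 1, 193, 1),
    (3, 311, 0, 0, 0),
    (2, 11, 1, 509, 1),
    (9, 0, 0, 0, 0),
    (2, 3, 1, 1867, 1),
    (2, 2, 1, 2801, 1),
    (2, 13, 1, 431, 1),
    (3, 467, 0, 0, 0),
    (3, 59, 0, 0, 0),
    (2, 2, 1, 2803, 1),
    (3, 89, 0, 0, 0),
    (2, 2, 3, 701, 1),
    (2, 71, 1, 79, 1),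
    (0, 17, 1, 0, 0),
    (2, 31, 1, 181, 1),
    (3, 61, 0, 0, 0),
    (2, 3, 1, 1871, 1),
    (3, 401, 0, 0, 0),
    (2, 5, 1, 1123, 1),
    (9, 0, 0, 0, 0),
    (2, 41, 1, 137, 1),
    (2, 2, 1, 53, 2),
    (2, 3, 1, 1873, 1),
    (3, 281, 0, 0, 0),
    (3, 73, 0, 0, 0),
    (3, 937, 0, 0, 0),
    (2, 5623, 1, 5623, 0),
    (3, 37, 0, 0, 0),
    (2, 3, 2, 5, 4),
    (3, 97, 0, 0, 0),
    (2, 17, 1, 331, 1),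
    (3, 67, 0, 0, 0),
    (2, 13, 1, 433, 1),
    (3, 563, 0, 0, 0),
    (2, 3, 1, 1877, 1),
    (2, 2, 9, 11, 1),
    (2, 43, 1, 131, 1),
    (3, 313, 0, 0, 0),
    (3, 23, 0, 0, 0),
    (2, 2, 2, 1409, 1),
    (2, 3, 1, 1879, 1),
    (2, 2, 1, 2819, 1),
    (2, 5639, 1, 5639, 0),
    (3, 47, 0, 0, 0)]

/-- Witnesses for orders from 5641. -/
def cert20 : List (ℕ × ℕ × ℕ × ℕ × ℕ) :=
  [(2, 5641, 1, 5641, 0),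
    (3, 31, 0, 0, 0),
    (3, 19, 0, 0, 0),
    (3, 83, 0, 0, 0),
    (2, 5, 1, 1129, 1),
    (3, 941, 0, 0, 0),
    (2, 5647, 1, 5647, 0),
    (2, 2, 4, 353, 1),
    (3, 269, 0, 0, 0),
    (3, 113, 0, 0, 0),
    (2, 5651, 1, 5651, 0),
    (3, 157, 0, 0, 0),
    (2, 5653, 1, 5653, 0),
    (3, 257, 0, 0, 0),
    (3, 29, 0, 0, 0),
    (3, 101, 0, 0, 0),
    (2, 5657, 1, 5657, 0),
    (3, 41, 0, 0, 0),
    (2, 5659, 1, 5659, 0),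
    (3, 283, 0, 0, 0),
    (3, 37, 0, 0, 0),
    (3, 149, 0, 0, 0),
    (2, 7, 1, 809, 1),
    (3, 59, 0, 0, 0),
    (3, 103, 0, 0, 0),
    (2, 2, 1, 2833, 1),
    (2, 3, 1, 1889, 1),
    (3, 109, 0, 0, 0),
    (2, 5669, 1, 5669, 0),
    (0, 2, 1, 0, 0),
    (2, 53, 1, 107, 1),
    (2, 2, 3, 709, 1),
    (3, 61, 0, 0, 0),
    (2, 2, 1, 2837, 1),
    (2, 5, 2, 227, 1),
    (3, 43, 0, 0, 0),
    (2, 7, 1, 811, 1),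
    (3, 167, 0, 0, 0),
    (2, 3, 2, 631, 1),
    (3, 71, 0, 0, 0),
    (3, 23, 0, 0, 0),
    (3, 947, 0, 0, 0),
    (2, 5683, 1, 5683, 0),
    (3, 29, 0, 0, 0),
    (3, 379, 0, 0, 0),
    (2, 2, 1, 2843, 1),
    (2, 11, 2, 47, 1),
    (3, 79, 0, 0, 0),
    (2, 5689, 1, 5689, 0),
    (3, 569, 0, 0, 0),
    (3, 271, 0, 0, 0),
    (2, 2, 2, 1423, 1),
    (2, 5693, 1, 5693, 0),
    (3, 73, 0, 0, 0),
    (3, 67, 0, 0, 0),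
    (2, 2, 6, 89, 1),
    (2, 3, 3, 211, 1),
    (3, 37, 0, 0, 0),
    (2, 41, 1, 139, 1),
    (3, 19, 0, 0, 0),
    (2, 5701, 1, 5701, 0),
    (2, 2, 1, 2851, 1),
    (2, 3, 1, 1901, 1),
    (3, 31, 0, 0, 0),
    (3, 163, 0, 0, 0),
    (3, 317, 0, 0, 0),
    (2, 13, 1, 439, 1),
    (2, 2, 2, 1427, 1),
    (3, 173, 0, 0, 0),
    (3, 571, 0, 0, 0),
    (2, 5711, 1, 5711, 0),
    (0, 17, 1, 0, 0),
    (2, 29, 1, 197, 1),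
    (2, 2, 1, 2857, 1),
    (3, 127, 0, 0, 0),
    (2, 2, 2, 1429, 1),
    (2, 5717, 1, 5717, 0),
    (3, 953, 0, 0, 0),
    (3, 43, 0, 0, 0),
    (0, 13, 1, 0, 0),
    (2, 3, 1, 1907, 1),
    (2, 2, 1, 2861, 1),
    (2, 59, 1, 97, 1),
    (3, 53, 0, 0, 0),
    (2, 5, 2, 229, 1),
    (3, 409, 0, 0, 0),
    (3, 83, 0, 0, 0),
    (2, 2, 5, 179, 1),
    (2, 17, 1, 337, 1),
    (3, 191, 0, 0, 0),
    (2, 11, 1, 521, 1),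
    (2, 2, 2, 1433, 1),
    (0, 13, 1, 0, 0),
    (3, 61, 0, 0, 0),
    (3, 37, 0, 0, 0),
    (3, 239, 0, 0, 0),
    (2, 5737, 1, 5737, 0),
    (3, 151, 0, 0, 0),
    (2, 3, 1, 1913, 1),
    (3, 41, 0, 0, 0)]

/-- Witnesses for orders from 5741. -/
def cert21 : List (ℕ × ℕ × ℕ × ℕ × ℕ) :=
  [(2, 5741, 1, 5741, 0),
    (3, 29, 0, 0, 0),
    (2, 5743, 1, 5743, 0),
    (2, 2, 4, 359, 1),
    (3, 383, 0, 0, 0),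
    (0, 17, 1, 0, 0),
    (2, 7, 1, 821, 1),
    (3, 479, 0, 0, 0),
    (2, 5749, 1, 5749, 0),
    (3, 23, 0, 0, 0),
    (2, 3, 4, 71, 1),
    (2, 2, 3, 719, 1),
    (2, 11, 1, 523, 1),
    (3, 137, 0, 0, 0),
    (2, 5, 1, 1151, 1),
    (2, 2, 2, 1439, 1),
    (3, 101, 0, 0, 0),
    (2, 2, 1, 2879, 1),
    (2, 13, 1, 443, 1),
    (9, 0, 0, 0, 0),
    (2, 7, 1, 823, 1),
    (3, 67, 0, 0, 0),
    (3, 113, 0, 0, 0),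
    (3, 131, 0, 0, 0),
    (2, 5, 1, 1153, 1),
    (3, 31, 0, 0, 0),
    (2, 73, 1, 79, 1),
    (3, 103, 0, 0, 0),
    (2, 3, 2, 641, 1),
    (3, 577, 0, 0, 0),
    (2, 29, 1, 199, 1),
    (3, 37, 0, 0, 0),
    (2, 23, 1, 251, 1),
    (2, 2, 1, 2887, 1),
    (0, 11, 1, 0, 0),
    (2, 2, 4, 19, 2),
    (2, 53, 1, 109, 1),
    (3, 107, 0, 0, 0),
    (2, 5779, 1, 5779, 0),
    (0, 17, 2, 0, 0),
    (3, 47, 0, 0, 0),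
    (3, 59, 0, 0, 0),
    (2, 5783, 1, 5783, 0),
    (3, 241, 0, 0, 0),
    (3, 89, 0, 0, 0),
    (3, 263, 0, 0, 0),
    (2, 3, 2, 643, 1),
    (2, 2, 2, 1447, 1),
    (2, 7, 1, 827, 1),
    (3, 193, 0, 0, 0),
    (2, 5791, 1, 5791, 0),
    (2, 2, 5, 181, 1),
    (2, 3, 1, 1931, 1),
    (2, 2, 1, 2897, 1),
    (3, 61, 0, 0, 0),
    (3, 23, 0, 0, 0),
    (3, 31, 0, 0, 0),
    (3, 223, 0, 0, 0),
    (2, 3, 1, 1933, 1),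
    (3, 29, 0, 0, 0),
    (2, 5801, 1, 5801, 0),
    (3, 967, 0, 0, 0),
    (2, 7, 1, 829, 1),
    (2, 2, 2, 1451, 1),
    (3, 43, 0, 0, 0),
    (2, 2, 1, 2903, 1),
    (2, 5807, 1, 5807, 0),
    (9, 0, 0, 0, 0),
    (2, 37, 1, 157, 1),
    (3, 83, 0, 0, 0),
    (3, 149, 0, 0, 0),
    (2, 2, 2, 1453, 1),
    (2, 5813, 1, 5813, 0),
    (3, 19, 0, 0, 0),
    (2, 5, 1, 1163, 1),
    (2, 2, 3, 727, 1),
    (3, 277, 0, 0, 0),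
    (2, 2, 1, 2909, 1),
    (2, 11, 1, 23, 2),
    (3, 97, 0, 0, 0),
    (2, 5821, 1, 5821, 0),
    (3, 71, 0, 0, 0),
    (2, 3, 2, 647, 1),
    (1, 13, 0, 0, 0),
    (2, 5, 2, 233, 1),
    (3, 971, 0, 0, 0),
    (2, 5827, 1, 5827, 0),
    (3, 47, 0, 0, 0),
    (3, 67, 0, 0, 0),
    (3, 53, 0, 0, 0),
    (2, 7, 3, 17, 1),
    (2, 2, 3, 3, 6),
    (2, 19, 1, 307, 1),
    (2, 2, 1, 2917, 1),
    (3, 389, 0, 0, 0),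
    (2, 2, 2, 1459, 1),
    (2, 13, 1, 449, 1),
    (3, 139, 0, 0, 0),
    (2, 5839, 1, 5839, 0),
    (3, 73, 0, 0, 0)]

/-- Witnesses for orders from 5841. -/
def cert22 : List (ℕ × ℕ × ℕ × ℕ × ℕ) :=
  [(3, 59, 0, 0, 0),
    (3, 127, 0, 0, 0),
    (2, 5843, 1, 5843, 0),
    (3, 487, 0, 0, 0),
    (3, 167, 0, 0, 0),
    (3, 79, 0, 0, 0),
    (2, 3, 1, 1949, 1),
    (3, 43, 0, 0, 0),
    (2, 5849, 1, 5849, 0),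
    (0, 13, 1, 0, 0),
    (2, 5851, 1, 5851, 0),
    (3, 19, 0, 0, 0),
    (2, 3, 1, 1951, 1),
    (2, 2, 1, 2927, 1),
    (2, 5, 1, 1171, 1),
    (3, 61, 0, 0, 0),
    (2, 5857, 1, 5857, 0),
    (3, 101, 0, 0, 0),
    (3, 31, 0, 0, 0),
    (3, 293, 0, 0, 0),
    (2, 5861, 1, 5861, 0),
    (3, 977, 0, 0, 0),
    (3, 41, 0, 0, 0),
    (2, 2, 3, 733, 1),
    (3, 23, 0, 0, 0),
    (3, 419, 0, 0, 0),
    (2, 5867, 1, 5867, 0),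
    (3, 163, 0, 0, 0),
    (2, 5869, 1, 5869, 0),
    (3, 587, 0, 0, 0),
    (3, 103, 0, 0, 0),
    (2, 2, 4, 367, 1),
    (2, 7, 1, 839, 1),
    (3, 89, 0, 0, 0),
    (2, 5, 3, 47, 1),
    (3, 113, 0, 0, 0),
    (2, 3, 2, 653, 1),
    (2, 2, 1, 2939, 1),
    (2, 5879, 1, 5879, 0),
    (9, 0, 0, 0, 0),
    (2, 5881, 1, 5881, 0),
    (3, 173, 0, 0, 0),
    (3, 53, 0, 0, 0),
    (2, 2, 2, 1471, 1),
    (3, 107, 0, 0, 0),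
    (3, 109, 0, 0, 0),
    (2, 7, 1, 29, 2),
    (2, 2, 8, 23, 1),
    (3, 151, 0, 0, 0),
    (3, 31, 0, 0, 0),
    (2, 43, 1, 137, 1),
    (3, 491, 0, 0, 0),
    (2, 71, 1, 83, 1),
    (3, 421, 0, 0, 0),
    (3, 131, 0, 0, 0),
    (3, 67, 0, 0, 0),
    (2, 5897, 1, 5897, 0),
    (3, 983, 0, 0, 0),
    (2, 17, 1, 347, 1),
    (3, 59, 0, 0, 0),
    (3, 281, 0, 0, 0),
    (3, 227, 0, 0, 0),
    (2, 5903, 1, 5903, 0),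
    (3, 41, 0, 0, 0),
    (2, 5, 1, 1181, 1),
    (2, 2, 1, 2953, 1),
    (3, 179, 0, 0, 0),
    (3, 211, 0, 0, 0),
    (2, 19, 1, 311, 1),
    (3, 197, 0, 0, 0),
    (2, 23, 1, 257, 1),
    (2, 2, 3, 739, 1),
    (2, 3, 4, 73, 1),
    (2, 2, 1, 2957, 1),
    (0, 13, 2, 0, 0),
    (3, 29, 0, 0, 0),
    (2, 61, 1, 97, 1),
    (3, 269, 0, 0, 0),
    (2, 3, 1, 1973, 1),
    (3, 37, 0, 0, 0),
    (2, 31, 1, 191, 1),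
    (3, 47, 0, 0, 0),
    (2, 5923, 1, 5923, 0),
    (2, 2, 2, 1481, 1),
    (3, 79, 0, 0, 0),
    (2, 2, 1, 2963, 1),
    (2, 5927, 1, 5927, 0),
    (3, 19, 0, 0, 0),
    (2, 7, 2, 11, 2),
    (3, 593, 0, 0, 0),
    (2, 3, 2, 659, 1),
    (2, 2, 2, 1483, 1),
    (2, 17, 1, 349, 1),
    (3, 43, 0, 0, 0),
    (2, 5, 1, 1187, 1),
    (3, 53, 0, 0, 0),
    (2, 3, 1, 1979, 1),
    (2, 2, 1, 2969, 1),
    (2, 5939, 1, 5939, 0),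
    (9, 0, 0, 0, 0)]

/-- Witnesses for orders from 5941. -/
def cert23 : List (ℕ × ℕ × ℕ × ℕ × ℕ) :=
  [(2, 13, 1, 457, 1),
    (2, 2, 1, 2971, 1),
    (3, 283, 0, 0, 0),
    (2, 2, 3, 743, 1),
    (3, 41, 0, 0, 0),
    (3, 991, 0, 0, 0),
    (2, 19, 1, 313, 1),
    (2, 2, 2, 1487, 1),
    (2, 3, 2, 661, 1),
    (0, 5, 2, 0, 0),
    (2, 11, 1, 541, 1),
    (3, 31, 0, 0, 0),
    (2, 5953, 1, 5953, 0),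
    (3, 229, 0, 0, 0),
    (3, 397, 0, 0, 0),
    (2, 2, 2, 1489, 1),
    (3, 37, 0, 0, 0),
    (3, 331, 0, 0, 0),
    (2, 59, 1, 101, 1),
    (3, 149, 0, 0, 0),
    (2, 3, 1, 1987, 1),
    (3, 271, 0, 0, 0),
    (2, 67, 1, 89, 1),
    (3, 71, 0, 0, 0),
    (2, 5, 1, 1193, 1),
    (3, 157, 0, 0, 0),
    (0, 17, 1, 0, 0),
    (2, 2, 4, 373, 1),
    (2, 47, 1, 127, 1),
    (3, 199, 0, 0, 0),
    (2, 7, 1, 853, 1),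
    (2, 2, 2, 1493, 1),
    (3, 181, 0, 0, 0),
    (3, 103, 0, 0, 0),
    (2, 5, 2, 239, 1),
    (3, 83, 0, 0, 0),
    (2, 43, 1, 139, 1),
    (3, 61, 0, 0, 0),
    (2, 3, 1, 1993, 1),
    (3, 23, 0, 0, 0),
    (2, 5981, 1, 5981, 0),
    (3, 997, 0, 0, 0),
    (2, 31, 1, 193, 1),
    (0, 17, 1, 0, 0),
    (3, 19, 0, 0, 0),
    (3, 73, 0, 0, 0),
    (2, 5987, 1, 5987, 0),
    (3, 499, 0, 0, 0),
    (2, 53, 1, 113, 1),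
    (3, 599, 0, 0, 0),
    (2, 3, 1, 1997, 1),
    (3, 107, 0, 0, 0),
    (2, 13, 1, 461, 1),
    (3, 37, 0, 0, 0),
    (3, 109, 0, 0, 0),
    (2, 2, 2, 1499, 1),
    (2, 3, 1, 1999, 1),
    (2, 2, 1, 2999, 1),
    (2, 7, 1, 857, 1),
    (9, 0, 0, 0, 0),
    (2, 17, 1, 353, 1),
    (2, 2, 1, 3001, 1),
    (3, 29, 0, 0, 0),
    (3, 79, 0, 0, 0),
    (2, 5, 1, 1201, 1),
    (0, 11, 1, 0, 0),
    (2, 6007, 1, 6007, 0),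
    (2, 2, 3, 751, 1),
    (2, 3, 1, 2003, 1),
    (3, 601, 0, 0, 0),
    (2, 6011, 1, 6011, 0),
    (3, 167, 0, 0, 0),
    (2, 7, 1, 859, 1),
    (3, 97, 0, 0, 0),
    (3, 401, 0, 0, 0),
    (2, 2, 7, 47, 1),
    (2, 11, 1, 547, 1),
    (3, 59, 0, 0, 0),
    (2, 13, 1, 463, 1),
    (3, 43, 0, 0, 0),
    (2, 3, 3, 223, 1),
    (2, 2, 1, 3011, 1),
    (2, 19, 1, 317, 1),
    (3, 251, 0, 0, 0),
    (2, 5, 2, 241, 1),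
    (3, 131, 0, 0, 0),
    (3, 41, 0, 0, 0),
    (3, 137, 0, 0, 0),
    (2, 6029, 1, 6029, 0),
    (3, 67, 0, 0, 0),
    (2, 37, 1, 163, 1),
    (3, 29, 0, 0, 0),
    (2, 3, 1, 2011, 1),
    (3, 431, 0, 0, 0),
    (3, 71, 0, 0, 0),
    (3, 503, 0, 0, 0),
    (2, 6037, 1, 6037, 0),
    (2, 2, 1, 3019, 1),
    (3, 61, 0, 0, 0),
    (3, 151, 0, 0, 0)]

/-- Witnesses for orders from 6041. -/
def cert24 : List (ℕ × ℕ × ℕ × ℕ × ℕ) :=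
  [(2, 7, 1, 863, 1),
    (3, 53, 0, 0, 0),
    (2, 6043, 1, 6043, 0),
    (2, 2, 2, 1511, 1),
    (3, 31, 0, 0, 0),
    (2, 2, 1, 3023, 1),
    (2, 6047, 1, 6047, 0),
    (9, 0, 0, 0, 0),
    (2, 23, 1, 263, 1),
    (0, 11, 2, 0, 0),
    (2, 3, 1, 2017, 1),
    (3, 89, 0, 0, 0),
    (2, 6053, 1, 6053, 0),
    (3, 1009, 0, 0, 0),
    (3, 173, 0, 0, 0),
    (2, 2, 3, 757, 1),
    (2, 3, 2, 673, 1),
    (3, 233, 0, 0, 0),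
    (2, 73, 1, 83, 1),
    (3, 101, 0, 0, 0),
    (3, 29, 0, 0, 0),
    (3, 433, 0, 0, 0),
    (3, 47, 0, 0, 0),
    (2, 2, 4, 379, 1),
    (2, 5, 1, 1213, 1),
    (3, 337, 0, 0, 0),
    (2, 6067, 1, 6067, 0),
    (3, 41, 0, 0, 0),
    (0, 17, 2, 0, 0),
    (3, 607, 0, 0, 0),
    (2, 13, 1, 467, 1),
    (3, 23, 0, 0, 0),
    (2, 6073, 1, 6073, 0),
    (2, 2, 1, 3037, 1),
    (2, 3, 5, 5, 2),
    (3, 31, 0, 0, 0),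
    (2, 59, 1, 103, 1),
    (3, 1013, 0, 0, 0),
    (2, 6079, 1, 6079, 0),
    (3, 19, 0, 0, 0),
    (2, 3, 1, 2027, 1),
    (2, 2, 1, 3041, 1),
    (3, 79, 0, 0, 0),
    (0, 13, 2, 0, 0),
    (2, 5, 1, 1217, 1),
    (3, 179, 0, 0, 0),
    (2, 3, 1, 2029, 1),
    (2, 2, 3, 761, 1),
    (2, 6089, 1, 6089, 0),
    (3, 29, 0, 0, 0),
    (2, 6091, 1, 6091, 0),
    (2, 2, 2, 1523, 1),
    (2, 3, 2, 677, 1),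
    (3, 277, 0, 0, 0),
    (3, 53, 0, 0, 0),
    (3, 127, 0, 0, 0),
    (3, 67, 0, 0, 0),
    (2, 2, 1, 3049, 1),
    (3, 107, 0, 0, 0),
    (3, 61, 0, 0, 0),
    (2, 6101, 1, 6101, 0),
    (3, 113, 0, 0, 0),
    (2, 17, 1, 359, 1),
    (3, 109, 0, 0, 0),
    (3, 37, 0, 0, 0),
    (3, 71, 0, 0, 0),
    (2, 31, 1, 197, 1),
    (3, 509, 0, 0, 0),
    (2, 41, 1, 149, 1),
    (3, 47, 0, 0, 0),
    (3, 97, 0, 0, 0),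
    (2, 2, 5, 191, 1),
    (2, 6113, 1, 6113, 0),
    (3, 1019, 0, 0, 0),
    (2, 5, 1, 1223, 1),
    (3, 139, 0, 0, 0),
    (2, 3, 1, 2039, 1),
    (3, 23, 0, 0, 0),
    (2, 29, 1, 211, 1),
    (4, 17, 0, 0, 0),
    (2, 6121, 1, 6121, 0),
    (2, 2, 1, 3061, 1),
    (3, 157, 0, 0, 0),
    (2, 2, 2, 1531, 1),
    (2, 5, 3, 7, 2),
    (3, 1021, 0, 0, 0),
    (2, 11, 1, 557, 1),
    (2, 2, 4, 383, 1),
    (2, 3, 3, 227, 1),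
    (3, 613, 0, 0, 0),
    (2, 6131, 1, 6131, 0),
    (3, 73, 0, 0, 0),
    (2, 6133, 1, 6133, 0),
    (2, 2, 1, 3067, 1),
    (3, 409, 0, 0, 0),
    (3, 59, 0, 0, 0),
    (2, 17, 1, 19, 2),
    (3, 31, 0, 0, 0),
    (2, 7, 1, 877, 1),
    (3, 307, 0, 0, 0)]

/-- Witnesses for orders from 6141. -/
def cert25 : List (ℕ × ℕ × ℕ × ℕ × ℕ) :=
  [(3, 89, 0, 0, 0),
    (3, 83, 0, 0, 0),
    (2, 6143, 1, 6143, 0),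
    (2, 2, 11, 3, 1),
    (2, 5, 1, 1229, 1),
    (3, 439, 0, 0, 0),
    (2, 3, 2, 683, 1),
    (3, 53, 0, 0, 0),
    (3, 43, 0, 0, 0),
    (3, 41, 0, 0, 0),
    (2, 6151, 1, 6151, 0),
    (2, 2, 3, 769, 1),
    (3, 293, 0, 0, 0),
    (3, 181, 0, 0, 0),
    (2, 5, 1, 1231, 1),
    (3, 19, 0, 0, 0),
    (2, 47, 1, 131, 1),
    (2, 2, 1, 3079, 1),
    (2, 3, 1, 2053, 1),
    (9, 0, 0, 0, 0),
    (2, 61, 1, 101, 1),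
    (3, 79, 0, 0, 0),
    (2, 6163, 1, 6163, 0),
    (3, 67, 0, 0, 0),
    (3, 137, 0, 0, 0),
    (2, 2, 1, 3083, 1),
    (2, 7, 1, 881, 1),
    (3, 257, 0, 0, 0),
    (2, 31, 1, 199, 1),
    (3, 617, 0, 0, 0),
    (0, 17, 1, 0, 0),
    (2, 2, 2, 1543, 1),
    (2, 6173, 1, 6173, 0),
    (0, 7, 3, 0, 0),
    (3, 19, 0, 0, 0),
    (2, 2, 5, 193, 1),
    (3, 71, 0, 0, 0),
    (2, 2, 1, 3089, 1),
    (2, 37, 1, 167, 1),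
    (3, 103, 0, 0, 0),
    (2, 7, 1, 883, 1),
    (3, 281, 0, 0, 0),
    (2, 3, 3, 229, 1),
    (2, 2, 3, 773, 1),
    (2, 5, 1, 1237, 1),
    (3, 1031, 0, 0, 0),
    (2, 23, 1, 269, 1),
    (0, 17, 1, 0, 0),
    (2, 3, 1, 2063, 1),
    (3, 619, 0, 0, 0),
    (2, 41, 1, 151, 1),
    (3, 43, 0, 0, 0),
    (2, 11, 1, 563, 1),
    (3, 163, 0, 0, 0),
    (3, 59, 0, 0, 0),
    (2, 2, 2, 1549, 1),
    (2, 6197, 1, 6197, 0),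
    (3, 1033, 0, 0, 0),
    (2, 6199, 1, 6199, 0),
    (3, 31, 0, 0, 0),
    (3, 53, 0, 0, 0),
    (3, 443, 0, 0, 0),
    (2, 6203, 1, 6203, 0),
    (3, 47, 0, 0, 0),
    (3, 73, 0, 0, 0),
    (3, 107, 0, 0, 0),
    (2, 3, 1, 2069, 1),
    (2, 2, 6, 97, 1),
    (2, 7, 1, 887, 1),
    (3, 23, 0, 0, 0),
    (2, 6211, 1, 6211, 0),
    (2, 2, 2, 1553, 1),
    (3, 109, 0, 0, 0),
    (3, 239, 0, 0, 0),
    (3, 113, 0, 0, 0),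
    (3, 37, 0, 0, 0),
    (2, 6217, 1, 6217, 0),
    (2, 2, 1, 3109, 1),
    (2, 3, 2, 691, 1),
    (3, 311, 0, 0, 0),
    (2, 6221, 1, 6221, 0),
    (3, 61, 0, 0, 0),
    (2, 7, 2, 127, 1),
    (2, 2, 4, 389, 1),
    (3, 83, 0, 0, 0),
    (3, 283, 0, 0, 0),
    (2, 13, 1, 479, 1),
    (3, 173, 0, 0, 0),
    (2, 6229, 1, 6229, 0),
    (3, 89, 0, 0, 0),
    (3, 67, 0, 0, 0),
    (3, 41, 0, 0, 0)]

end Cfsg.Agent.Ord6232
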