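import Cfsg.Agent.Lib.Small.OrderFilter
import Cfsg.Agent.Lib.Small.OrdersExcluded
import Cfsg.Agent.Lib.Small.Orders6232.Data

/-! The checks of the witnesses for the orders from 3641 to 6232. -/

set_option autoImplicit false
set_option maxRecDepth 20000

namespace Cfsg.Agent.Ord6232

/-- The orders treated one by one. -/
def rest : List ℕ :=
  [3696, 3744, 3780, 3840, 3960, 4032, 4160, 4200, 4212, 4320, 4356, 4400, 4480, 4500, 4536, 4620, 4680, 4725, 4732, 4800, 4900, 4928, 5040, 5148, 5200, 5236, 5292, 5376, 5400, 5460, 5600, 5616, 5760, 5808, 5880, 5940, 6000, 6048, 6160]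

/-- The numerical test for a prime divided once into the order. -/
def exclSucc (n p : ℕ) : Bool :=
  decide (n % p = 0) && decide ((n / p) % p ≠ 0) && decide (3 ≤ p) &&
    decide (∀ d ∈ ((n / p).divisors.filter (fun d => d % p = 1)).erase 1,
      Nat.gcd ((n / p) / d) (p - 1) = 1 ∨ (d = p + 1 ∧ (p * (p - 1)) % (2 * (n / (p + 1))) ≠ 0))

/-- Trial division, correct below `6400`. -/
def primeB (p : ℕ) : Bool :=
  decide (2 ≤ p) && decide (p < 6400) &&
    (List.range 80).all fun d => !(decide (2 ≤ d) && decide (d * d ≤ p) && decide (p % d = 0))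

theorem prime_of_primeB {p : ℕ} (h : primeB p = true) : p.Prime := by
  simp only [primeB, Bool.and_eq_true, decide_eq_true_eq, List.all_eq_true, List.mem_range] at h
  refine Nat.prime_def_le_sqrt.2 ⟨h.1.1, fun d hd2 hd hdvd => ?_⟩
  have hsq : d * d ≤ p := Nat.le_sqrt.1 hd
  have hd80 : d < 80 := by nlinarith [h.1.2]
  have := h.2 d hd80
  simp [hd2, hsq, Nat.mod_eq_zero_of_dvd hdvd] at this

/-- The check of one witness. -/
def check (n : ℕ) (w : ℕ × ℕ × ℕ × ℕ × ℕ) : Bool :=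
  match w.1 with
  | 0 => primeB w.2.1 && Small.excl n w.2.1 w.2.2.1
  | 1 => primeB w.2.1 && OrdersExcl.succOK n w.2.1
  | 2 => primeB w.2.1 && primeB w.2.2.2.1 &&
      decide (n = w.2.1 ^ w.2.2.1 * w.2.2.2.1 ^ w.2.2.2.2)
  | 3 => primeB w.2.1 && decide (n % w.2.1 = 0) && decide (n < w.2.1 ^ 3)
  | 4 => primeB w.2.1 && exclSucc n w.2.1
  | _ => decide (n ∈ rest)

theorem cert0_ok : ∀ i < 100, check (3641 + i) (cert0.getD i (0, 0, 0, 0, 0)) = true := by
  decide +kernel

theorem cert1_ok : ∀ i < 100, check (3741 + i) (cert1.getD i (0, 0, 0, 0, 0)) = true := by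
  decide +kernel

theorem cert2_ok : ∀ i < 100, check (3841 + i) (cert2.getD i (0, 0, 0, 0, 0)) = true := by
  decide +kernel

theorem cert3_ok : ∀ i < 100, check (3941 + i) (cert3.getD i (0, 0, 0, 0, 0)) = true := by
  decide +kernel

theorem cert4_ok : ∀ i < 100, check (4041 + i) (cert4.getD i (0, 0, 0, 0, 0)) = true := by
  decide +kernel

theorem cert5_ok : ∀ i < 100, check (4141 + i) (cert5.getD i (0, 0, 0, 0, 0)) = true := by
  decide +kernel

theorem cert6_ok : ∀ i < 100, check (4241 + i) (cert6.getD i (0, 0, 0, 0, 0)) = true := by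
  decide +kernel

theorem cert7_ok : ∀ i < 100, check (4341 + i) (cert7.getD i (0, 0, 0, 0, 0)) = true := by
  decide +kernel

theorem cert8_ok : ∀ i < 100, check (4441 + i) (cert8.getD i (0, 0, 0, 0, 0)) = true := by
  decide +kernel

theorem cert9_ok : ∀ i < 100, check (4541 + i) (cert9.getD i (0, 0, 0, 0, 0)) = true := by
  decide +kernel

theorem cert10_ok : ∀ i < 100, check (4641 + i) (cert10.getD i (0, 0, 0, 0, 0)) = true := by
  decide +kernel

theorem cert11_ok : ∀ i < 100, check (4741 + i) (cert11.getD i (0, 0, 0, 0, 0)) = true := by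
  decide +kernel

theorem cert12_ok : ∀ i < 100, check (4841 + i) (cert12.getD i (0, 0, 0, 0, 0)) = true := by
  decide +kernel

theorem cert13_ok : ∀ i < 100, check (4941 + i) (cert13.getD i (0, 0, 0, 0, 0)) = true := by
  decide +kernel

theorem cert14_ok : ∀ i < 100, check (5041 + i) (cert14.getD i (0, 0, 0, 0, 0)) = true := by
  decide +kernel

theorem cert15_ok : ∀ i < 100, check (5141 + i) (cert15.getD i (0, 0, 0, 0, 0)) = true := by
  decide +kernel

theorem cert16_ok : ∀ i < 100, check (5241 + i) (cert16.getD i (0, 0, 0, 0, 0)) = true := by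
  decide +kernel

theorem cert17_ok : ∀ i < 100, check (5341 + i) (cert17.getD i (0, 0, 0, 0, 0)) = true := by
  decide +kernel

theorem cert18_ok : ∀ i < 100, check (5441 + i) (cert18.getD i (0, 0, 0, 0, 0)) = true := by
  decide +kernel

theorem cert19_ok : ∀ i < 100, check (5541 + i) (cert19.getD i (0, 0, 0, 0, 0)) = true := by
  decide +kernel

theorem cert20_ok : ∀ i < 100, check (5641 + i) (cert20.getD i (0, 0, 0, 0, 0)) = true := by
  decide +kernel

theorem cert21_ok : ∀ i < 100, check (5741 + i) (cert21.getD i (0, 0, 0, 0, 0)) = true := by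
  decide +kernel

theorem cert22_ok : ∀ i < 100, check (5841 + i) (cert22.getD i (0, 0, 0, 0, 0)) = true := by
  decide +kernel

theorem cert23_ok : ∀ i < 100, check (5941 + i) (cert23.getD i (0, 0, 0, 0, 0)) = true := by
  decide +kernel

theorem cert24_ok : ∀ i < 100, check (6041 + i) (cert24.getD i (0, 0, 0, 0, 0)) = true := by
  decide +kernel

theorem cert25_ok : ∀ i < 92, check (6141 + i) (cert25.getD i (0, 0, 0, 0, 0)) = true := by
  decide +kernel

theorem exists_witness {n : ℕ} (h1 : 3640 < n) (h2 : n ≤ 6232) : ∃ w, check n w = true := by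
  by_cases c0 : n < 3741
  · exact ⟨_, (Nat.add_sub_cancel' (show 3641 ≤ n by omega)) ▸ cert0_ok (n - 3641) (by omega)⟩
  by_cases c1 : n < 3841
  · exact ⟨_, (Nat.add_sub_cancel' (show 3741 ≤ n by omega)) ▸ cert1_ok (n - 3741) (by omega)⟩
  by_cases c2 : n < 3941
  · exact ⟨_, (Nat.add_sub_cancel' (show 3841 ≤ n by omega)) ▸ cert2_ok (n - 3841) (by omega)⟩
  by_cases c3 : n < 4041
  · exact ⟨_, (Nat.add_sub_cancel' (show 3941 ≤ n by omega)) ▸ cert3_ok (n - 3941) (by omega)⟩
  by_cases c4 : n < 4141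
  · exact ⟨_, (Nat.add_sub_cancel' (show 4041 ≤ n by omega)) ▸ cert4_ok (n - 4041) (by omega)⟩
  by_cases c5 : n < 4241
  · exact ⟨_, (Nat.add_sub_cancel' (show 4141 ≤ n by omega)) ▸ cert5_ok (n - 4141) (by omega)⟩
  by_cases c6 : n < 4341
  · exact ⟨_, (Nat.add_sub_cancel' (show 4241 ≤ n by omega)) ▸ cert6_ok (n - 4241) (by omega)⟩
  by_cases c7 : n < 4441
  · exact ⟨_, (Nat.add_sub_cancel' (show 4341 ≤ n by omega)) ▸ cert7_ok (n - 4341) (by omega)⟩
  by_cases c8 : n < 4541
  · exact ⟨_, (Nat.add_sub_cancel' (show 4441 ≤ n by omega)) ▸ cert8_ok (n - 4441) (by omega)⟩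
  by_cases c9 : n < 4641
  · exact ⟨_, (Nat.add_sub_cancel' (show 4541 ≤ n by omega)) ▸ cert9_ok (n - 4541) (by omega)⟩
  by_cases c10 : n < 4741
  · exact ⟨_, (Nat.add_sub_cancel' (show 4641 ≤ n by omega)) ▸ cert10_ok (n - 4641) (by omega)⟩
  by_cases c11 : n < 4841
  · exact ⟨_, (Nat.add_sub_cancel' (show 4741 ≤ n by omega)) ▸ cert11_ok (n - 4741) (by omega)⟩
  by_cases c12 : n < 4941
  · exact ⟨_, (Nat.add_sub_cancel' (show 4841 ≤ n by omega)) ▸ cert12_ok (n - 4841) (by omega)⟩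
  by_cases c13 : n < 5041
  · exact ⟨_, (Nat.add_sub_cancel' (show 4941 ≤ n by omega)) ▸ cert13_ok (n - 4941) (by omega)⟩
  by_cases c14 : n < 5141
  · exact ⟨_, (Nat.add_sub_cancel' (show 5041 ≤ n by omega)) ▸ cert14_ok (n - 5041) (by omega)⟩
  by_cases c15 : n < 5241
  · exact ⟨_, (Nat.add_sub_cancel' (show 5141 ≤ n by omega)) ▸ cert15_ok (n - 5141) (by omega)⟩
  by_cases c16 : n < 5341
  · exact ⟨_, (Nat.add_sub_cancel' (show 5241 ≤ n by omega)) ▸ cert16_ok (n - 5241) (by omega)⟩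
  by_cases c17 : n < 5441
  · exact ⟨_, (Nat.add_sub_cancel' (show 5341 ≤ n by omega)) ▸ cert17_ok (n - 5341) (by omega)⟩
  by_cases c18 : n < 5541
  · exact ⟨_, (Nat.add_sub_cancel' (show 5441 ≤ n by omega)) ▸ cert18_ok (n - 5441) (by omega)⟩
  by_cases c19 : n < 5641
  · exact ⟨_, (Nat.add_sub_cancel' (show 5541 ≤ n by omega)) ▸ cert19_ok (n - 5541) (by omega)⟩
  by_cases c20 : n < 5741
  · exact ⟨_, (Nat.add_sub_cancel' (show 5641 ≤ n by omega)) ▸ cert20_ok (n - 5641) (by omega)⟩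
  by_cases c21 : n < 5841
  · exact ⟨_, (Nat.add_sub_cancel' (show 5741 ≤ n by omega)) ▸ cert21_ok (n - 5741) (by omega)⟩
  by_cases c22 : n < 5941
  · exact ⟨_, (Nat.add_sub_cancel' (show 5841 ≤ n by omega)) ▸ cert22_ok (n - 5841) (by omega)⟩
  by_cases c23 : n < 6041
  · exact ⟨_, (Nat.add_sub_cancel' (show 5941 ≤ n by omega)) ▸ cert23_ok (n - 5941) (by omega)⟩
  by_cases c24 : n < 6141
  · exact ⟨_, (Nat.add_sub_cancel' (show 6041 ≤ n by omega)) ▸ cert24_ok (n - 6041) (by omega)⟩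
  by_cases c25 : n < 6233
  · exact ⟨_, (Nat.add_sub_cancel' (show 6141 ≤ n by omega)) ▸ cert25_ok (n - 6141) (by omega)⟩
  omega

end Cfsg.Agent.Ord6232
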