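import Cfsg.Agent.Lib.Small.OrderTools
import Cfsg.Agent.Lib.Small.CommFixed
import Cfsg.Agent.Lib.Small.Burnside
import Cfsg.Agent.Lib.BrauerSuzuki.ZStar
import Cfsg.Agent.Lib.Char.Burnside
import Cfsg.Agent.S0992
import Mathlib.GroupTheory.Transfer

/-!
Tools for excluding orders of simple groups up to 6232.
-/

set_option autoImplicit false
set_option linter.unusedSectionVars false
set_option linter.style.haveILetI false

open Cfsg.Agent.CommFix

namespace Cfsg.Agent.Ord6232

variable {G : Type*} [Group G] [Finite G] {p : ℕ} [hp : Fact p.Prime]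

/-- No class of prime power size. -/
theorem false_of_index_prime_pow [IsSimpleGroup G] (hnp : ¬ (Nat.card G).Prime) {q a : ℕ}
    (hq : q.Prime) {x : G} (hx : x ≠ 1)
    (h : (Subgroup.centralizer ({x} : Set G)).index ∣ q ^ a) : False := by
  obtain ⟨k, -, hk⟩ := (Nat.dvd_prime_pow hq).1 h
  exact hnp (Char.prime_card_of_class_prime_pow hq x hx hk)

/-- No nonidentity element of an abelian Sylow subgroup is central in its normalizer. -/
theorem focal_eq_one [IsSimpleGroup G] (hG : ¬ IsMulCommutative G) (P : Sylow p G)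
    (hab : ∀ a ∈ (P : Subgroup G), ∀ b ∈ (P : Subgroup G), a * b = b * a) {u : G}
    (hu : u ∈ (P : Subgroup G))
    (hc : ∀ n ∈ Subgroup.normalizer ((P : Subgroup G) : Set G), n * u = u * n) : u = 1 := by
  haveI : IsMulCommutative (P : Subgroup G) :=
    ⟨⟨fun a b => Subtype.ext (hab a a.2 b b.2)⟩⟩
  haveI : IsMulCommutative (P : Sylow p G) := ‹IsMulCommutative (P : Subgroup G)›
  letI : CommGroup (P : Subgroup G) :=
    { (inferInstance : Group (P : Subgroup G)) with
      mul_comm := fun a b => Subtype.ext (hab a a.2 b b.2) }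
  have key : ∀ (k : ℕ) (g₀ : G), g₀⁻¹ * u ^ k * g₀ ∈ (P : Subgroup G) →
      g₀⁻¹ * u ^ k * g₀ = u ^ k := fun k g₀ hk => by
    obtain ⟨n, hn, h⟩ := P.conj_eq_normalizer_conj_of_mem (u ^ k) g₀ (pow_mem hu k) hk
    exact h.trans (Commute.inv_mul_cancel ((show Commute n u from hc n hn).pow_right k))
  have he := MonoidHom.transfer_eq_pow (MonoidHom.id (P : Subgroup G)) u key
  rw [Small.hom_comm_eq_one hG, MonoidHom.id_apply] at he
  have hpow : u ^ (P : Subgroup G).index = 1 := (congrArg Subtype.val he).symm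
  have h1 : orderOf u ∣ (P : Subgroup G).index := orderOf_dvd_of_pow_eq_one hpow
  obtain ⟨k, hk⟩ := P.isPGroup' ⟨u, hu⟩
  have h2 : orderOf u ∣ p ^ k :=
    orderOf_dvd_of_pow_eq_one (by simpa using congrArg Subtype.val hk)
  rw [← orderOf_eq_one_iff]
  exact Nat.eq_one_of_dvd_one (Nat.Coprime.gcd_eq_one
    ((hp.out.coprime_iff_not_dvd.2 P.not_dvd_index).pow_left k) ▸ Nat.dvd_gcd h2 h1)

/-- For `z` centralizing the `q`-group `Q`, `fix z` is congruent to the number of common fixed points. -/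
theorem fix_common_group {q : ℕ} [Fact q.Prime] (H Q : Subgroup G) (hQ : IsPGroup q Q) {z : G}
    (hz : ∀ v ∈ Q, z * v = v * z) :
    fix H z % q = Nat.card {c : G ⧸ H // z • c = c ∧ ∀ v ∈ Q, v • c = c} % q := by
  letI act : MulAction Q (MulAction.fixedBy (G ⧸ H) z) :=
    { smul := fun w c => ⟨(w : G) • c.1, by
        rw [MulAction.mem_fixedBy, ← mul_smul, hz _ w.2, mul_smul, MulAction.mem_fixedBy.1 c.2]⟩
      one_smul := fun c => Subtype.ext (one_smul G c.1)
      mul_smul := fun a b c => Subtype.ext (mul_smul (a : G) b c.1) }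
  have h := hQ.card_modEq_card_fixedPoints (MulAction.fixedBy (G ⧸ H) z)
  rw [fix]
  refine Eq.trans h ?_
  congr 1
  exact Nat.card_congr
    { toFun := fun c => ⟨c.1.1, MulAction.mem_fixedBy.1 c.1.2,
        fun v hv => congrArg Subtype.val (c.2 ⟨v, hv⟩)⟩
      invFun := fun c => ⟨⟨c.1, MulAction.mem_fixedBy.2 c.2.1⟩,
        fun w => Subtype.ext (c.2.2 w w.2)⟩
      left_inv := fun c => rfl
      right_inv := fun c => rfl }

/-- An element fixing one coset only fuses in `H` by elements of `H`. -/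
theorem mem_of_fix_one {H : Subgroup G} {z g : G} (hz : z ∈ H) (h1 : fix H z = 1)
    (hg : g * z * g⁻¹ ∈ H) : g ∈ H := by
  have e1 := CommFix.one_mem_fix hg
  have e2 : (g * z * g⁻¹) • ((g : G) : G ⧸ H) = ((g : G) : G ⧸ H) := by
    rw [show ((g : G) : G ⧸ H) = g • ((1 : G) : G ⧸ H) by
        rw [MulAction.Quotient.smul_mk, smul_eq_mul, mul_one],
      ← mul_smul, inv_mul_cancel_right, mul_smul, CommFix.one_mem_fix hz]
  have hf : fix H (g * z * g⁻¹) = 1 :=
    (fix_conj H (isConj_iff.2 ⟨g, rfl⟩)).symm.trans h1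
  haveI := (Nat.card_eq_one_iff_unique.1 hf).1
  have h := congrArg Subtype.val (Subsingleton.elim
    (⟨_, MulAction.mem_fixedBy.2 e1⟩ : MulAction.fixedBy (G ⧸ H) (g * z * g⁻¹)) ⟨_, MulAction.mem_fixedBy.2 e2⟩)
  rw [QuotientGroup.eq] at h
  simpa using h

/-- In a simple group of order divisible by `4` but not `8`, all involutions are conjugate. -/
theorem invol_isConj [IsSimpleGroup G] (hG : ¬ IsMulCommutative G) (h2 : Even (Nat.card G))
    (h8 : ¬ 8 ∣ Nat.card G) {a b : G} (ha : orderOf a = 2) (hb : orderOf b = 2) : IsConj a b := by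
  classical
  haveI : Fact (Nat.Prime 2) := ⟨Nat.prime_two⟩
  obtain ⟨T⟩ : Nonempty (Sylow 2 G) := inferInstance
  obtain ⟨hK, hrel⟩ := S0992.result hG h2 h8 T
  haveI := hK
  set N := Subgroup.normalizer ((T : Subgroup G) : Set G) with hN
  have h4 : Nat.card {x : (T : Subgroup G) // x ≠ 1} = 3 := by
    letI := Fintype.ofFinite (T : Subgroup G)
    rw [Nat.card_eq_fintype_card, Fintype.card_subtype_compl, Fintype.card_subtype_eq,
      ← Nat.card_eq_fintype_card, hK.card_four]
  have hab : ∀ x ∈ (T : Subgroup G), ∀ y ∈ (T : Subgroup G), x * y = y * x := fun x hx y hy =>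
    congrArg Subtype.val ((IsKleinFour.isMulCommutative (G := (T : Subgroup G))).is_comm.comm ⟨x, hx⟩ ⟨y, hy⟩)
  have hfuse : ∀ s t : G, s ∈ (T : Subgroup G) → t ∈ (T : Subgroup G) → s ≠ 1 → t ≠ 1 → IsConj s t := by
    intro s t hs ht hs1 ht1
    set S := Subgroup.centralizer ({s} : Set G) with hS
    have hd : S.relIndex N ∣ 3 := hrel ▸ Subgroup.relIndex_dvd_of_le_left N (fun v hv =>
      Subgroup.mem_centralizer_singleton_iff.2 (Subgroup.mem_centralizer_iff.1 hv s hs).symm)
    rcases (Nat.dvd_prime (by norm_num : Nat.Prime 3)).1 hd with h | h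
    · exact absurd (focal_eq_one hG T hab hs fun n hn =>
        Subgroup.mem_centralizer_singleton_iff.1 (Subgroup.relIndex_eq_one.1 h hn)) hs1
    · let f : N ⧸ S.subgroupOf N → {x : (T : Subgroup G) // x ≠ 1} := fun q =>
        ⟨⟨(q.out : G) * s * (q.out : G)⁻¹, (Subgroup.mem_normalizer_iff.1 q.out.2 s).1 hs⟩,
          fun e => hs1 (conj_eq_one_iff.1 (congrArg Subtype.val e))⟩
      have hinj : Function.Injective f := by
        intro q q' he
        have he' : (q.out : G) * s * (q.out : G)⁻¹ = (q'.out : G) * s * (q'.out : G)⁻¹ :=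
          congrArg (fun w : {x : (T : Subgroup G) // x ≠ 1} => (w.1 : G)) he
        rw [← QuotientGroup.out_eq' q, ← QuotientGroup.out_eq' q', QuotientGroup.eq,
          Subgroup.mem_subgroupOf]
        refine Subgroup.mem_centralizer_singleton_iff.2 ?_
        calc ((q.out⁻¹ * q'.out : N) : G) * s
            = (q.out : G)⁻¹ * ((q'.out : G) * s * (q'.out : G)⁻¹) * (q'.out : G) := by
              push_cast; group
          _ = (q.out : G)⁻¹ * ((q.out : G) * s * (q.out : G)⁻¹) * (q'.out : G) := by rw [he']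
          _ = s * ((q.out⁻¹ * q'.out : N) : G) := by push_cast; group
      have hbij := hinj.bijective_of_nat_card_le (by rw [h4]; exact h.ge)
      obtain ⟨q, hq⟩ := hbij.2 ⟨⟨t, ht⟩, fun e => ht1 (congrArg Subtype.val e)⟩
      exact isConj_iff.2 ⟨(q.out : G), congrArg (fun w : {x : (T : Subgroup G) // x ≠ 1} => (w.1 : G)) hq⟩
  have hTto : ∀ x : G, orderOf x = 2 → ∃ s ∈ (T : Subgroup G), s ≠ 1 ∧ IsConj x s := by
    intro x hx
    have hpg : IsPGroup 2 (Subgroup.zpowers x) :=
      IsPGroup.of_card (n := 1) (by rw [Nat.card_zpowers, hx, pow_one])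
    obtain ⟨T', hT'⟩ := hpg.exists_le_sylow
    obtain ⟨g, hg⟩ := MulAction.exists_smul_eq G T' T
    refine ⟨g * x * g⁻¹, ?_, fun e => ?_, isConj_iff.2 ⟨g, rfl⟩⟩
    · rw [← hg, Sylow.coe_subgroup_smul]
      exact ⟨x, hT' (Subgroup.mem_zpowers x), rfl⟩
    · rw [conj_eq_one_iff.1 e, orderOf_one] at hx; omega
  obtain ⟨s, hs, hs1, hsc⟩ := hTto a ha
  obtain ⟨t, ht, ht1, htc⟩ := hTto b hb
  exact hsc.trans ((hfuse s t hs ht hs1 ht1).trans htc.symm)

/-- If `p` divides `|C(R)|` for `R` of prime order `r`, then `r` divides `|C(P)|`. -/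
theorem centralizer_mutual {r : ℕ} [Fact r.Prime] (P : Sylow p G) (hP : Nat.card (P : Subgroup G) = p)
    (R : Subgroup G) (hR : Nat.card R = r) (h : p ∣ Nat.card (Subgroup.centralizer (R : Set G))) :
    r ∣ Nat.card (Subgroup.centralizer ((P : Subgroup G) : Set G)) := by
  obtain ⟨y, hy⟩ := exists_prime_orderOf_dvd_card' p h
  have hyo : orderOf (y : G) = p := by rw [Subgroup.orderOf_coe, hy]
  have hc : Nat.card (Subgroup.zpowers (y : G)) = p ^ (Nat.card G).factorization p := by
    rw [Nat.card_zpowers, hyo, ← P.card_eq_multiplicity, hP]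
  obtain ⟨g, hg⟩ := MulAction.exists_smul_eq G (Sylow.ofCard _ hc) P
  have hle : R.map (MulAut.conj g).toMonoidHom ≤ Subgroup.centralizer ((P : Subgroup G) : Set G) := by
    rintro _ ⟨w, hw, rfl⟩
    rw [Subgroup.mem_centralizer_iff]
    intro v hv
    rw [← hg, Sylow.coe_subgroup_smul] at hv
    obtain ⟨u, hu, rfl⟩ := hv
    have hu' : u ∈ Subgroup.centralizer (R : Set G) := (Subgroup.zpowers_le.2 y.2) hu
    have := Subgroup.mem_centralizer_iff.1 hu' w hw
    simp only [MulEquiv.coe_toMonoidHom, MulAut.conj_apply, MulDistribMulAction.toMonoidEnd_apply,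
      MulDistribMulAction.toMonoidHom_apply, MulAut.smul_def]
    rw [show g * u * g⁻¹ * (g * w * g⁻¹) = g * (u * w) * g⁻¹ by group,
      show g * w * g⁻¹ * (g * u * g⁻¹) = g * (w * u) * g⁻¹ by group, this]
  have hd := Subgroup.card_dvd_of_le hle
  rwa [Subgroup.card_map_of_injective (MulAut.conj g).injective, hR] at hd

/-- If `p` divides `|N(R)|` and is prime to `r - 1`, then `r` divides `|C(P)|`. -/
theorem normalizer_mutual {r : ℕ} [Fact r.Prime] (P : Sylow p G) (hP : Nat.card (P : Subgroup G) = p)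
    (R : Subgroup G) (hR : Nat.card R = r) (hr : ¬ p ∣ r - 1)
    (h : p ∣ Nat.card (Subgroup.normalizer (R : Set G))) :
    r ∣ Nat.card (Subgroup.centralizer ((P : Subgroup G) : Set G)) :=
  centralizer_mutual P hP R hR
    ((hp.out.dvd_mul.1 (h.trans (Small.card_normalizer_dvd R hR))).resolve_right hr)

/-- The Sylow number of an overgroup of `P`. -/
theorem overgroup (P : Sylow p G) {M : Subgroup G} (hPM : (P : Subgroup G) ≤ M) :
    ∃ d : ℕ, d ∈ (Nat.card M).divisors.filter (fun d => d % p = 1) ∧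
      Nat.card M / d ∣ Nat.card (Subgroup.normalizer ((P : Subgroup G) : Set G)) ∧
      ∀ K : Subgroup G, K ≤ M → K ≤ Subgroup.normalizer ((P : Subgroup G) : Set G) →
        Nat.card K ∣ Nat.card M / d := by
  have h := CommFix.card_overgroup P hPM
  have he : Nat.card M / Nat.card (Sylow p M) =
      Nat.card (M ⊓ Subgroup.normalizer ((P : Subgroup G) : Set G) : Subgroup G) := by
    rw [h, Nat.mul_div_cancel_left _ Nat.card_pos]
  refine ⟨Nat.card (Sylow p M), Finset.mem_filter.2 ⟨Nat.mem_divisors.2 ⟨⟨_, h⟩, Nat.card_pos.ne'⟩, ?_⟩,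
    he ▸ Subgroup.card_dvd_of_le inf_le_right, fun K h1 h2 => he ▸ Subgroup.card_dvd_of_le (le_inf h1 h2)⟩
  rw [card_sylow_modEq_one p M]
  exact Nat.one_mod_eq_one.2 hp.out.ne_one

/-- An isolated involution does not exist in a nonabelian simple group. -/
theorem not_isolated [IsSimpleGroup G] (hG : ¬ IsMulCommutative G) {z : G} (hz : orderOf z = 2)
    (h : Cfsg.IsIsolated z) : False := by
  have hZ := Cfsg.Agent.BrauerSuzuki.zStar G z hz h
  have hn : (Cfsg.pPrimeCore 2 G).Normal := Cfsg.Agent.FittingCores.pPrimeCore_normal 2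
  rcases hn.eq_bot_or_eq_top with e | e
  · have hcen : z ∈ Subgroup.center G := Subgroup.mem_center_iff.2 fun g => by
      have h1 := hZ g
      rw [e, Subgroup.mem_bot] at h1
      exact mul_inv_eq_iff_eq_mul.1 (mul_inv_eq_one.1 h1)
    rcases (inferInstance : (Subgroup.center G).Normal).eq_bot_or_eq_top with hc | hc
    · rw [hc, Subgroup.mem_bot] at hcen
      rw [hcen, orderOf_one] at hz; omega
    · exact hG ⟨⟨fun a b => Subgroup.mem_center_iff.1 (hc ▸ Subgroup.mem_top b) a⟩⟩
  · have hcop := Cfsg.Agent.FittingCores.pPrimeCore_coprime (G := G) 2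
    rw [e, Subgroup.card_top] at hcop
    have : 2 ∣ Nat.card G := hz ▸ orderOf_dvd_natCard z
    exact Nat.prime_two.coprime_iff_not_dvd.1 hcop.symm this

/-- The fixed points of an element of prime order centralizing `P` on the cosets of `N(P)`. -/
theorem fix_facts [IsSimpleGroup G] (hG : ¬ IsMulCommutative G) (P : Sylow p G)
    (hP : Nat.card (P : Subgroup G) = p)
    (hne : Subgroup.normalizer ((P : Subgroup G) : Set G) ≠ ⊤) {r : ℕ} (hr : r.Prime)
    (h : r ∣ Nat.card (Subgroup.centralizer ((P : Subgroup G) : Set G))) :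
    ∃ y : G, y ∈ Subgroup.centralizer ((P : Subgroup G) : Set G) ∧ orderOf y = r ∧
      fix (Subgroup.normalizer ((P : Subgroup G) : Set G)) y % p = 1 ∧
      fix (Subgroup.normalizer ((P : Subgroup G) : Set G)) y < Nat.card (Sylow p G) ∧
      Nat.card (Sylow p G) % r = fix (Subgroup.normalizer ((P : Subgroup G) : Set G)) y % r ∧
      (r = 2 → 4 ∣ Nat.card (Sylow p G) - fix (Subgroup.normalizer ((P : Subgroup G) : Set G)) y) := by
  haveI : Fact r.Prime := ⟨hr⟩
  obtain ⟨y, hy⟩ := exists_prime_orderOf_dvd_card' r h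
  have hyo : orderOf (y : G) = r := by rw [Subgroup.orderOf_coe, hy]
  have hy1 : (y : G) ≠ 1 := fun e => by rw [e, orderOf_one] at hyo; exact hr.ne_one hyo.symm
  have hidx := Small.card_eq_index P
  refine ⟨y, y.2, hyo, fix_mod P hP y.2, hidx ▸ fix_lt hne hy1, hidx ▸ modEq_prime hr _ hyo, fun e => ?_⟩
  exact hidx ▸ four_dvd hG hne (hyo.trans e)

/-- An element centralizing `P` on cosets without fixed points of `P`: the fixed number is a
multiple of `p`. -/
theorem fix_dvd_of_not_dvd (H : Subgroup G) (hpH : ¬ p ∣ Nat.card H) {v z : G} (hv : orderOf v = p)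
    (hc : Commute z v) : fix H z % p = 0 := by
  rw [fix_common hp.out H hv hc]
  suffices Nat.card {q : G ⧸ H // z • q = q ∧ v • q = q} = 0 by rw [this, Nat.zero_mod]
  rw [Nat.card_eq_zero]
  refine Or.inl ⟨fun ⟨q, _, hq⟩ => hpH ?_⟩
  induction q using QuotientGroup.induction_on with
  | H g =>
    rw [MulAction.Quotient.smul_mk, QuotientGroup.eq, smul_eq_mul] at hq
    have hm : g⁻¹ * v * g ∈ H := by
      have := inv_mem hq
      simpa [mul_assoc] using this
    have := Subgroup.orderOf_dvd_natCard H hm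
    rwa [show g⁻¹ * v * g = g⁻¹ * v * g⁻¹⁻¹ by rw [inv_inv], Invol.order_conj, hv] at this

/-- An overgroup of `P` without room for a second Sylow subgroup lies in `N(P)`. -/
theorem le_normalizer_of_divisors (P : Sylow p G) {M : Subgroup G} (hPM : (P : Subgroup G) ≤ M)
    (h : (Nat.card M).divisors.filter (fun d => d % p = 1) ⊆ {1}) :
    M ≤ Subgroup.normalizer ((P : Subgroup G) : Set G) := by
  have he := CommFix.card_overgroup P hPM
  have hd : Nat.card (Sylow p M) ∈ (Nat.card M).divisors.filter (fun d => d % p = 1) := by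
    rw [Finset.mem_filter, Nat.mem_divisors]
    refine ⟨⟨⟨_, he⟩, Nat.card_pos.ne'⟩, ?_⟩
    rw [card_sylow_modEq_one p M]
    exact Nat.one_mod_eq_one.2 hp.out.ne_one
  rw [Finset.mem_singleton.1 (h hd), one_mul] at he
  exact inf_eq_left.1 (Subgroup.eq_of_le_of_card_ge inf_le_left he.le)

/-- Conjugates in `N(P)` of an element of prime order `r ≠ p`: at most `|N(P)| - p` of them, and when
they centralize `P` at most `|C(P)| / p - 1`. -/
theorem conj_count (P : Sylow p G) (hP : Nat.card (P : Subgroup G) = p) {r : ℕ} (hr : r.Prime)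
    (hrp : r ≠ p) {z : G} (hzo : orderOf z = r) :
    Nat.card {g : G // IsConj z g ∧ g ∈ Subgroup.normalizer ((P : Subgroup G) : Set G)} + p ≤
        Nat.card (Subgroup.normalizer ((P : Subgroup G) : Set G)) ∧
      ((∀ g, IsConj z g → g ∈ Subgroup.normalizer ((P : Subgroup G) : Set G) →
          g ∈ Subgroup.centralizer ((P : Subgroup G) : Set G)) →
        Nat.card {g : G // IsConj z g ∧ g ∈ Subgroup.normalizer ((P : Subgroup G) : Set G)} * p + p ≤
          Nat.card (Subgroup.centralizer ((P : Subgroup G) : Set G))) := by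
  classical
  set N := Subgroup.normalizer ((P : Subgroup G) : Set G) with hN
  have hword : ∀ w : {g : G // IsConj z g ∧ g ∈ N}, orderOf (w : G) = r := fun w => by
    obtain ⟨g, hg⟩ := isConj_iff.1 w.2.1
    rw [← hg, Invol.order_conj, hzo]
  have hpc : ∀ (w : G), orderOf w = r → w ∈ (P : Subgroup G) → False := fun w hw hwP => by
    have h3 := Subgroup.orderOf_dvd_natCard (P : Subgroup G) hwP
    rw [hP, hw, Nat.prime_dvd_prime_iff_eq hr hp.out] at h3
    exact hrp h3
  refine ⟨?_, fun hall => ?_⟩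
  · have hle := Nat.card_le_card_of_injective
      (fun s : {g : G // IsConj z g ∧ g ∈ N} ⊕ (P : Subgroup G) =>
        (match s with
          | Sum.inl w => ⟨(w : G), w.2.2⟩
          | Sum.inr v => ⟨(v : G), Subgroup.le_normalizer v.2⟩ : N)) ?_
    · rw [Nat.card_sum, hP] at hle
      exact hle
    rintro (a | a) (b | b) hab <;> have hab' := congrArg Subtype.val hab <;> simp only at hab'
    · exact congrArg Sum.inl (Subtype.ext hab')
    · exact (hpc _ (hword a) (by rw [hab']; exact b.2)).elim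
    · exact (hpc _ (hword b) (by rw [← hab']; exact a.2)).elim
    · exact congrArg Sum.inr (Subtype.ext hab')
  have hle := Nat.card_le_card_of_injective
    (fun s : Option {g : G // IsConj z g ∧ g ∈ N} × (P : Subgroup G) =>
      (match s.1 with
        | none => ⟨(s.2 : G), Small.le_centralizer_self _ hP s.2.2⟩
        | some w => ⟨(w : G) * (s.2 : G), mul_mem (hall _ w.2.1 w.2.2)
            (Small.le_centralizer_self _ hP s.2.2)⟩ :
        Subgroup.centralizer ((P : Subgroup G) : Set G))) ?_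
  · rw [Nat.card_prod, Finite.card_option, hP] at hle
    linarith
  rintro ⟨a, v⟩ ⟨b, v'⟩ hab
  have hab' := congrArg Subtype.val hab
  rcases a with _ | a <;> rcases b with _ | b <;> simp only at hab'
  · exact Prod.ext rfl (Subtype.ext hab')
  · refine (hpc _ (hword b) ?_).elim
    rw [show (b : G) = (v : G) * (v' : G)⁻¹ by rw [hab', mul_inv_cancel_right]]
    exact mul_mem v.2 (inv_mem v'.2)
  · refine (hpc _ (hword a) ?_).elim
    rw [show (a : G) = (v' : G) * (v : G)⁻¹ by rw [← hab', mul_inv_cancel_right]]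
    exact mul_mem v'.2 (inv_mem v.2)
  · have hk : (b : G) = (a : G) * ((v : G) * (v' : G)⁻¹) := by
      rw [← mul_assoc, hab', mul_inv_cancel_right]
    have hkP : (v : G) * (v' : G)⁻¹ ∈ (P : Subgroup G) := mul_mem v.2 (inv_mem v'.2)
    have hcomm : Commute (a : G) ((v : G) * (v' : G)⁻¹) :=
      (Subgroup.mem_centralizer_iff.1 (hall _ a.2.1 a.2.2) _ hkP).symm
    have hk2 : ((v : G) * (v' : G)⁻¹) ^ r = 1 := by
      have := hcomm.mul_pow r
      rw [← hk, show (b : G) ^ r = 1 by rw [← hword b]; exact pow_orderOf_eq_one _,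
        show (a : G) ^ r = 1 by rw [← hword a]; exact pow_orderOf_eq_one _, one_mul] at this
      exact this.symm
    have hv1 : (v : G) * (v' : G)⁻¹ = 1 := by
      by_contra hne
      haveI := Fact.mk hr
      exact hpc _ (orderOf_eq_prime hk2 hne) hkP
    obtain rfl : v = v' := Subtype.ext (mul_inv_eq_one.1 hv1)
    obtain rfl : a = b := Subtype.ext (mul_right_cancel hab')
    rfl

/-- Elements of three distinct prime orders are at most `|G|`. -/
theorem card_three_le {p q r : ℕ} [Fact p.Prime] [Fact q.Prime] [Fact r.Prime] (hpq : p ≠ q)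
    (hpr : p ≠ r) (hqr : q ≠ r) (hp1 : ∀ P : Sylow p G, Nat.card (P : Subgroup G) = p)
    (hq1 : ∀ P : Sylow q G, Nat.card (P : Subgroup G) = q)
    (hr1 : ∀ P : Sylow r G, Nat.card (P : Subgroup G) = r) :
    Nat.card (Sylow p G) * (p - 1) + Nat.card (Sylow q G) * (q - 1) + Nat.card (Sylow r G) * (r - 1) ≤
      Nat.card G := by
  refine (Nat.add_le_add (Nat.add_le_add (Small.card_orderOf_ge hp1) (Small.card_orderOf_ge hq1))
    (Small.card_orderOf_ge hr1)).trans ?_
  rw [← Nat.card_sum, ← Nat.card_sum]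
  refine Nat.card_le_card_of_injective
    (Sum.elim (Sum.elim Subtype.val Subtype.val) Subtype.val) ?_
  rintro ((a | a) | a) ((b | b) | b) hab <;> simp only [Sum.elim_inl, Sum.elim_inr] at hab <;>
    first
      | rw [Subtype.ext hab]
      | (exfalso; have ha := a.2; rw [hab, b.2] at ha; omega)

end Cfsg.Agent.Ord6232
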