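import Cfsg.Agent.Lib.Small.Orders6232.Tools
import Cfsg.Agent.Lib.Small.OrdersExcluded
import Cfsg.Agent.S0987

/-!
Orders of no simple group, excluded by Sylow intersections.
-/

set_option autoImplicit false
set_option linter.unusedSectionVars false
set_option linter.style.haveILetI false
set_option linter.deprecated false

open Cfsg.Agent.CommFix

namespace Cfsg.Agent.Ord6232

variable {G : Type*} [Group G] [Finite G]

/-- An element generating the same subgroup has the same fixed cosets. -/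
theorem fix_zpowers_eq (H : Subgroup G) {u v : G} (h : Subgroup.zpowers u = Subgroup.zpowers v) :
    fix H u = fix H v := by
  have key : ∀ a b : G, Subgroup.zpowers a = Subgroup.zpowers b →
      ∀ q : G ⧸ H, q ∈ MulAction.fixedBy (G ⧸ H) a → q ∈ MulAction.fixedBy (G ⧸ H) b := by
    intro a b hab q hq
    obtain ⟨i, hi⟩ := Subgroup.mem_zpowers_iff.1 (hab ▸ Subgroup.mem_zpowers b)
    exact hi ▸ MulAction.mem_fixedBy_zpow hq i
  exact Nat.card_congr (Equiv.subtypeEquivRight fun q => ⟨key u v h q, key v u h.symm q⟩)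

/-- Burnside's orbit count on the cosets of `H`. -/
theorem sum_fix (H Q : Subgroup G) [Fintype Q] :
    ∑ u : Q, fix H (u : G) = Nat.card (MulAction.orbitRel.Quotient Q (G ⧸ H)) * Nat.card Q := by
  classical
  letI := Fintype.ofFinite (G ⧸ H)
  letI := Fintype.ofFinite (MulAction.orbitRel.Quotient Q (G ⧸ H))
  haveI : ∀ g : Q, Fintype (MulAction.fixedBy (G ⧸ H) g) := fun g => Fintype.ofFinite _
  have hb := MulAction.sum_card_fixedBy_eq_card_orbits_mul_card_group Q (G ⧸ H)
  rw [Nat.card_eq_fintype_card, Nat.card_eq_fintype_card, ← hb]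
  exact Finset.sum_congr rfl fun g _ => by rw [← Nat.card_eq_fintype_card]; rfl

/-- The orbit of the base coset under `N(Q)` among the cosets fixed by `Q`, when all of `Q` is covered by
the conjugates of a subgroup `D` of prime order, and the count that follows. -/
theorem line_orbit [IsSimpleGroup G] {p : ℕ} [hp : Fact p.Prime] (Q : Sylow p G)
    (hab : ∀ a ∈ (Q : Subgroup G), ∀ b ∈ (Q : Subgroup G), a * b = b * a) (D : Subgroup G)
    (hD : Nat.card D = p) (hDQ : D ≤ (Q : Subgroup G))
    (hM : Subgroup.normalizer (D : Set G) ≠ ⊤) :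
    ∃ c : ℕ, c * (p - 1) + 1 ≤ Nat.card (Q : Subgroup G) ∧
      Nat.card (Subgroup.normalizer ((Q : Subgroup G) : Set G)) ≤
        c * Nat.card (Subgroup.normalizer (D : Set G) ⊓ Subgroup.normalizer ((Q : Subgroup G) : Set G) :
          Subgroup G) ∧
      (c * (p - 1) + 1 = Nat.card (Q : Subgroup G) →
        ∃ f r : ℕ, f % p = (Subgroup.normalizer (D : Set G)).index % p ∧
          f < (Subgroup.normalizer (D : Set G)).index ∧
          (Subgroup.normalizer (D : Set G)).index + (Nat.card (Q : Subgroup G) - 1) * f =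
            r * Nat.card (Q : Subgroup G)) := by
  classical
  set M := Subgroup.normalizer (D : Set G) with hMdef
  set N := Subgroup.normalizer ((Q : Subgroup G) : Set G) with hNdef
  let F := {q : G ⧸ M // ∀ v ∈ (Q : Subgroup G), v • q = q}
  have hQM : (Q : Subgroup G) ≤ M := fun v hv => Subgroup.mem_normalizer_iff.2 fun d => by
    constructor
    · intro hd
      rw [hab v hv d (hDQ hd), mul_inv_cancel_right]; exact hd
    · intro hd
      have h2 : v⁻¹ * (v * d * v⁻¹) * v⁻¹⁻¹ = v * d * v⁻¹ := by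
        rw [hab _ (inv_mem hv) _ (hDQ hd), mul_inv_cancel_right]
      have h3 : v⁻¹ * (v * d * v⁻¹) * v⁻¹⁻¹ = d := by group
      rw [← h3, h2]; exact hd
  have hconj : ∀ q : F, ∀ d ∈ D, q.1.out * d * q.1.out⁻¹ ∈ (Q : Subgroup G) := by
    intro q d hd
    set D' := D.map (MulAut.conj q.1.out).toMonoidHom with hD'
    have hsup : IsPGroup p (D' ⊔ (Q : Subgroup G) : Subgroup G) := by
      have h1 : IsPGroup p D' := (IsPGroup.of_card (n := 1) (by rw [hD, pow_one])).map _
      refine h1.to_sup_of_normal_left' Q.isPGroup' ?_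
      intro v hv
      have h := q.2 v hv
      rw [← QuotientGroup.out_eq' q.1, MulAction.Quotient.smul_mk, QuotientGroup.eq, smul_eq_mul] at h
      have hm : q.1.out⁻¹ * v * q.1.out ∈ M := by
        have := inv_mem h
        simpa [mul_assoc] using this
      refine Subgroup.mem_normalizer_iff.2 fun e => ?_
      constructor
      · rintro ⟨d₀, hd₀, rfl⟩
        exact ⟨q.1.out⁻¹ * v * q.1.out * d₀ * (q.1.out⁻¹ * v * q.1.out)⁻¹,
          (Subgroup.mem_normalizer_iff.1 hm d₀).1 hd₀, by simp; group⟩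
      · rintro ⟨d₀, hd₀, hd₁⟩
        refine ⟨(q.1.out⁻¹ * v * q.1.out)⁻¹ * d₀ * ((q.1.out⁻¹ * v * q.1.out)⁻¹)⁻¹,
          (Subgroup.mem_normalizer_iff.1 (inv_mem hm) d₀).1 hd₀, ?_⟩
        simp only [MulEquiv.coe_toMonoidHom, MulAut.conj_apply] at hd₁ ⊢
        calc q.1.out * ((q.1.out⁻¹ * v * q.1.out)⁻¹ * d₀ * ((q.1.out⁻¹ * v * q.1.out)⁻¹)⁻¹) * q.1.out⁻¹
            = v⁻¹ * (q.1.out * d₀ * q.1.out⁻¹) * v := by group
          _ = v⁻¹ * (v * e * v⁻¹) * v := by rw [hd₁]
          _ = e := by group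
    have := Q.is_maximal' hsup le_sup_right
    exact this.le (Subgroup.mem_sup_left ⟨d, hd, rfl⟩)
  let φ : Option (F × {d : D // d ≠ 1}) → (Q : Subgroup G) := fun s =>
    match s with
    | none => 1
    | some s => ⟨s.1.1.out * (s.2.1 : G) * s.1.1.out⁻¹, hconj s.1 _ s.2.1.2⟩
  have hgen : ∀ d ∈ D, d ≠ 1 → Subgroup.zpowers d = D := fun d hd hd1 =>
    Subgroup.eq_of_le_of_card_ge (Subgroup.zpowers_le.2 hd) (by
      rw [Nat.card_zpowers, hD]
      have h1 := Subgroup.orderOf_dvd_natCard D hd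
      rw [hD] at h1
      rcases (Nat.dvd_prime hp.out).1 h1 with h | h
      · exact absurd (orderOf_eq_one_iff.1 h) hd1
      · exact h.ge)
  have hφ : Function.Injective φ := by
    rintro (_ | ⟨q, d⟩) (_ | ⟨q', d'⟩) he <;> have he' := congrArg Subtype.val he <;>
      simp only [φ, Subgroup.coe_one] at he'
    · rfl
    · exact absurd (Subtype.ext (conj_eq_one_iff.1 he'.symm)) d'.2
    · exact absurd (Subtype.ext (conj_eq_one_iff.1 he')) d.2
    · have hd1 : (d.1 : G) ≠ 1 := fun e => d.2 (Subtype.ext e)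
      have hd2 : (d'.1 : G) ≠ 1 := fun e => d'.2 (Subtype.ext e)
      have hm : q'.1.out⁻¹ * q.1.out ∈ M := by
        have hz : (Subgroup.zpowers (d.1 : G)).map (MulAut.conj (q'.1.out⁻¹ * q.1.out)).toMonoidHom =
            Subgroup.zpowers (d'.1 : G) := by
          rw [MonoidHom.map_zpowers]
          congr 1
          simp only [MulEquiv.coe_toMonoidHom, MulAut.conj_apply]
          calc q'.1.out⁻¹ * q.1.out * (d.1 : G) * (q'.1.out⁻¹ * q.1.out)⁻¹
              = q'.1.out⁻¹ * (q.1.out * (d.1 : G) * q.1.out⁻¹) * q'.1.out := by group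
            _ = q'.1.out⁻¹ * (q'.1.out * (d'.1 : G) * q'.1.out⁻¹) * q'.1.out := by rw [he']
            _ = _ := by group
        rw [hgen _ d.1.2 hd1, hgen _ d'.1.2 hd2] at hz
        generalize q'.1.out⁻¹ * q.1.out = w at hz ⊢
        exact Subgroup.mem_normalizer_iff.2 fun e => by
          conv_rhs => rw [← hz]
          constructor
          · intro he; exact ⟨e, he, by simp⟩
          · rintro ⟨e', he', h⟩
            simp at h
            rwa [← h]
      have hqq : q = q' := Subtype.ext (by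
        rw [← QuotientGroup.out_eq' q.1, ← QuotientGroup.out_eq' q'.1, QuotientGroup.eq]
        have := inv_mem hm
        simpa using this)
      subst hqq
      obtain rfl : d = d' := Subtype.ext (Subtype.ext (mul_left_cancel (mul_right_cancel he')))
      rfl
  have hDc : Nat.card {d : D // d ≠ 1} = p - 1 := by
    letI := Fintype.ofFinite D
    rw [Nat.card_eq_fintype_card, Fintype.card_subtype_compl, Fintype.card_subtype_eq,
      ← Nat.card_eq_fintype_card, hD]
  refine ⟨Nat.card F, ?_, ?_, fun hc => ?_⟩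
  · have := Nat.card_le_card_of_injective φ hφ
    rwa [Finite.card_option, Nat.card_prod, hDc] at this
  · have hle : (M.subgroupOf N).index ≤ Nat.card F := by
      rw [Subgroup.index]
      refine Nat.card_le_card_of_injective (fun q : N ⧸ M.subgroupOf N =>
        (⟨((q.out : G) : G ⧸ M), fun v hv => ?_⟩ : F)) ?_
      · rw [MulAction.Quotient.smul_mk, QuotientGroup.eq, smul_eq_mul]
        have h1 : (q.out : G)⁻¹ * v * (q.out : G) ∈ (Q : Subgroup G) :=
          (Subgroup.mem_normalizer_iff''.1 q.out.2 v).1 hv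
        have := inv_mem (hQM h1)
        simpa [mul_assoc] using this
      · intro a b hab'
        have h := congrArg Subtype.val hab'
        simp only [QuotientGroup.eq] at h
        rw [← QuotientGroup.out_eq' a, ← QuotientGroup.out_eq' b, QuotientGroup.eq,
          Subgroup.mem_subgroupOf]
        simpa using h
    rw [← Subgroup.card_mul_index (M.subgroupOf N), ← Nat.card_congr
      (Subgroup.subgroupOfEquivOfLe (inf_le_right : M ⊓ N ≤ N)).toEquiv, Subgroup.inf_subgroupOf_right,
      mul_comm]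
    exact Nat.mul_le_mul_right _ hle
  · have hbij : Function.Bijective φ := hφ.bijective_of_nat_card_le (by
      rw [Finite.card_option, Nat.card_prod, hDc, hc])
    obtain ⟨d₀, hd₀, hd₁⟩ : ∃ d ∈ D, d ≠ 1 := by
      by_contra hcon
      push Not at hcon
      have : D = ⊥ := (Subgroup.eq_bot_iff_forall D).2 hcon
      rw [this, Subgroup.card_bot] at hD
      exact hp.out.ne_one hD.symm
    have hd0o : orderOf d₀ = p := by rw [← Nat.card_zpowers, hgen d₀ hd₀ hd₁, hD]
    refine ⟨fix M d₀, Nat.card (MulAction.orbitRel.Quotient (Q : Subgroup G) (G ⧸ M)), ?_, ?_, ?_⟩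
    · exact (modEq_prime hp.out M hd0o).symm
    · exact fix_lt hM hd₁
    letI := Fintype.ofFinite (Q : Subgroup G)
    rw [← sum_fix M (Q : Subgroup G), ← Finset.add_sum_erase _ _ (Finset.mem_univ (1 : (Q : Subgroup G)))]
    have h1 : fix M ((1 : (Q : Subgroup G)) : G) = M.index :=
      Nat.card_congr (Equiv.subtypeUnivEquiv fun q => one_smul G q)
    rw [h1, Finset.sum_congr rfl (g := fun _ => fix M d₀) (fun u hu => ?_),
      Finset.sum_const, smul_eq_mul, Finset.card_erase_of_mem (Finset.mem_univ _), Finset.card_univ,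
      Nat.card_eq_fintype_card]
    obtain ⟨s, hs⟩ := hbij.2 u
    rcases s with _ | ⟨q, d⟩
    · exact absurd hs.symm (Finset.ne_of_mem_erase hu)
    · rw [← hs]
      show fix M (q.1.out * (d.1 : G) * q.1.out⁻¹) = fix M d₀
      rw [← fix_conj M (isConj_iff.2 ⟨q.1.out, rfl⟩ : IsConj (d.1 : G) _)]
      exact fix_zpowers_eq M (by rw [hgen _ d.1.2 (fun e => d.2 (Subtype.ext e)), hgen d₀ hd₀ hd₁])

variable [IsSimpleGroup G]

/-- A subgroup of prime order in two Sylow subgroups of order `p ^ 2`, and its normalizer. -/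
theorem exists_line {p : ℕ} [hp : Fact p.Prime] (hG : ¬ IsMulCommutative G) (P : Sylow p G)
    (hPc : Nat.card (P : Subgroup G) = p ^ 2) (hj : Nat.card (Sylow p G) % p ^ 2 ≠ 1 % p ^ 2) :
    ∃ D : Subgroup G, Nat.card D = p ∧ D ≤ (P : Subgroup G) ∧ Subgroup.normalizer (D : Set G) ≠ ⊤ ∧
      (P : Subgroup G) ≤ Subgroup.normalizer (D : Set G) ∧
      Nat.card (Sylow p (Subgroup.normalizer (D : Set G))) ≠ 1 := by
  obtain ⟨Q, hne, hrel⟩ := Small.exists_big_inter P hj
  set D := (P : Subgroup G) ⊓ (Q : Subgroup G) with hD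
  have hQc : Nat.card (Q : Subgroup G) = p ^ 2 := by
    rw [← hPc]; exact Nat.card_congr (Sylow.equiv Q P).toEquiv
  have hmul : Nat.card D * D.relIndex (P : Subgroup G) = p ^ 2 := by
    have h := (D.subgroupOf (P : Subgroup G)).card_mul_index
    rwa [Nat.card_congr (Subgroup.subgroupOfEquivOfLe (inf_le_left : D ≤ (P : Subgroup G))).toEquiv,
      hPc] at h
  have hDc : Nat.card D = p := by
    obtain ⟨i, hi, hic⟩ := (Nat.dvd_prime_pow hp.out).1 (Dvd.intro _ hmul)
    interval_cases i
    · rw [hic, pow_zero, one_mul] at hmul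
      omega
    · rw [hic, pow_one]
    · exfalso
      apply hne
      have h1 : D = (P : Subgroup G) := Subgroup.eq_of_le_of_card_ge inf_le_left (by rw [hic, hPc])
      have h2 : D = (Q : Subgroup G) := Subgroup.eq_of_le_of_card_ge inf_le_right (by rw [hic, hQc])
      exact Sylow.ext (h2.symm.trans h1)
  have hDle : ∀ R : Sylow p G, Nat.card (R : Subgroup G) = p ^ 2 → D ≤ (R : Subgroup G) →
      (R : Subgroup G) ≤ Subgroup.normalizer (D : Set G) := by
    intro R hR hDR r hr
    refine Small.centralizer_le_normalizer D (Subgroup.mem_centralizer_iff.2 fun d hd => ?_)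
    exact congrArg Subtype.val (IsPGroup.commutative_of_card_eq_prime_sq hR ⟨d, hDR hd⟩ ⟨r, hr⟩)
  have hPM := hDle P hPc inf_le_left
  have hQM := hDle Q hQc inf_le_right
  refine ⟨D, hDc, inf_le_left, ?_, hPM, fun h => ?_⟩
  · intro htop
    rcases (Subgroup.normalizer_eq_top_iff.1 htop).eq_bot_or_eq_top with e | e
    · rw [e, Subgroup.card_bot] at hDc
      exact hp.out.ne_one hDc.symm
    · apply hne
      exact Sylow.ext ((top_le_iff.1 (e ▸ (inf_le_right : D ≤ (Q : Subgroup G)))).trans
        (top_le_iff.1 (e ▸ (inf_le_left : D ≤ (P : Subgroup G)))).symm)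
  · haveI := (Nat.card_eq_one_iff_unique.1 h).1
    have := congrArg Sylow.toSubgroup (Subsingleton.elim (P.subtype hPM) (Q.subtype hQM))
    rw [Sylow.coe_subtype, Sylow.coe_subtype, Subgroup.subgroupOf_inj, inf_eq_left.2 hPM,
      inf_eq_left.2 hQM] at this
    exact hne (Sylow.ext this.symm)

theorem factorial_index {M : Subgroup G} (hG : ¬ IsMulCommutative G) (hM : M ≠ ⊤) :
    2 * Nat.card G ∣ M.index.factorial := Small.card_two_mul_dvd_factorial hG hM

theorem card_ne_4500 : Nat.card G ≠ 4500 := by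
  intro hn
  haveI : Fact (Nat.Prime 5) := ⟨by norm_num⟩
  have hG := Small.not_comm_of_card (G := G) (by rw [hn]; norm_num)
  have hk : Nat.card G = 5 ^ 3 * 36 := by rw [hn]; norm_num
  have hm := Small.sylow_number_mem hk (by norm_num)
  rw [show (Nat.divisors 36).filter (fun d => d % 5 = 1) = {1, 6, 36} by decide +kernel] at hm
  simp only [Finset.mem_insert, Finset.mem_singleton] at hm
  obtain ⟨P⟩ : Nonempty (Sylow 5 G) := inferInstance
  have hfac := Small.factorial_bound (p := 5) hG (by rw [hn]; norm_num)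
  rcases hm with h | h | h
  · exact Small.sylow_number_ne_one (p := 5) hG (by rw [hn]; norm_num) h
  · rw [h, hn] at hfac; norm_num [Nat.factorial] at hfac
  obtain ⟨Q, hne, hrel⟩ := Small.exists_big_inter P (j := 2) (by rw [h]; norm_num)
  obtain ⟨M, hM, hPM, hs⟩ := OrderTools.exists_overgroup_index hG P Q hne (a := 3) (by norm_num)
    (Small.sylow_card hk (by norm_num) P) hrel
  obtain ⟨l, -, hl, hlm, hne', hd⟩ := OrderTools.overgroup_data P hk (by norm_num) hM hPM hs
  have key : ∀ l ∈ Nat.divisors 36, (∃ d ∈ l.divisors, d ≠ 1 ∧ d % 5 = 1) → 6 ≤ l := by decide +kernel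
  have := key l hlm hd
  have hidx : M.index ≤ 6 := by nlinarith
  have hf := (factorial_index hG hM).trans (Nat.factorial_dvd_factorial hidx)
  rw [hn] at hf
  norm_num [Nat.factorial] at hf

theorem card_ne_6000 : Nat.card G ≠ 6000 := by
  intro hn
  haveI : Fact (Nat.Prime 5) := ⟨by norm_num⟩
  have hG := Small.not_comm_of_card (G := G) (by rw [hn]; norm_num)
  have hk : Nat.card G = 5 ^ 3 * 48 := by rw [hn]; norm_num
  have hm := Small.sylow_number_mem hk (by norm_num)
  rw [show (Nat.divisors 48).filter (fun d => d % 5 = 1) = {1, 6, 16} by decide +kernel] at hm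
  simp only [Finset.mem_insert, Finset.mem_singleton] at hm
  obtain ⟨P⟩ : Nonempty (Sylow 5 G) := inferInstance
  have hfac := Small.factorial_bound (p := 5) hG (by rw [hn]; norm_num)
  rcases hm with h | h | h
  · exact Small.sylow_number_ne_one (p := 5) hG (by rw [hn]; norm_num) h
  · rw [h, hn] at hfac; norm_num [Nat.factorial] at hfac
  obtain ⟨Q, hne, hrel⟩ := Small.exists_big_inter P (j := 2) (by rw [h]; norm_num)
  obtain ⟨M, hM, hPM, hs⟩ := OrderTools.exists_overgroup_index hG P Q hne (a := 3) (by norm_num)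
    (Small.sylow_card hk (by norm_num) P) hrel
  obtain ⟨l, -, hl, hlm, hne', hd⟩ := OrderTools.overgroup_data P hk (by norm_num) hM hPM hs
  have key : ∀ l ∈ Nat.divisors 48, (∃ d ∈ l.divisors, d ≠ 1 ∧ d % 5 = 1) → 6 ≤ l := by decide +kernel
  have := key l hlm hd
  have hidx : M.index ≤ 8 := by nlinarith
  have hf := (factorial_index hG hM).trans (Nat.factorial_dvd_factorial hidx)
  rw [hn] at hf
  norm_num [Nat.factorial] at hf

theorem card_ne_5292 : Nat.card G ≠ 5292 := by
  intro hn
  haveI : Fact (Nat.Prime 7) := ⟨by norm_num⟩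
  have hG := Small.not_comm_of_card (G := G) (by rw [hn]; norm_num)
  have hk : Nat.card G = 7 ^ 2 * 108 := by rw [hn]; norm_num
  have hm := Small.sylow_number_mem hk (by norm_num)
  rw [show (Nat.divisors 108).filter (fun d => d % 7 = 1) = {1, 36} by decide +kernel] at hm
  simp only [Finset.mem_insert, Finset.mem_singleton] at hm
  obtain ⟨P⟩ : Nonempty (Sylow 7 G) := inferInstance
  rcases hm with h | h
  · exact Small.sylow_number_ne_one (p := 7) hG (by rw [hn]; norm_num) h
  obtain ⟨Q, hne, hrel⟩ := Small.exists_big_inter P (j := 2) (by rw [h]; norm_num)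
  obtain ⟨M, hM, hPM, hs⟩ := OrderTools.exists_overgroup_index hG P Q hne (a := 2) (by norm_num)
    (Small.sylow_card hk (by norm_num) P) hrel
  obtain ⟨l, -, hl, hlm, hne', hd⟩ := OrderTools.overgroup_data P hk (by norm_num) hM hPM hs
  have key : ∀ l ∈ Nat.divisors 108, (∃ d ∈ l.divisors, d ≠ 1 ∧ d % 7 = 1) → 36 ≤ l := by decide +kernel
  have := key l hlm hd
  have hidx : M.index ≤ 3 := by nlinarith
  have hf := (factorial_index hG hM).trans (Nat.factorial_dvd_factorial hidx)
  rw [hn] at hf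
  norm_num [Nat.factorial] at hf

theorem card_ne_5880 : Nat.card G ≠ 5880 := by
  intro hn
  haveI : Fact (Nat.Prime 7) := ⟨by norm_num⟩
  have hG := Small.not_comm_of_card (G := G) (by rw [hn]; norm_num)
  have hk : Nat.card G = 7 ^ 2 * 120 := by rw [hn]; norm_num
  have hm := Small.sylow_number_mem hk (by norm_num)
  rw [show (Nat.divisors 120).filter (fun d => d % 7 = 1) = {1, 8, 15, 120} by decide +kernel] at hm
  simp only [Finset.mem_insert, Finset.mem_singleton] at hm
  obtain ⟨P⟩ : Nonempty (Sylow 7 G) := inferInstance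
  have hPc := Small.sylow_card hk (by norm_num) P
  have hab : ∀ a ∈ (P : Subgroup G), ∀ b ∈ (P : Subgroup G), a * b = b * a := fun a ha b hb =>
    congrArg Subtype.val (IsPGroup.commutative_of_card_eq_prime_sq hPc ⟨a, ha⟩ ⟨b, hb⟩)
  have hfac := Small.factorial_bound (p := 7) hG (by rw [hn]; norm_num)
  have hN := Small.card_normalizer_mul P
  rw [hn] at hN
  rcases hm with h | h | h | h
  · exact Small.sylow_number_ne_one (p := 7) hG (by rw [hn]; norm_num) h
  · rw [h, hn] at hfac; norm_num [Nat.factorial] at hfac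
  · rw [h] at hN
    have hN392 : Nat.card (Subgroup.normalizer ((P : Subgroup G) : Set G)) = 392 := by omega
    obtain ⟨D, hD, hDP, hM, hPM, hs⟩ := exists_line hG P hPc (by rw [h]; norm_num)
    obtain ⟨c, hc1, hc2, hc3⟩ := line_orbit P hab D hD hDP hM
    set M := Subgroup.normalizer (D : Set G) with hMdef
    rw [hPc] at hc1 hc3
    rw [hN392] at hc2
    have he := CommFix.card_overgroup P hPM
    have ha49 : 49 ∣ Nat.card (M ⊓ Subgroup.normalizer ((P : Subgroup G) : Set G) : Subgroup G) := by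
      simpa [hPc] using Subgroup.card_dvd_of_le (le_inf hPM Subgroup.le_normalizer)
    have ha : Nat.card (M ⊓ Subgroup.normalizer ((P : Subgroup G) : Set G) : Subgroup G) ∣ 392 :=
      hN392 ▸ Subgroup.card_dvd_of_le inf_le_right
    have hd : Nat.card (Sylow 7 M) % 7 = 1 := by
      rw [card_sylow_modEq_one 7 M]
    have hdd : Nat.card M ∣ 5880 := hn ▸ M.card_subgroup_dvd_card
    have hmi := M.card_mul_index
    rw [hn] at hmi
    have hk14 : 14 ≤ M.index := by
      by_contra hlt
      have hf := (factorial_index hG hM).trans (Nat.factorial_dvd_factorial (show M.index ≤ 13 by omega))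
      rw [hn] at hf
      norm_num [Nat.factorial] at hf
    have key : ∀ a ∈ Nat.divisors 392, 49 ∣ a → ∀ d ∈ Nat.divisors 120, d % 7 = 1 → d ≠ 1 →
        d * a ∣ 5880 → 14 * (d * a) ≤ 5880 → a = 49 ∧ d = 8 := by decide +kernel
    obtain ⟨e1, e2⟩ := key _ (Nat.mem_divisors.2 ⟨ha, by norm_num⟩) ha49 (Nat.card (Sylow 7 M))
      (Nat.mem_divisors.2 ⟨by
        have h1 : Nat.card (Sylow 7 M) ∣ 5880 := (Dvd.intro _ he.symm).trans hdd
        have h2 : Nat.Coprime (Nat.card (Sylow 7 M)) (7 ^ 2) := (Nat.Coprime.pow_right 2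
          (((Fact.out : Nat.Prime 7).coprime_iff_not_dvd.2 (by omega)).symm))
        exact h2.dvd_of_dvd_mul_left (show _ ∣ 7 ^ 2 * 120 by norm_num; exact h1), by norm_num⟩)
      hd hs (he ▸ hdd) (by rw [← he, ← hmi]; nlinarith)
    rw [e1, e2] at he
    rw [e1] at hc2
    obtain ⟨f, r, hf1, hf2, hf3⟩ := hc3 (by norm_num at hc1 ⊢; omega)
    rw [he] at hmi
    have hidx : M.index = 15 := by omega
    rw [hidx] at hf1 hf2 hf3
    norm_num at hf3
    omega
  · rw [h] at hN
    have hN49 : Nat.card (Subgroup.normalizer ((P : Subgroup G) : Set G)) = 49 := by omega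
    have heq : (P : Subgroup G) = Subgroup.normalizer ((P : Subgroup G) : Set G) :=
      Subgroup.eq_of_le_of_card_ge Subgroup.le_normalizer (by rw [hN49, hPc]; norm_num)
    obtain ⟨u, hu⟩ := exists_prime_orderOf_dvd_card' (G := (P : Subgroup G)) 7 (by rw [hPc]; norm_num)
    have := focal_eq_one hG P hab u.2 fun n hn' => hab n (by rw [heq]; exact hn') u u.2
    rw [orderOf_eq_one_iff.2 (Subtype.ext this)] at hu
    omega

theorem card_ne_4800 : Nat.card G ≠ 4800 := by
  intro hn
  haveI : Fact (Nat.Prime 5) := ⟨by norm_num⟩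
  have hG := Small.not_comm_of_card (G := G) (by rw [hn]; norm_num)
  have hk : Nat.card G = 5 ^ 2 * 192 := by rw [hn]; norm_num
  have hm := Small.sylow_number_mem hk (by norm_num)
  rw [show (Nat.divisors 192).filter (fun d => d % 5 = 1) = {1, 6, 16, 96} by decide +kernel] at hm
  simp only [Finset.mem_insert, Finset.mem_singleton] at hm
  obtain ⟨P⟩ : Nonempty (Sylow 5 G) := inferInstance
  have hPc := Small.sylow_card hk (by norm_num) P
  have hab : ∀ a ∈ (P : Subgroup G), ∀ b ∈ (P : Subgroup G), a * b = b * a := fun a ha b hb =>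
    congrArg Subtype.val (IsPGroup.commutative_of_card_eq_prime_sq hPc ⟨a, ha⟩ ⟨b, hb⟩)
  have hfac := Small.factorial_bound (p := 5) hG (by rw [hn]; norm_num)
  have hN := Small.card_normalizer_mul P
  rw [hn] at hN
  rcases hm with h | h | h
  · exact Small.sylow_number_ne_one (p := 5) hG (by rw [hn]; norm_num) h
  · rw [h, hn] at hfac; norm_num [Nat.factorial] at hfac
  obtain ⟨D, hD, hDP, hM, hPM, hs⟩ := exists_line hG P hPc (by rcases h with h | h <;> rw [h] <;> norm_num)
  set M := Subgroup.normalizer (D : Set G) with hMdef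
  set N := Subgroup.normalizer ((P : Subgroup G) : Set G) with hNdef
  have he := CommFix.card_overgroup P hPM
  rw [← hNdef] at he
  have ha25 : 25 ∣ Nat.card (M ⊓ N : Subgroup G) := by
    have h1 : Nat.card (P : Subgroup G) ∣ Nat.card (M ⊓ N : Subgroup G) :=
      Subgroup.card_dvd_of_le (le_inf hPM Subgroup.le_normalizer)
    rw [hPc] at h1
    exact h1
  have hd : Nat.card (Sylow 5 M) % 5 = 1 := by rw [card_sylow_modEq_one 5 M]
  have hdd : Nat.card M ∣ 4800 := hn ▸ M.card_subgroup_dvd_card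
  have hmi := M.card_mul_index
  rw [hn] at hmi
  have hk10 : 10 ≤ M.index := by
    by_contra hlt
    have hf := (factorial_index hG hM).trans (Nat.factorial_dvd_factorial (show M.index ≤ 9 by omega))
    rw [hn] at hf
    norm_num [Nat.factorial] at hf
  have hd192 : Nat.card (Sylow 5 M) ∈ Nat.divisors 192 := Nat.mem_divisors.2 ⟨by
    have h1 : Nat.card (Sylow 5 M) ∣ 4800 := (Dvd.intro _ he.symm).trans hdd
    have h2 : Nat.Coprime (Nat.card (Sylow 5 M)) (5 ^ 2) := (Nat.Coprime.pow_right 2
      (((Fact.out : Nat.Prime 5).coprime_iff_not_dvd.2 (by omega)).symm))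
    exact h2.dvd_of_dvd_mul_left (show _ ∣ 5 ^ 2 * 192 by norm_num; exact h1), by norm_num⟩
  rcases h with h | h <;> rw [h] at hN
  · have hN300 : Nat.card N = 300 := by omega
    obtain ⟨c, hc1, hc2, hc3⟩ := line_orbit P hab D hD hDP hM
    rw [hPc] at hc1 hc3
    rw [← hNdef, hN300, ← hMdef] at hc2
    have ha : Nat.card (M ⊓ N : Subgroup G) ∣ 300 := hN300 ▸ Subgroup.card_dvd_of_le inf_le_right
    have hc6 : c ≤ 6 := by norm_num at hc1; omega
    have hc2' : 300 ≤ 6 * Nat.card (M ⊓ N : Subgroup G) := hc2.trans (Nat.mul_le_mul_right _ hc6)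
    have key : ∀ a ∈ Nat.divisors 300, 25 ∣ a → ∀ d ∈ Nat.divisors 192, d % 5 = 1 → d ≠ 1 →
        d * a ∣ 4800 → 10 * (d * a) ≤ 4800 → 300 ≤ 6 * a → a = 50 ∧ d = 6 := by decide +kernel
    obtain ⟨e1, e2⟩ := key _ (Nat.mem_divisors.2 ⟨ha, by norm_num⟩) ha25 _ hd192 hd hs (he ▸ hdd)
      (by rw [← he, ← hmi]; nlinarith) hc2'
    rw [e1, e2] at he
    rw [e1] at hc2
    obtain ⟨f, r, hf1, hf2, hf3⟩ := hc3 (by norm_num at hc1 ⊢; omega)
    rw [← hMdef] at hf1 hf2 hf3
    rw [he] at hmi
    have hidx : M.index = 16 := by omega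
    rw [hidx] at hf1 hf2 hf3
    norm_num at hf3
    omega
  have hN50 : Nat.card N = 50 := by omega
  have hPN : (P : Subgroup G) ≤ N := Subgroup.le_normalizer
  have hPi : ((P : Subgroup G).subgroupOf N).index = 2 := by
    have := ((P : Subgroup G).subgroupOf N).card_mul_index
    rw [Nat.card_congr (Subgroup.subgroupOfEquivOfLe hPN).toEquiv, hPc, hN50] at this
    omega
  -- `N` inverts `P`
  have hfree : ∀ n ∈ N, n ∉ (P : Subgroup G) → ∀ w ∈ (P : Subgroup G), n * w = w * n → w = 1 := by
    intro n hn' hnP w hw hnw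
    refine focal_eq_one hG P hab hw fun m hm' => ?_
    by_cases hmP : m ∈ (P : Subgroup G)
    · exact hab m hmP w hw
    · have h1 : n⁻¹ * m ∈ (P : Subgroup G) := by
        have := (Subgroup.mul_mem_iff_of_index_two hPi (a := (⟨n⁻¹, inv_mem hn'⟩ : N)) (b := ⟨m, hm'⟩)).2
          (iff_of_false (fun h => hnP (by simpa using inv_mem (Subgroup.mem_subgroupOf.1 h)))
            (fun h => hmP (Subgroup.mem_subgroupOf.1 h)))
        exact Subgroup.mem_subgroupOf.1 this
      have h2 := hab _ h1 w hw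
      calc m * w = n * (n⁻¹ * m * w) := by group
        _ = n * w * (n⁻¹ * m) := by rw [h2]; group
        _ = w * n * (n⁻¹ * m) := by rw [hnw]
        _ = w * m := by group
  have hinv : ∀ n ∈ N, n ∉ (P : Subgroup G) → ∀ w ∈ (P : Subgroup G), n * w * n⁻¹ = w⁻¹ := by
    intro n hn' hnP w hw
    have hw' : n * w * n⁻¹ ∈ (P : Subgroup G) := (Subgroup.mem_normalizer_iff.1 hn' w).1 hw
    have hn2 : n * n ∈ (P : Subgroup G) :=
      Subgroup.mem_subgroupOf.1 (Subgroup.mul_self_mem_of_index_two hPi (⟨n, hn'⟩ : N))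
    have h2 : n * (n * w * n⁻¹) * n⁻¹ = w := by
      calc n * (n * w * n⁻¹) * n⁻¹ = (n * n) * w * (n * n)⁻¹ := by group
        _ = w := by rw [hab _ hn2 w hw, mul_inv_cancel_right]
    have hfix : n * (w * (n * w * n⁻¹)) = (w * (n * w * n⁻¹)) * n := by
      calc n * (w * (n * w * n⁻¹)) = (n * w * n⁻¹) * (n * (n * w * n⁻¹) * n⁻¹) * n := by group
        _ = (n * w * n⁻¹) * w * n := by rw [h2]
        _ = (w * (n * w * n⁻¹)) * n := by rw [hab _ hw' w hw]
    exact eq_inv_of_mul_eq_one_right (hfree n hn' hnP _ (mul_mem hw hw') hfix)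
  have hNM : N ≤ M := by
    intro n hn'
    by_cases hnP : n ∈ (P : Subgroup G)
    · exact hPM hnP
    rw [hMdef, Subgroup.mem_normalizer_iff]
    intro e
    constructor
    · intro he'
      rw [hinv n hn' hnP e (hDP he')]
      exact inv_mem he'
    · intro he'
      have hn1 : n⁻¹ ∉ (P : Subgroup G) := fun h => hnP (by simpa using inv_mem h)
      have h3 := hinv n⁻¹ (inv_mem hn') hn1 _ (hDP he')
      have h4 : e = (n * e * n⁻¹)⁻¹ := by rw [← h3]; group
      rw [h4]; exact inv_mem he'
  rw [inf_eq_right.2 hNM, hN50] at he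
  have key : ∀ d ∈ Nat.divisors 192, d % 5 = 1 → d ≠ 1 → d * 50 ∣ 4800 → 10 * (d * 50) ≤ 4800 → d = 6 := by
    decide +kernel
  have e2 := key _ hd192 hd hs (he ▸ hdd) (by rw [← he, ← hmi]; nlinarith)
  rw [e2] at he
  set C := Subgroup.centralizer (D : Set G) with hCdef
  have hPC : (P : Subgroup G) ≤ C := fun v hv => Subgroup.mem_centralizer_iff.2 fun d hd => hab d (hDP hd) v hv
  have hCM : C ≤ M := Small.centralizer_le_normalizer D
  obtain ⟨d₀, hd₀⟩ := exists_prime_orderOf_dvd_card' (G := D) 5 (by rw [hD])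
  have hd₀' : orderOf (d₀ : G) = 5 := by rw [Subgroup.orderOf_coe, hd₀]
  have hCN : C ⊓ N = (P : Subgroup G) := by
    refine le_antisymm (fun n hn' => ?_) (le_inf hPC hPN)
    by_contra hnP
    have h1 := hinv n (Subgroup.mem_inf.1 hn').2 hnP d₀ (hDP d₀.2)
    rw [← Subgroup.mem_centralizer_iff.1 (Subgroup.mem_inf.1 hn').1 _ d₀.2, mul_inv_cancel_right] at h1
    have h2 : (d₀ : G) ^ 2 = 1 := by
      rw [pow_two]
      nth_rw 1 [h1]
      exact inv_mul_cancel _
    have := orderOf_dvd_of_pow_eq_one h2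
    rw [hd₀'] at this
    norm_num at this
  have heC := CommFix.card_overgroup P hPC
  rw [← hNdef, hCN, hPc] at heC
  have hC1 : Nat.card C ∣ 300 := by
    have := Subgroup.card_dvd_of_le hCM
    rwa [he] at this
  have hC2 : 300 ∣ Nat.card C * 4 := by
    have := Small.card_normalizer_dvd D hD
    rwa [← hMdef, he] at this
  have hdC : Nat.card (Sylow 5 C) % 5 = 1 := by rw [card_sylow_modEq_one 5 C]
  have hC150 : Nat.card C = 150 := by
    have key : ∀ s ∈ Finset.range 13, s % 5 = 1 → 300 ∣ s * 5 ^ 2 * 4 → s * 5 ^ 2 ∣ 300 → s = 6 := by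
      decide +kernel
    have hs13 : Nat.card (Sylow 5 C) < 13 := by
      have := Nat.le_of_dvd (by norm_num) hC1
      rw [heC] at this
      omega
    rw [heC, key _ (Finset.mem_range.2 hs13) hdC (heC ▸ hC2) (heC ▸ hC1)]
    norm_num
  haveI hDn : (D.subgroupOf C).Normal := ⟨fun a ha g => by
    have hcomm := Subgroup.mem_centralizer_iff.1 g.2 (a : G) ha
    rw [Subgroup.mem_subgroupOf]
    push_cast
    rw [← hcomm, mul_inv_cancel_right]
    exact ha⟩
  have hDC : D ≤ C := hDP.trans hPC
  have hq : Nat.card (C ⧸ D.subgroupOf C) = 2 * 3 * 5 := by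
    have := Subgroup.card_eq_card_quotient_mul_card_subgroup (D.subgroupOf C)
    rw [hC150, Nat.card_congr (Subgroup.subgroupOfEquivOfLe hDC).toEquiv, hD] at this
    omega
  set π := QuotientGroup.mk' (D.subgroupOf C) with hπ
  have hR : ((P.subtype hPC).mapSurjective (QuotientGroup.mk'_surjective _) : Sylow 5 (C ⧸ D.subgroupOf C)).toSubgroup.Normal :=
    S0987.result 2 3 5 Nat.prime_two Nat.prime_three (by norm_num) (by norm_num) hq _
  rw [Sylow.coe_mapSurjective] at hR
  have hRn := hR.comap π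
  rw [Subgroup.comap_map_eq, QuotientGroup.ker_mk', Sylow.coe_subtype,
    sup_eq_left.2 (fun a ha => Subgroup.mem_subgroupOf.2 (hDP (Subgroup.mem_subgroupOf.1 ha)))] at hRn
  have hle : C ≤ N := fun g hg => Subgroup.mem_normalizer_iff.2 fun v => by
    constructor
    · intro hv
      exact hRn.conj_mem ⟨v, hPC hv⟩ hv ⟨g, hg⟩
    · intro hv
      have := hRn.conj_mem ⟨g * v * g⁻¹, hPC hv⟩ hv (⟨g, hg⟩⁻¹)
      rw [Subgroup.mem_subgroupOf] at this
      push_cast at this
      simpa [mul_assoc] using this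
  have := Subgroup.card_dvd_of_le hle
  rw [hC150, hN50] at this
  norm_num at this

end Cfsg.Agent.Ord6232
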